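import Groth.Agent.Nakai.Strict
import Groth.Agent.Intersect.Numer

/-!
Strict nefness of ample modules, semiampleness and numerical invariance of ampleness.
-/

set_option autoImplicit false
set_option backward.isDefEq.respectTransparency false
set_option linter.style.haveILetI false
set_option linter.unusedSectionVars false

universe u

open CategoryTheory CategoryTheory.Limits AlgebraicGeometry TopologicalSpace
open Groth.Agent.Intersect

noncomputable section

namespace Groth.Agent.Nakai

variable {X : Scheme.{u}} (k : Type u) [Field k] [X.Over (Spec (CommRingCat.of k))] [IsProper (X ↘ Spec (CommRingCat.of k))]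

theorem strictNef_of_pos {L : X.Modules}
    (h : ∀ C : X.IdealSheafData, IsIntegral C.subscheme → topologicalKrullDim (C.support : Set X) = 1 →
      0 < (-1 : ℚ) ^ 1 * alt (χt k (ClSub.quotMod C) fun _ : Fin 1 => L)) : StrictNef k L := fun C hC hd => by
  have h1 := h C hC hd
  rw [← D_replicate, List.replicate_one, D_one, pow_one] at h1
  have h2 : ((Curv2.euler k X (ClSub.quotMod C) : ℤ) : ℚ) < Curv2.euler k X (CohB1.tensorMod (ClSub.quotMod C) L) := by
    linarith
  exact sub_pos.2 (by exact_mod_cast h2)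

theorem strictNef_of_isAmple {L : X.Modules} (hL : CohB1.IsAmple L) : StrictNef k L := by
  haveI := CurveRR.isNoetherian_of_proper k X
  exact strictNef_of_pos k fun C _ hd => alt_pos k 1 _ (fun _ => hL) _ (CurveRR.isCoh_idealMod C).2
    ((dim_support_quotMod C).trans hd)

theorem strictNef_of_restrict {L : X.Modules} (hL : PicF.IsInvertible L)
    (h : ∀ C : X.IdealSheafData, IsIntegral C.subscheme → topologicalKrullDim (C.support : Set X) = 1 →
      CohB1.IsAmple ((Scheme.Modules.pullback C.subschemeι).obj L)) : StrictNef k L := by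
  refine strictNef_of_pos k fun C hC hd => ?_
  letI : C.subscheme.Over (Spec (CommRingCat.of k)) := ⟨C.subschemeι ≫ (X ↘ Spec (CommRingCat.of k))⟩
  haveI : IsProper (C.subscheme ↘ Spec (CommRingCat.of k)) := inferInstanceAs (IsProper (C.subschemeι ≫ _))
  haveI := CurveRR.isNoetherian_of_proper k C.subscheme
  have hY : topologicalKrullDim C.subscheme = ((1 : ℕ) : WithBot ℕ∞) := by
    rw [IsHomeomorph.topologicalKrullDim_eq _ C.subschemeι.isClosedEmbedding.isEmbedding.toHomeomorph.isHomeomorph,
      C.range_subschemeι, hd]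
    rfl
  have h1 := alt_quot_ker k C.subschemeι hL 1
  rw [Scheme.IdealSheafData.ker_subschemeι] at h1
  rw [h1]
  exact alt_pos k 1 _ (fun _ => h C hC hd) _ RefStalk.isCoh_structureModule (dim_support_structure.trans hY)

theorem effSub_of_generated {L : X.Modules} (hL : PicF.IsInvertible L) (m : ℕ)
    (hg : Curv2.IsGloballyGenerated (CohB1.tensorPow L (m + 1))) : EffSub L := fun ξ => by
  haveI : IsIntegral (Scheme.IdealSheafData.vanishingIdeal (Devissage.Zc ξ)).subscheme := Devissage.Zi_isIntegral ξ
  obtain ⟨s, hs⟩ := exists_section_ne_zero (Devissage.Zi ξ) (TMul.isInvertible_tensorPow hL (m + 1)) hg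
  obtain ⟨e⟩ := TMul.nonempty_pullPowIso (Devissage.Zi ξ) L (m + 1)
  exact ⟨m, s ≫ e.inv, fun h => hs (by simpa using congrArg (fun φ => φ ≫ e.hom) h)⟩

include k in
theorem exists_generated_of_isAmple {L : X.Modules} (hL : CohB1.IsAmple L) :
    ∃ m : ℕ, Curv2.IsGloballyGenerated (CohB1.tensorPow L (m + 1)) := by
  haveI := CurveRR.isNoetherian_of_proper k X
  have hO : Coh.IsCoh (Coh.structureModule X) := RefStalk.isCoh_structureModule
  haveI : (Coh.structureModule X).IsQuasicoherent := hO.1
  obtain ⟨n₀, h⟩ := TMul.eventually_isGloballyGenerated hL (F := Coh.structureModule X) hO.2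
  obtain ⟨ι, p, hp⟩ := h (n₀ + 1) (Nat.le_succ _)
  haveI := hp
  exact ⟨n₀, ι, p ≫ (TMul.leftUnitIso _).hom, inferInstance⟩

theorem isAmple_of_numEq {L L' : X.Modules} (hL' : PicF.IsInvertible L') (hn : NumEq k L L')
    (hA : CohB1.IsAmple L) : CohB1.IsAmple L' := by
  haveI := CurveRR.isNoetherian_of_proper k X
  refine (isAmple_iff k hL').2 fun Z _ d _ hd P hP => ?_
  have hQ : Coh.IsCoh (ClSub.quotMod Z) := (CurveRR.isCoh_idealMod Z).2
  have hs := (dim_support_quotMod Z).trans hd
  rw [exists_coeff_eq k _ hQ (fun _ => hL') hs.le P hP,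
    ← alt_numeric k d (fun _ => L) (fun _ => L') (fun _ => hA.1) (fun _ => hL') (fun _ => hn) _ hQ hs.le]
  exact alt_pos k d _ (fun _ => hA) _ hQ hs

theorem numEq_of_ideals {L L' : X.Modules}
    (h : ∀ C : X.IdealSheafData, IsIntegral C.subscheme → topologicalKrullDim (C.support : Set X) = 1 →
      Curv2.euler k X (CohB1.tensorMod (ClSub.quotMod C) L) = Curv2.euler k X (CohB1.tensorMod (ClSub.quotMod C) L')) :
    NumEq k L L' := fun ξ hξ =>
  h (Scheme.IdealSheafData.vanishingIdeal (Devissage.Zc ξ)) (Devissage.Zi_isIntegral ξ)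
    (by rw [support_vanishing, hξ]; rfl)

end Groth.Agent.Nakai
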