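import Groth.Agent.Nakai.NefApps
import Groth.Agent.Rigid.DimDrop

/-!
Over every integral closed subscheme of the target of a proper surjection lies one of the same dimension.
-/

set_option autoImplicit false
set_option backward.isDefEq.respectTransparency false
set_option linter.style.haveILetI false
set_option linter.unusedSectionVars false

universe u

open CategoryTheory CategoryTheory.Limits AlgebraicGeometry TopologicalSpace
open Groth.Agent.Intersect

noncomputable section

namespace Groth.Agent.Nakai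

variable {X Y : Scheme.{u}} (k : Type u) [Field k]
  [X.Over (Spec (CommRingCat.of k))] [IsProper (X ↘ Spec (CommRingCat.of k))]
  [Y.Over (Spec (CommRingCat.of k))] [IsProper (Y ↘ Spec (CommRingCat.of k))]
  (g : Y ⟶ X) [IsProper g] [Surjective g]

include k in
theorem exists_over (hg : g ≫ (X ↘ Spec (CommRingCat.of k)) = Y ↘ Spec (CommRingCat.of k)) (ξ : X) :
    ∃ η : Y, g η = ξ ∧ topologicalKrullDim (closure ({η} : Set Y)) = topologicalKrullDim (closure ({ξ} : Set X)) := by
  obtain ⟨y₀, hy₀⟩ := g.surjective ξ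
  haveI : Nonempty (g.fiber ξ) := ⟨(g.fiberHomeo ξ).symm ⟨y₀, hy₀⟩⟩
  haveI : CompactSpace (g ⁻¹' {ξ}) := (g.fiberHomeo ξ).compactSpace
  haveI : T0Space (g ⁻¹' {ξ}) := Subtype.t0Space
  haveI : Nonempty (g ⁻¹' {ξ}) := ⟨⟨y₀, hy₀⟩⟩
  obtain ⟨c, -, hc⟩ := (isClosed_univ (X := (g ⁻¹' {ξ} : Set Y))).exists_closed_singleton ⟨⟨y₀, hy₀⟩, trivial⟩
  refine ⟨c.1, c.2, ?_⟩
  let Z := (Scheme.IdealSheafData.vanishingIdeal (Devissage.Zc c.1)).subscheme
  let i : Z ⟶ Y := Devissage.Zi c.1
  haveI : IsIntegral Z := Devissage.Zi_isIntegral c.1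
  let h : Z ⟶ X := i ≫ g
  let p : Z ⟶ Spec (CommRingCat.of k) := i ≫ (Y ↘ Spec (CommRingCat.of k))
  have hp : h ≫ (X ↘ Spec (CommRingCat.of k)) = p := by
    show (i ≫ g) ≫ _ = _
    rw [Category.assoc, hg]
  let z := genericPoint Z
  have hz : i z = c.1 := Devissage.genericPoint_Zi c.1
  have hhz : h z = ξ := (congrArg g hz).trans c.2
  haveI : Subsingleton (h ⁻¹' {h z} : Set Z) := by
    refine ⟨fun a b => ?_⟩
    suffices key : ∀ a : Z, h a = ξ → a = z from
      Subtype.ext ((key a.1 (a.2.trans hhz)).trans (key b.1 (b.2.trans hhz)).symm)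
    intro a ha
    refine i.isClosedEmbedding.injective ((Eq.trans ?_ hz.symm))
    have hs : c.1 ⤳ i a := Devissage.specializes_Zi c.1 a
    have hs' : c ⤳ (⟨i a, ha⟩ : (g ⁻¹' {ξ} : Set Y)) := (subtype_specializes_iff _ _).2 hs
    exact congrArg Subtype.val (Set.mem_singleton_iff.mp (hs'.mem_closed hc (Set.mem_singleton c)))
  have hdim : topologicalKrullDim ↥(h.fiber (h z)) ≤ 0 := by
    rw [(h.fiberHomeo (h z)).isHomeomorph.topologicalKrullDim_eq]
    exact topologicalKrullDim_zero_of_discreteTopology _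
  have h1 := WeilLib.pdim_eq_of_residueDegree_ne_zero p h (X ↘ Spec (CommRingCat.of k)) hp
    (Rigid.residueDegree_ne_zero_of_quasiFiniteAt h (Rigid.quasiFiniteAt_of_fiber_dim h z hdim))
  rw [hhz] at h1
  obtain ⟨a, ha⟩ := exists_dim_closure k c.1
  obtain ⟨b, hb⟩ := exists_dim_closure k ξ
  have hZ : topologicalKrullDim (closure ({z} : Set Z)) = (a : WithBot ℕ∞) := by
    rw [show closure ({z} : Set Z) = Set.univ from genericPoint_spec Z,
      (Homeomorph.Set.univ Z).isHomeomorph.topologicalKrullDim_eq, ← ha, ← Devissage.range_Zi c.1]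
    exact IsHomeomorph.topologicalKrullDim_eq _ i.isClosedEmbedding.isEmbedding.toHomeomorph.isHomeomorph
  rw [WeilCoh.pdim, WeilCoh.pdim, WeilCoh.natDim, WeilCoh.natDim, hZ, hb] at h1
  rw [ha, hb]
  exact congrArg (fun n : ℕ => (n : WithBot ℕ∞)) (show a = b from h1.symm)

end Groth.Agent.Nakai
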