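import Groth.Agent.Nakai.Criterion
import Groth.Agent.Intersect.CurveOnSurface
import Groth.Agent.Intersect.ProperInt

/-!
Intersection numbers of integral closed subschemes, and the finiteness of the dimension.
-/

set_option autoImplicit false
set_option backward.isDefEq.respectTransparency false
set_option linter.style.haveILetI false
set_option linter.unusedSectionVars false

universe u

open CategoryTheory CategoryTheory.Limits AlgebraicGeometry TopologicalSpace
open Groth.Agent.Intersect

noncomputable section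

namespace Groth.Agent.Nakai

variable {X : Scheme.{u}} (k : Type u) [Field k] [X.Over (Spec (CommRingCat.of k))] [IsProper (X ↘ Spec (CommRingCat.of k))]

include k in
theorem exists_dim_closure (ξ : X) : ∃ e : ℕ, topologicalKrullDim (closure ({ξ} : Set X)) = (e : WithBot ℕ∞) := by
  haveI := CurveRR.isNoetherian_of_proper k X
  let Z := (Scheme.IdealSheafData.vanishingIdeal (Devissage.Zc ξ)).subscheme
  let i : Z ⟶ X := Devissage.Zi ξ
  letI : Z.Over (Spec (CommRingCat.of k)) := ⟨i ≫ (X ↘ Spec (CommRingCat.of k))⟩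
  haveI : IsProper (Z ↘ Spec (CommRingCat.of k)) := inferInstanceAs (IsProper (i ≫ _))
  haveI : IsIntegral Z := Devissage.Zi_isIntegral ξ
  haveI := CurveRR.isNoetherian_of_proper k Z
  obtain ⟨z, -, hz⟩ := (isClosed_univ (X := Z)).exists_closed_singleton ⟨genericPoint Z, trivial⟩
  rw [← Devissage.range_Zi ξ,
    ← IsHomeomorph.topologicalKrullDim_eq _ i.isClosedEmbedding.isEmbedding.toHomeomorph.isHomeomorph,
    ← dim_stalk_closed k hz]
  have h : ringKrullDim (Z.presheaf.stalk z) < ⊤ := ringKrullDim_lt_top
  have h0 : (0 : WithBot ℕ∞) ≤ ringKrullDim (Z.presheaf.stalk z) := ringKrullDim_nonneg_of_nontrivial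
  generalize ringKrullDim (Z.presheaf.stalk z) = a at h h0
  match a, h, h0 with
  | ⊥, _, h0 => exact absurd h0 (by simp)
  | (a : ℕ∞), h, _ =>
    obtain ⟨e, rfl⟩ : ∃ e : ℕ, a = e := by
      cases a with
      | top => exact absurd h (lt_irrefl _)
      | coe e => exact ⟨e, rfl⟩
    exact ⟨e, rfl⟩

include k in
theorem exists_dim_bound : ∃ d : ℕ, topologicalKrullDim X ≤ (d : WithBot ℕ∞) := by
  classical
  haveI := CurveRR.isNoetherian_of_proper k X
  have hfin : (irreducibleComponents X).Finite := NoetherianSpace.finite_irreducibleComponents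
  let T : Finset X := hfin.toFinset.attach.image fun S =>
    (hfin.mem_toFinset.mp S.2).1.genericPoint
  choose f hf using exists_dim_closure k (X := X)
  refine ⟨T.sup f, le_of_lt_succ' (not_le.1 fun h => ?_)⟩
  obtain ⟨c, hc⟩ := exists_chain (T := X) h
  let p := c (Fin.last (T.sup f + 1))
  have hS := irreducibleComponent_mem_irreducibleComponents p
  let η := hS.1.genericPoint
  have hη : η ∈ T := Finset.mem_image.mpr ⟨⟨_, hfin.mem_toFinset.mpr hS⟩, Finset.mem_attach _ _, rfl⟩
  have hcl : closure ({η} : Set X) = irreducibleComponent p :=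
    hS.1.isGenericPoint_genericPoint isClosed_irreducibleComponent
  have hm : ∀ i, c i ∈ closure ({η} : Set X) := fun i => by
    rw [hcl]
    rcases (Fin.le_last i).lt_or_eq with h | h
    · exact (hc _ _ h).1.mem_closed isClosed_irreducibleComponent mem_irreducibleComponent
    · exact h ▸ mem_irreducibleComponent
  have h' := le_dim_closed_of_chain isClosed_closure c hm hc
  rw [hf η] at h'
  exact absurd (CartierDim.natCast_le_withBot.1 h') (by have := Finset.le_sup (f := f) hη; omega)

theorem dim_support_quotMod (Z : X.IdealSheafData) :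
    topologicalKrullDim (CohB1.support (ClSub.quotMod Z)) = topologicalKrullDim (Z.support : Set X) :=
  le_antisymm (dim_mono (CurveRR.support_quotMod Z)) (dim_mono (subset_support_quotMod Z))

/-- The intersection numbers of a closed subscheme, computed on it. -/
theorem alt_quot_ker {Y : Scheme.{u}} (i : Y ⟶ X) [IsClosedImmersion i] {L : X.Modules} (hL : PicF.IsInvertible L)
    (r : ℕ) :
    letI : Y.Over (Spec (CommRingCat.of k)) := ⟨i ≫ (X ↘ Spec (CommRingCat.of k))⟩
    alt (χt k (ClSub.quotMod i.ker) fun _ : Fin r => L) =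
      alt (χt k (Coh.structureModule Y) fun _ : Fin r => (Scheme.Modules.pullback i).obj L) := by
  letI : Y.Over (Spec (CommRingCat.of k)) := ⟨i ≫ (X ↘ Spec (CommRingCat.of k))⟩
  refine congrArg alt (funext fun n => congrArg (fun z : ℤ => (z : ℚ)) ?_)
  rw [euler_quot_twist k i (isInvertible_N (fun _ => hL) n)]
  obtain ⟨p⟩ := W7Cech.pullback_tensorPows i (Coh.structureModule X) (fun _ : Fin r => L) n
  obtain ⟨q⟩ := W7Cech.tensorPows_iso (F := (Scheme.Modules.pullback i).obj (Coh.structureModule X))
    (F' := Coh.structureModule Y) ⟨DerPerf.pullUnitIso _⟩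
    (L := fun _ : Fin r => (Scheme.Modules.pullback i).obj L)
    (L' := fun _ : Fin r => (Scheme.Modules.pullback i).obj L) (fun _ => ⟨Iso.refl _⟩) n
  exact CurveRR.euler_eq_of_iso (p ≪≫ q ≪≫ (TMul.leftUnitIso _).symm)

/-- Nakai-Moishezon. -/
theorem isAmple_iff {L : X.Modules} (hL : PicF.IsInvertible L) :
    CohB1.IsAmple L ↔
      ∀ (Z : X.IdealSheafData) [IsIntegral Z.subscheme] (d : ℕ), 0 < d →
        topologicalKrullDim (Z.support : Set X) = d →
        ∀ P : MvPolynomial (Fin d) ℚ,
          (∀ n : Fin d → ℕ, (Curv2.euler k X (Curv2.tensorPows (ClSub.quotMod Z) d (fun _ => L) n) : ℚ) =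
            MvPolynomial.eval (fun i => (n i : ℚ)) P) →
          0 < MvPolynomial.coeff (Finsupp.equivFunOnFinite.symm fun _ : Fin d => 1) P := by
  haveI := CurveRR.isNoetherian_of_proper k X
  refine ⟨fun hA Z _ d _ hd P hP => ?_, fun h => ?_⟩
  · have hQ : Coh.IsCoh (ClSub.quotMod Z) := (CurveRR.isCoh_idealMod Z).2
    have hs := (dim_support_quotMod Z).trans hd
    rw [exists_coeff_eq k _ hQ (fun _ => hL) hs.le P hP]
    exact alt_pos k d _ (fun _ => hA) _ hQ hs
  · obtain ⟨d, hd⟩ := exists_dim_bound k (X := X)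
    refine isAmple_of_posSub k d X hd L hL ?_
    intro Y ι _ _ n hn hY
    haveI : IsIntegral ι.ker.subscheme := by
      haveI : IsIso ι.toImage := inferInstance
      exact IsIntegral.of_isIso ι.toImage
    have hsupp : topologicalKrullDim (ι.ker.support : Set X) = (n : WithBot ℕ∞) := by
      rw [Scheme.Hom.support_ker, ι.isClosedEmbedding.isClosed_range.closure_eq,
        ← IsHomeomorph.topologicalKrullDim_eq _ ι.isClosedEmbedding.isEmbedding.toHomeomorph.isHomeomorph, hY]
    have hQ : Coh.IsCoh (ClSub.quotMod ι.ker) := (CurveRR.isCoh_idealMod ι.ker).2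
    have hs := ((dim_support_quotMod ι.ker).trans hsupp).le
    obtain ⟨P, -, hP⟩ := exists_polynomial k hQ (lt_succ_of_le' hs) (L := fun _ : Fin n => L) fun _ => hL
    have hpos := h ι.ker n hn hsupp P hP
    rw [exists_coeff_eq k _ hQ (fun _ => hL) hs P hP, alt_quot_ker k ι hL n] at hpos
    exact hpos

end Groth.Agent.Nakai
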