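import Groth.Agent.S4415
import Groth.Agent.S1618
import Groth.Agent.CurveRR.Euler
import Groth.Agent.SymAlg.ProjProper
import Groth.Agent.TMul.RelAmple
import Groth.Agent.Intersect.PushDeg

/-!
An integral proper scheme is dominated by an integral proper scheme of the same dimension with an ample module.
-/

set_option autoImplicit false
set_option backward.isDefEq.respectTransparency false
set_option linter.style.haveILetI false
set_option linter.unusedSectionVars false

universe u

open CategoryTheory CategoryTheory.Limits AlgebraicGeometry TopologicalSpace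

noncomputable section

namespace Groth.Agent.Nakai

theorem exists_proj_cover (k : Type u) [Field k] (Z : Scheme.{u}) [Z.Over (Spec (CommRingCat.of k))]
    [IsProper (Z ↘ Spec (CommRingCat.of k))] [IsIntegral Z] :
    ∃ (Y : Scheme.{u}) (g : Y ⟶ Z), IsProper g ∧ Surjective g ∧ IsIntegral Y ∧
      topologicalKrullDim Y = topologicalKrullDim Z ∧ ∃ H : Y.Modules, CohB1.IsAmple H := by
  let q := Z ↘ Spec (CommRingCat.of k)
  obtain ⟨Y, g, hqp, hgp, hs, ⟨U, hU, hiso⟩, -, -, hint⟩ :=
    Groth.Agent.S4415.result q (Or.inl inferInstance)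
  haveI : IsProper g := (Groth.Agent.SymAlg.isProper_and_ftData_of_isProjective hgp).1
  haveI : IsIntegral Y := hint inferInstance
  refine ⟨Y, g, inferInstance, hs, inferInstance, ?_, ?_⟩
  · letI : Y.Over (Spec (CommRingCat.of k)) := ⟨g ≫ q⟩
    haveI : IsProper (Y ↘ Spec (CommRingCat.of k)) := inferInstanceAs (IsProper (g ≫ q))
    have hne : (g ⁻¹ᵁ U : Set Y).Nonempty := hU.nonempty
    have hne' : (U : Set Z).Nonempty := hne.elim fun y hy => ⟨g y, hy⟩
    have h1 : topologicalKrullDim ((g ⁻¹ᵁ U : Y.Opens) : Set Y) = topologicalKrullDim Y :=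
      Groth.Agent.S1618.result k Y _ hne
    have h2 : topologicalKrullDim (U : Set Z) = topologicalKrullDim Z := Groth.Agent.S1618.result k Z U hne'
    rw [← h1, ← h2]
    exact IsHomeomorph.topologicalKrullDim_eq (g ∣_ U) (g ∣_ U).homeomorph.isHomeomorph
  · obtain ⟨-, -, L, hL⟩ := hqp
    have h := hL.2 ⟨⊤, isAffineOpen_top _⟩
    exact ⟨L, (TMul.isAmple_restrict_top_iff L).1 h⟩

end Groth.Agent.Nakai
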