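import Groth.Agent.Nakai.HodgeIndex
import Groth.Agent.Nakai.ProjCover
import Groth.Agent.Nakai.CurveOver
import Groth.Agent.Nakai.Main
import Groth.Agent.Intersect.CurveOnSurface
import Groth.Agent.S8859
import Groth.Agent.S8862
import Groth.Agent.S8914
import Groth.Agent.BlowUpExist.Proper

/-!
The Hodge index theorem on irreducible proper surfaces, up to numerical equivalence.
-/

set_option autoImplicit false
set_option backward.isDefEq.respectTransparency false
set_option linter.style.haveILetI false
set_option linter.unusedSectionVars false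

universe u

open CategoryTheory CategoryTheory.Limits AlgebraicGeometry TopologicalSpace
open Groth.Agent.Intersect
open Groth.Agent.CurveRR.Multi (lenAt)

noncomputable section

namespace Groth.Agent.Nakai

attribute [local instance] clMonoid

variable {X : Scheme.{u}} (k : Type u) [Field k] [X.Over (Spec (CommRingCat.of k))] [IsProper (X ↘ Spec (CommRingCat.of k))]

theorem exists_signed (hd : topologicalKrullDim X ≤ ((2 : ℕ) : WithBot ℕ∞)) {P : X.Modules}
    (hP : PicF.IsInvertible P) (z : ℤ) :
    ∃ Q : X.Modules, PicF.IsInvertible Q ∧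
      ∀ C : X.Modules, PicF.IsInvertible C → inter k Q C = (z : ℚ) * inter k P C := by
  obtain ⟨P', hP', hPP'⟩ := W7Hull.exists_tensor_inverse hP
  rcases Int.eq_nat_or_neg z with ⟨n, rfl | rfl⟩
  · exact ⟨_, TMul.isInvertible_tensorPow hP n, fun C hC => by rw [inter_pow k hd hP hC]; simp⟩
  · exact ⟨_, TMul.isInvertible_tensorPow hP' n, fun C hC => by
      rw [inter_pow k hd hP' hC, inter_inv k hd hP hPP' hC]; simp⟩

theorem inter_eq_alt (A B : X.Modules) : inter k A B = alt (χt k (Coh.structureModule X) ![A, B]) := by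
  rw [← D_ofFn]; rfl

theorem exists_int_inter (A B : X.Modules) : ∃ z : ℤ, inter k A B = z := by
  obtain ⟨z, hz⟩ := alt_int k (Coh.structureModule X) ![A, B]
  rw [← D_ofFn] at hz
  exact ⟨z, hz⟩

/-- The equality case on a projective surface. -/
theorem inter_eq_zero [IsIntegral X] (hdim : topologicalKrullDim X = 2) {A H L N : X.Modules} (hA : CohB1.IsAmple A)
    (hH : PicF.IsInvertible H) (hL : PicF.IsInvertible L) (hN : PicF.IsInvertible N) (hHH : 0 < inter k H H)
    (hLH : inter k L H = 0) (hLL : 0 ≤ inter k L L) : inter k L N = 0 := by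
  have hd : topologicalKrullDim X ≤ ((2 : ℕ) : WithBot ℕ∞) := hdim.le
  have hLL0 : inter k L L = 0 :=
    le_antisymm (self_nonpos_of_orth k hdim hH hL hA hHH (by rw [inter_comm]; exact hLH)) hLL
  obtain ⟨hh, hhh⟩ := exists_int_inter k H H
  obtain ⟨b, hb⟩ := exists_int_inter k N H
  obtain ⟨P, hP, hPC⟩ := exists_signed k hd hN hh
  obtain ⟨R, hR, hRC⟩ := exists_signed k hd hH (-b)
  let M := CohB1.tensorMod P R
  have hM : PicF.IsInvertible M := TMul.isInvertible_tensorMod hP hR
  have hMC : ∀ {C : X.Modules}, PicF.IsInvertible C →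
      inter k M C = (hh : ℚ) * inter k N C - b * inter k H C := fun {C} hC => by
    rw [inter_tensor k hd hP hR hC, hPC C hC, hRC C hC]
    push_cast
    ring
  have hMH : inter k M H = 0 := by rw [hMC hH, hb, hhh]; ring
  have hML : inter k M L = (hh : ℚ) * inter k L N := by
    rw [hMC hL, inter_comm k H L, hLH, inter_comm k N L]; ring
  have key : ∀ t : ℤ, inter k M M + 2 * t * inter k M L ≤ 0 := fun t => by
    obtain ⟨S, hS, hSC⟩ := exists_signed k hd hL t
    have hT : PicF.IsInvertible (CohB1.tensorMod M S) := TMul.isInvertible_tensorMod hM hS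
    have h := self_nonpos_of_orth k hdim hH hT hA hHH (by
      rw [inter_tensor_right k hd hM hS hH, inter_comm k H M, hMH, inter_comm k H S, hSC H hH, hLH]; ring)
    rw [inter_tensor k hd hM hS hT, inter_tensor_right k hd hM hS hM, inter_tensor_right k hd hM hS hS,
      inter_comm k M S, hSC M hM, hSC S hS, inter_comm k L M, inter_comm k L S, hSC L hL, hLL0] at h
    linarith
  by_contra hne
  have hne' : inter k M L ≠ 0 := by
    rw [hML]
    exact mul_ne_zero (by rw [← hhh]; exact hHH.ne') hne
  obtain ⟨n, hn⟩ := exists_nat_gt (|inter k M M| / (2 * |inter k M L|))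
  have hpos : 0 < 2 * |inter k M L| := by positivity
  have hn' : |inter k M M| < (n : ℚ) * (2 * |inter k M L|) := (div_lt_iff₀ hpos).1 hn
  rcases lt_or_gt_of_ne hne' with hlt | hgt
  · have h := key (-(n : ℤ))
    push_cast at h
    rw [abs_of_neg hlt] at hn'
    linarith [neg_abs_le (inter k M M)]
  · have h := key (n : ℤ)
    push_cast at h
    rw [abs_of_pos hgt] at hn'
    linarith [neg_abs_le (inter k M M)]

include k in
/-- An integral projective surface over an irreducible one on which a given curve becomes Cartier. -/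
theorem exists_cartier_cover [IrreducibleSpace X] (hdim : topologicalKrullDim X = 2) {ξ : X}
    (hξ : topologicalKrullDim (closure ({ξ} : Set X)) = ((1 : ℕ) : WithBot ℕ∞)) :
    ∃ (Y : Scheme.{u}) (f : Y ⟶ X), IsProper f ∧ Surjective f ∧ IsIntegral Y ∧ topologicalKrullDim Y = 2 ∧
      (∃ A : Y.Modules, CohB1.IsAmple A) ∧
      BlowUp.IsEffCartierIdeal ((Scheme.IdealSheafData.vanishingIdeal (Devissage.Zc ξ)).comap f) := by
  haveI := CurveRR.isNoetherian_of_proper k X
  let I := Scheme.IdealSheafData.vanishingIdeal (Devissage.Zc ξ)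
  obtain ⟨B, b, hb⟩ := Groth.Agent.S8859.result X I
  haveI : IsProper b := Groth.Agent.BlowUpExist.isProper_of_isFiniteType hb fun U =>
    haveI := IsLocallyNoetherian.component_noetherian U
    IsNoetherian.noetherian _
  let η := genericPoint X
  have hη : topologicalKrullDim (closure ({η} : Set X)) = 2 := by
    rw [show closure ({η} : Set X) = Set.univ from genericPoint_spec X,
      (Homeomorph.Set.univ X).isHomeomorph.topologicalKrullDim_eq, hdim]
  have hηI : η ∉ I.support := fun h => by
    have h' : η ∈ closure ({ξ} : Set X) := (support_vanishing ξ).le h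
    have h2 := dim_closure_le isClosed_closure h'
    rw [hη, hξ] at h2
    exact absurd (CartierDim.natCast_le_withBot.1 (show ((2 : ℕ) : WithBot ℕ∞) ≤ ((1 : ℕ) : WithBot ℕ∞) from h2))
      (by omega)
  haveI : Surjective b := by
    let U : X.Opens := I.support.compl
    obtain ⟨h, hh, -⟩ := hb.2 U.toScheme U.ι
      (Groth.Agent.BlowUpLib.comap_restrict_eq_top I U.ι fun z => z.2)
    have hbη : b (h (⟨η, hηI⟩ : U)) = η := congrArg (fun q : U.toScheme ⟶ X => q (⟨η, hηI⟩ : U)) hh
    refine ⟨fun x => ?_⟩
    have hc : closure ({η} : Set X) ⊆ Set.range b :=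
      closure_minimal (Set.singleton_subset_iff.mpr ⟨_, hbη⟩) b.isClosedMap.isClosed_range
    rw [show closure ({η} : Set X) = Set.univ from genericPoint_spec X] at hc
    exact hc trivial
  letI : B.Over (Spec (CommRingCat.of k)) := ⟨b ≫ (X ↘ Spec (CommRingCat.of k))⟩
  haveI : IsProper (B ↘ Spec (CommRingCat.of k)) := inferInstanceAs (IsProper (b ≫ _))
  obtain ⟨w, hbw, hw⟩ := exists_over k b rfl η
  let W := (Scheme.IdealSheafData.vanishingIdeal (Devissage.Zc w)).subscheme
  let j : W ⟶ B := Devissage.Zi w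
  letI : W.Over (Spec (CommRingCat.of k)) := ⟨j ≫ (B ↘ Spec (CommRingCat.of k))⟩
  haveI : IsProper (W ↘ Spec (CommRingCat.of k)) := inferInstanceAs (IsProper (j ≫ _))
  haveI : IsIntegral W := Devissage.Zi_isIntegral w
  obtain ⟨Y, g, hg, hgs, hY, hYd, hA⟩ := exists_proj_cover k W
  haveI := hg
  haveI := hgs
  haveI := hY
  have hgen : j (g (genericPoint Y)) = w := by
    obtain ⟨y, hy⟩ := g.surjective (genericPoint W)
    have h1 : g (genericPoint Y) ⤳ genericPoint W := hy ▸ (genericPoint_specializes y).map g.continuous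
    have h2 : g (genericPoint Y) = genericPoint W := (h1.antisymm (genericPoint_specializes _)).eq
    exact (congrArg j h2).trans (Devissage.genericPoint_Zi w)
  haveI : Surjective (j ≫ b) := by
    refine ⟨fun x => ?_⟩
    have hc : closure ({η} : Set X) ⊆ Set.range (j ≫ b) :=
      closure_minimal (Set.singleton_subset_iff.mpr ⟨g (genericPoint Y), (congrArg b hgen).trans hbw⟩)
        (j ≫ b).isClosedMap.isClosed_range
    rw [show closure ({η} : Set X) = Set.univ from genericPoint_spec X] at hc
    exact hc trivial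
  refine ⟨Y, g ≫ j ≫ b, inferInstance, inferInstance, hY, ?_, hA, ?_⟩
  · rw [hYd, IsHomeomorph.topologicalKrullDim_eq _ j.isClosedEmbedding.isEmbedding.toHomeomorph.isHomeomorph,
      Devissage.range_Zi w, hw, hη]
  · rw [← Category.assoc, Scheme.IdealSheafData.comap_comp]
    refine Groth.Agent.S8862.result (g ≫ j) (I.comap b) hb.1 fun y hy => ?_
    have hyg : genericPoint Y = y := hy _ (genericPoint_specializes y)
    intro hmem
    rw [← hyg, show (g ≫ j) (genericPoint Y) = w from hgen] at hmem
    rw [Scheme.IdealSheafData.support_comap] at hmem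
    exact hηI (hbw ▸ (hmem : b w ∈ I.support))

include k in
theorem lenAt_structure_pos [IrreducibleSpace X] :
    (0 : ℚ) < lenAt (Coh.structureModule X) (genericPoint X) := by
  haveI := CurveRR.isNoetherian_of_proper k X
  have := lenAt_one_le le_rfl (isCoh_one k (X := X)) (ξ := genericPoint X)
    (by rw [Intersect.support_structure]; trivial)
    fun y _ hys => (hys.antisymm (genericPoint_specializes y)).eq
  exact_mod_cast lt_of_lt_of_le Int.one_pos this

/-- Top intersection numbers of a coherent module on an irreducible space. -/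
theorem alt_irreducible [IrreducibleSpace X] {r : ℕ} (hX : topologicalKrullDim X = (r : WithBot ℕ∞))
    {M : Fin r → X.Modules} (hM : ∀ i, PicF.IsInvertible (M i)) {F : X.Modules} (hF : Coh.IsCoh F)
    (hη : genericPoint X ∈ CohB1.support F) :
    alt (χt k F M) = (lenAt F (genericPoint X) : ℚ) * alt (χt k (Devissage.A (genericPoint X)) M) := by
  have hc : topologicalKrullDim (closure ({genericPoint X} : Set X)) = (r : WithBot ℕ∞) := by
    rw [show closure ({genericPoint X} : Set X) = Set.univ from genericPoint_spec X,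
      (Homeomorph.Set.univ X).isHomeomorph.topologicalKrullDim_eq, hX]
  rw [alt_comp k F hF ((topologicalKrullDim_subspace_le X _).trans hX.le) hM {genericPoint X} fun w => ?_,
    Finset.sum_singleton]
  refine ⟨fun hw => ?_, fun hw => ?_⟩
  · rw [Finset.mem_singleton.mp hw]
    exact ⟨hη, hc⟩
  · exact Finset.mem_singleton.mpr (eq_of_dim (genericPoint_specializes w) hc.le hw.2).symm

/-- Direct images along surjective morphisms of irreducible surfaces keep the pairing up to a positive factor. -/
theorem exists_inter_pullback [IrreducibleSpace X] (hdim : topologicalKrullDim X = 2) {Y : Scheme.{u}}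
    [Y.Over (Spec (CommRingCat.of k))] [IsProper (Y ↘ Spec (CommRingCat.of k))] [IsIntegral Y]
    (f : Y ⟶ X) [IsProper f] [Surjective f] (hf : f ≫ (X ↘ Spec (CommRingCat.of k)) = Y ↘ Spec (CommRingCat.of k))
    (hYd : topologicalKrullDim Y = 2) :
    ∃ c : ℚ, 0 < c ∧ ∀ A B : X.Modules, PicF.IsInvertible A → PicF.IsInvertible B →
      inter k ((Scheme.Modules.pullback f).obj A) ((Scheme.Modules.pullback f).obj B) = c * inter k A B := by
  haveI := CurveRR.isNoetherian_of_proper k X
  haveI := CurveRR.isNoetherian_of_proper k Y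
  let P := (Scheme.Modules.pushforward f).obj (Coh.structureModule Y)
  have hP : Coh.IsCoh P := isCoh_push' f (isCoh_one k)
  have hfη : f (genericPoint Y) = genericPoint X := by
    obtain ⟨y, hy⟩ := f.surjective (genericPoint X)
    have h1 : f (genericPoint Y) ⤳ genericPoint X := hy ▸ (genericPoint_specializes y).map f.continuous
    exact (h1.antisymm (genericPoint_specializes _)).eq
  have hb := pushStalk_bijective_of_fibre f f.isClosedMap (Coh.structureModule Y)
    (Groth.Agent.QC.isClosed_support (isCoh_one k (X := Y)).2) (genericPoint Y) fun y hy => by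
      refine (eq_of_dim (d := 2) (genericPoint_specializes y) ?_ (le_antisymm ?_ ?_)).symm
      · rw [show closure ({genericPoint Y} : Set Y) = Set.univ from genericPoint_spec Y,
          (Homeomorph.Set.univ Y).isHomeomorph.topologicalKrullDim_eq, hYd]
        exact le_rfl
      · exact (topologicalKrullDim_subspace_le Y _).trans hYd.le
      · have h2 : topologicalKrullDim (closure ({f y} : Set X)) = ((2 : ℕ) : WithBot ℕ∞) := by
          rw [show f y = genericPoint X from hy.1.trans hfη, show closure ({genericPoint X} : Set X) = Set.univ from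
            genericPoint_spec X, (Homeomorph.Set.univ X).isHomeomorph.topologicalKrullDim_eq, hdim]
          rfl
        rw [← h2, ← image_closure f y]
        exact dim_image_le f isClosed_closure
  have hmem : genericPoint X ∈ CohB1.support P := fun hs => by
    rw [← hfη] at hs
    exact (show genericPoint Y ∈ CohB1.support (Coh.structureModule Y) by rw [Intersect.support_structure]; trivial)
      (@Function.Surjective.subsingleton _ _ _ hs hb.2)
  have hlP : (0 : ℚ) < lenAt P (genericPoint X) := by
    have := lenAt_one_le (B := Set.univ) (Set.subset_univ _) hP hmem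
      fun y _ hys => (hys.antisymm (genericPoint_specializes y)).eq
    exact_mod_cast lt_of_lt_of_le Int.one_pos this
  have hlO : (0 : ℚ) < lenAt (Coh.structureModule X) (genericPoint X) := lenAt_structure_pos k
  refine ⟨lenAt P (genericPoint X) / lenAt (Coh.structureModule X) (genericPoint X), div_pos hlP hlO,
    fun A B hA hB => ?_⟩
  have h := alt_push k f hf 2 ![A, B] (isInvertible_vec₂ hA hB) _ (isCoh_one k)
    ((dim_support_structure (X := Y)).trans hYd).le
  rw [alt_irreducible k hdim (isInvertible_vec₂ hA hB) hP hmem, show (fun i => (Scheme.Modules.pullback f).obj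
      ((![A, B] : Fin 2 → X.Modules) i)) = ![(Scheme.Modules.pullback f).obj A, (Scheme.Modules.pullback f).obj B] from
    funext fun i => by fin_cases i <;> rfl, ← inter_eq_alt] at h
  rw [h, inter_eq_alt k A B,
    alt_irreducible k hdim (isInvertible_vec₂ hA hB) (isCoh_one k) (by rw [Intersect.support_structure]; trivial),
    ← mul_assoc, div_mul_cancel₀ _ hlO.ne']

/-- Hodge index on an irreducible proper surface. -/
theorem deg_curve_eq_zero [IrreducibleSpace X] (hdim : topologicalKrullDim X = 2) {H L : X.Modules}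
    (hH : PicF.IsInvertible H) (hL : PicF.IsInvertible L) (hHH : 0 < inter k H H) (hLH : inter k L H = 0)
    (hLL : 0 ≤ inter k L L) {ξ : X} (hξ : topologicalKrullDim (closure ({ξ} : Set X)) = ((1 : ℕ) : WithBot ℕ∞)) :
    D k [L] (Devissage.A ξ) = 0 := by
  haveI := CurveRR.isNoetherian_of_proper k X
  obtain ⟨Y, f, hfp, hfs, hY, hYd, ⟨A, hA⟩, hJ⟩ := exists_cartier_cover k hdim hξ
  haveI := hfp
  haveI := hfs
  haveI := hY
  letI : Y.Over (Spec (CommRingCat.of k)) := ⟨f ≫ (X ↘ Spec (CommRingCat.of k))⟩
  haveI : IsProper (Y ↘ Spec (CommRingCat.of k)) := inferInstanceAs (IsProper (f ≫ _))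
  haveI := CurveRR.isNoetherian_of_proper k Y
  obtain ⟨c, hc, hfc⟩ := exists_inter_pullback k hdim f rfl hYd
  let L' := (Scheme.Modules.pullback f).obj L
  have hL' : PicF.IsInvertible L' := PicLoc.isInvertible_pullback f hL
  let J := (Scheme.IdealSheafData.vanishingIdeal (Devissage.Zc ξ)).comap f
  have hJi : PicF.IsInvertible (ClSub.idealMod J) := (Groth.Agent.S8914.result J).2 hJ
  have h0 : inter k L' (ClSub.idealMod J) = 0 :=
    inter_eq_zero k hYd hA (PicLoc.isInvertible_pullback f hH) hL' hJi (by rw [hfc H H hH hH]; positivity)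
      (by rw [hfc L H hL hH, hLH, mul_zero]) (by rw [hfc L L hL hL]; positivity)
  have hQ : Coh.IsCoh (ClSub.quotMod J) := (CurveRR.isCoh_idealMod J).2
  have hsJ : (J.support : Set Y) = f ⁻¹' closure {ξ} := by
    rw [Scheme.IdealSheafData.support_comap]
    exact congrArg (f ⁻¹' ·) (support_vanishing ξ)
  have hQs : CohB1.support (ClSub.quotMod J) ⊆ f ⁻¹' closure {ξ} := (CurveRR.support_quotMod J).trans hsJ.le
  have hgen : genericPoint Y ∉ f ⁻¹' closure {ξ} := fun hg => by
    have hfu : Set.range f ⊆ closure {ξ} := by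
      rintro _ ⟨y, rfl⟩
      exact ((genericPoint_specializes y).map f.continuous).mem_closed isClosed_closure hg
    rw [Set.range_eq_univ.mpr f.surjective, Set.univ_subset_iff] at hfu
    rw [hfu, (Homeomorph.Set.univ X).isHomeomorph.topologicalKrullDim_eq, hdim] at hξ
    exact absurd (CartierDim.natCast_le_withBot.1
      (show ((2 : ℕ) : WithBot ℕ∞) ≤ ((1 : ℕ) : WithBot ℕ∞) from hξ.le)) (by omega)
  have hQd : topologicalKrullDim (CohB1.support (ClSub.quotMod J)) ≤ ((1 : ℕ) : WithBot ℕ∞) := by
    refine (dim_mono hQs).trans (le_of_lt_succ' (dim_proper_lt (X := Y) (ξ := genericPoint Y) (n := 2) ?_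
      (isClosed_closure.preimage f.continuous) (fun x _ => ?_) hgen))
    · rw [genericPoint_closure]
      exact lt_succ_of_le' ((topologicalKrullDim_subspace_le Y _).trans hYd.le)
    · rw [genericPoint_closure]
      trivial
  have hSES : D k [L'] (Coh.structureModule Y) =
      D k [L'] (ClSub.idealMod J) + D k [L'] (ClSub.quotMod J) := by
    have h := congrArg alt (χt_add k (forall_get (l := [L']) (by simpa using hL')) (CurveRR.ideal_shortExact J)
      (CurveRR.isCoh_idealMod J).1 (isCoh_one k) hQ)
    rw [alt_add] at h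
    rw [D_get, D_get, D_get]
    exact h
  have hQ0 : D k [L'] (ClSub.quotMod J) = 0 := by
    rw [inter_comm, inter, D, D_iso k [L'] (TMul.leftUnitIso (ClSub.idealMod J))] at h0
    linarith
  let P := (Scheme.Modules.pushforward f).obj (ClSub.quotMod J)
  have hP : Coh.IsCoh P := isCoh_push' f hQ
  have hPs : CohB1.support P ⊆ closure {ξ} :=
    (support_push_subset f (f.isClosedMap _ (Groth.Agent.QC.isClosed_support hQ.2)) le_rfl).trans
      (Set.image_subset_iff.mpr hQs)
  have hmem : ξ ∈ CohB1.support P := fun hs => by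
    obtain ⟨y, hy⟩ := f.surjective ξ
    have hyJ : y ∈ (J.support : Set Y) := hsJ.ge (show f y ∈ closure {ξ} by rw [hy]; exact subset_closure rfl)
    let u : Γ(P, (⊤ : X.Opens)) := (ClSub.toSubscheme J).app (f ⁻¹ᵁ ⊤) (show Γ(Y, f ⁻¹ᵁ ⊤) from 1)
    haveI : Subsingleton (P.presheaf.stalk ξ) := hs
    have hξt : ξ ∈ (⊤ : X.Opens) := trivial
    obtain ⟨W, hξW, i₁, i₂, hres⟩ := TopCat.Presheaf.germ_eq P.presheaf ξ hξt hξt u 0 (Subsingleton.elim _ _)
    have hyW : y ∈ f ⁻¹ᵁ W := by show f y ∈ W; rw [hy]; exact hξW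
    have e : (ClSub.toSubscheme J).app (f ⁻¹ᵁ W) (show Γ(Y, f ⁻¹ᵁ W) from 1) = 0 := by
      have h2 := Groth.Agent.QC.app_res (ClSub.toSubscheme J)
        (show f ⁻¹ᵁ W ≤ f ⁻¹ᵁ ⊤ from fun _ _ => trivial) (show Γ(Y, f ⁻¹ᵁ ⊤) from 1)
      have h3 : Groth.Agent.QC.res (Coh.structureModule Y) (show f ⁻¹ᵁ W ≤ f ⁻¹ᵁ ⊤ from fun _ _ => trivial)
          (show Γ(Y, f ⁻¹ᵁ ⊤) from 1) = (show Γ(Y, f ⁻¹ᵁ W) from 1) :=
        map_one (Y.presheaf.map (homOfLE (show f ⁻¹ᵁ W ≤ f ⁻¹ᵁ ⊤ from fun _ _ => trivial)).op).hom
      rw [h3] at h2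
      exact h2.symm.trans (hres.trans (map_zero _))
    refine ((Groth.Agent.QC.notMem_support_iff y).mpr fun U hyU t => ?_) (subset_support_quotMod J hyJ)
    obtain ⟨V, hV, hyV, hle⟩ := exists_isAffineOpen_mem_and_subset (X := Y) (U := U ⊓ f ⁻¹ᵁ W)
      (show y ∈ U ⊓ f ⁻¹ᵁ W from ⟨hyU, hyW⟩)
    have hVU : V ≤ U := fun z hz => (hle hz).1
    have hVW : V ≤ f ⁻¹ᵁ W := fun z hz => (hle hz).2
    refine ⟨V, hVU, hyV, ?_⟩
    haveI := (CurveRR.ideal_shortExact J).epi_g
    obtain ⟨a, ha⟩ := Groth.Agent.QC.app_surjective_of_epi hV (isCoh_one k (X := Y)).1 hQ.1 (ClSub.toSubscheme J)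
      (Groth.Agent.QC.res _ hVU t)
    have h4 := Groth.Agent.QC.app_res (ClSub.toSubscheme J) hVW (show Γ(Y, f ⁻¹ᵁ W) from 1)
    rw [e, map_zero] at h4
    have h5 : Groth.Agent.QC.res (Coh.structureModule Y) hVW (show Γ(Y, f ⁻¹ᵁ W) from 1) = (show Γ(Y, V) from 1) :=
      map_one (Y.presheaf.map (homOfLE hVW).op).hom
    rw [h5] at h4
    rw [← ha, ← mul_one (M := Γ(Y, V)) a]
    exact (Scheme.Modules.Hom.app_smul (ClSub.toSubscheme J) a (show Γ(Y, V) from 1)).trans (by rw [← h4, smul_zero])
  have hd1 : topologicalKrullDim (CohB1.support P) ≤ ((1 : ℕ) : WithBot ℕ∞) := (dim_mono hPs).trans hξ.le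
  have h := alt_push k f rfl 1 (fun _ => L) (fun _ => hL) _ hQ hQd
  rw [alt_comp k P hP hd1 (fun _ => hL) {ξ} (fun w => by
      refine ⟨fun hw => ?_, fun hw => ?_⟩
      · rw [Finset.mem_singleton.mp hw]; exact ⟨hmem, hξ⟩
      · exact Finset.mem_singleton.mpr (eq_of_dim (specializes_iff_mem_closure.mpr (hPs hw.1)) hξ.le hw.2).symm),
    Finset.sum_singleton, ← D_replicate, ← D_replicate, List.replicate_one, List.replicate_one, hQ0] at h
  have hlen := lenAt_one_le hPs hP hmem fun y hy hys => (hys.antisymm (specializes_iff_mem_closure.mpr hy)).eq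
  have hne : (lenAt P ξ : ℚ) ≠ 0 := ne_of_gt (by exact_mod_cast lt_of_lt_of_le Int.one_pos hlen)
  exact (mul_eq_zero.1 h.symm).resolve_left hne

end Groth.Agent.Nakai
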