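import Groth.Agent.Nakai.Kleiman
import Groth.Agent.Intersect.Deg

/-!
Kleiman's theorem, by induction on the dimension.
-/

set_option autoImplicit false
set_option backward.isDefEq.respectTransparency false
set_option linter.style.haveILetI false
set_option linter.unusedSectionVars false

universe u

open CategoryTheory CategoryTheory.Limits AlgebraicGeometry TopologicalSpace
open Groth.Agent.Intersect
open Groth.Agent.CurveRR.Multi (lenAt)

noncomputable section

namespace Groth.Agent.Nakai

variable (k : Type u) [Field k]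

/-- `(L^m · F) ≥ 0` for nef `L` on every proper scheme. -/
def PureNonneg (m : ℕ) : Prop :=
  ∀ (X : Scheme.{u}) [X.Over (Spec (CommRingCat.of k))] [IsProper (X ↘ Spec (CommRingCat.of k))] (L : X.Modules),
    PicF.IsInvertible L → Nef k L → ∀ F : X.Modules, Coh.IsCoh F →
      topologicalKrullDim (CohB1.support F) ≤ (m : WithBot ℕ∞) → 0 ≤ (-1 : ℚ) ^ m * D k (List.replicate m L) F

variable {k}

theorem mix_of_pure {X : Scheme.{u}} [X.Over (Spec (CommRingCat.of k))] [IsProper (X ↘ Spec (CommRingCat.of k))]
    {H L : X.Modules} (hH : CohB1.IsAmple H) (hL : PicF.IsInvertible L) (hn : Nef k L) {F : X.Modules}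
    (hF : Coh.IsCoh F) {e i : ℕ} (hi : i ≤ e) (hP : PureNonneg k (e - i))
    (hd : topologicalKrullDim (CohB1.support F) ≤ (e : WithBot ℕ∞)) :
    0 ≤ (-1 : ℚ) ^ e * D k (List.replicate i H ++ List.replicate (e - i) L) F := by
  have h := mix_nonneg k hH hL (e - i) (fun G hG hGd => hP X L hL hn G hG hGd) i F hF
    (by rw [show i + (e - i) = e by omega]; exact hd)
  rwa [show i + (e - i) = e by omega] at h

variable (k)

theorem isAmple_combination {X : Scheme.{u}} [X.Over (Spec (CommRingCat.of k))]
    [IsProper (X ↘ Spec (CommRingCat.of k))] [IsIntegral X] {e : ℕ}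
    (hX : topologicalKrullDim X = ((e + 1 : ℕ) : WithBot ℕ∞)) (hP : ∀ m ≤ e, PureNonneg k m)
    {H L : X.Modules} (hH : CohB1.IsAmple H) (hL : PicF.IsInvertible L) (hn : Nef k L) {p q : ℕ} (hp : 0 < p) (hq : 0 < q)
    (hf : 0 < g (fun i => (-1 : ℚ) ^ (e + 1) * D k (List.replicate i H ++ List.replicate (e + 1 - i) L)
      (Coh.structureModule X)) ((q : ℚ) / p) (e + 1) 0) :
    CohB1.IsAmple (CohB1.tensorMod (CohB1.tensorPow L p) (CohB1.tensorPow H q)) := by
  haveI := CurveRR.isNoetherian_of_proper k X
  set A := CohB1.tensorMod (CohB1.tensorPow L p) (CohB1.tensorPow H q) with hAdef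
  have hA : PicF.IsInvertible A := TMul.isInvertible_tensorMod (TMul.isInvertible_tensorPow hL p)
    (TMul.isInvertible_tensorPow hH.1 q)
  refine isAmple_of_posSub k (e + 1) X hX.le A hA ?_
  intro Y ι _ _ n hn0 hY
  letI : Y.Over (Spec (CommRingCat.of k)) := ⟨ι ≫ (X ↘ Spec (CommRingCat.of k))⟩
  haveI : IsProper (Y ↘ Spec (CommRingCat.of k)) := inferInstanceAs (IsProper (ι ≫ _))
  haveI := CurveRR.isNoetherian_of_proper k Y
  have hp' : (0 : ℚ) < p := by exact_mod_cast hp
  have hle : n ≤ e + 1 := by
    have := ι.isClosedEmbedding.isInducing.topologicalKrullDim_le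
    rw [hY, hX] at this
    exact CartierDim.natCast_le_withBot.1 this
  by_cases hne : n ≤ e
  · let L' := (Scheme.Modules.pullback ι).obj L
    let H' := (Scheme.Modules.pullback ι).obj H
    have hL' : PicF.IsInvertible L' := PicLoc.isInvertible_pullback ι hL
    have hH' : CohB1.IsAmple H' := TMul.isAmple_pullback_of_isAffineHom ι hH
    have hn' : Nef k L' := nef_pullback k ι rfl hL hn
    obtain ⟨a⟩ := TMul.nonempty_pullPowIso ι L p
    obtain ⟨b⟩ := TMul.nonempty_pullPowIso ι H q
    obtain ⟨c⟩ := TMul.nonempty_pullTensorIso ι (CohB1.tensorPow L p) (CohB1.tensorPow H q)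
    rw [Intersect.χt_congr k (Coh.structureModule Y) (L := fun _ : Fin n => (Scheme.Modules.pullback ι).obj A)
      (L' := fun _ : Fin n => CohB1.tensorMod (CohB1.tensorPow L' p) (CohB1.tensorPow H' q))
      fun _ => ⟨(PicGrp.tensorModIso a b ≪≫ c).symm⟩, ← D_replicate]
    have hd : topologicalKrullDim (CohB1.support (Coh.structureModule Y)) ≤ (n : WithBot ℕ∞) :=
      (dim_support_structure.trans hY).le
    have h := D_expand k hH'.1 hL' hp q RefStalk.isCoh_structureModule n hd n 0 0 (by omega)
    simp only [List.replicate_zero, List.append_nil] at h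
    rw [h]
    refine mul_pos (pow_pos hp' n) (lt_of_lt_of_le ?_ (g_lb (by positivity) fun i hi hi' =>
      mix_of_pure hH' hL' hn' RefStalk.isCoh_structureModule (show i ≤ n by omega) (hP (n - i) (by omega)) hd))
    refine mul_pos ?_ (pow_pos (by positivity) _)
    simp only [Nat.zero_add, Nat.sub_self, List.replicate_zero, List.append_nil, D_replicate]
    exact alt_pos k n _ (fun _ => hH') _ RefStalk.isCoh_structureModule (dim_support_structure.trans hY)
  · obtain rfl : n = e + 1 := by omega
    haveI := isIso_of_dim hX ι hY.ge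
    rw [← alt_quot_ker k ι hA, IsClosedImmersion.isIso_iff_ker_eq_bot.1 inferInstance]
    obtain ⟨w⟩ := nonempty_quot_bot (X := X)
    rw [χt_iso k w, ← D_replicate]
    have h := D_expand k hH.1 hL hp q RefStalk.isCoh_structureModule (e + 1)
      (dim_support_structure.trans hX).le (e + 1) 0 0 (by omega)
    simp only [List.replicate_zero, List.append_nil] at h
    rw [h]
    exact mul_pos (pow_pos hp' _) hf

theorem top_nonneg {X : Scheme.{u}} [X.Over (Spec (CommRingCat.of k))]
    [IsProper (X ↘ Spec (CommRingCat.of k))] [IsIntegral X] {e : ℕ} (he : 1 ≤ e)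
    (hX : topologicalKrullDim X = ((e + 1 : ℕ) : WithBot ℕ∞)) (hP : ∀ m ≤ e, PureNonneg k m)
    {H L : X.Modules} (hH : CohB1.IsAmple H) (hL : PicF.IsInvertible L) (hn : Nef k L) :
    0 ≤ (-1 : ℚ) ^ (e + 1) * D k (List.replicate (e + 1) L) (Coh.structureModule X) := by
  haveI := CurveRR.isNoetherian_of_proper k X
  have hO : Coh.IsCoh (Coh.structureModule X) := RefStalk.isCoh_structureModule
  have hd := dim_support_structure.trans hX
  let c : ℕ → ℚ := fun i => (-1 : ℚ) ^ (e + 1) * D k (List.replicate i H ++ List.replicate (e + 1 - i) L)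
    (Coh.structureModule X)
  have htop : 0 < c (e + 1) := by
    simp only [c, Nat.sub_self, List.replicate_zero, List.append_nil, D_replicate]
    exact alt_pos k (e + 1) _ (fun _ => hH) _ hO hd
  have h0 := coeff_zero_nonneg (c := c) (e := e)
    (fun a ha ha' => mix_of_pure hH hL hn hO ha' (hP _ (by omega)) hd.le) htop fun p q hp hq hf => by
      have hA := isAmple_combination k hX hP hH hL hn hp hq hf
      have h := D_expand k hH.1 hL hp q hO (e + 1) hd.le e 0 1 (by omega)
      have h1 := mix_nonneg k hA hL 1 (fun G hG hGd => hP 1 he X L hL hn G hG hGd) e _ hO hd.le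
      simp only [List.replicate_zero, List.nil_append] at h
      rw [h] at h1
      exact nonneg_of_mul_nonneg_right h1 (by positivity)
  simpa [c] using h0

/-- Kleiman's theorem. -/
theorem pure_nonneg (m : ℕ) : PureNonneg k m := by
  induction m using Nat.strong_induction_on with
  | _ m ih =>
    intro X _ _ L hL hn F hF hd
    haveI := CurveRR.isNoetherian_of_proper k X
    match m, ih, hd with
    | 0, _, hd =>
      rw [pow_zero, one_mul, List.replicate_zero, D,
        CurveRR.euler_eq_h0 fun i hi => SuppZero.subsingleton_hh_of_supported (Groth.Agent.QC.isClosed_support hF.2)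
          (by simpa using hd) _ (fun x hx hx' => hx hx') i hi]
      exact_mod_cast Nat.zero_le _
    | 1, _, hd =>
      rw [List.replicate_one, D_one, pow_one]
      have : (Curv2.euler k X F : ℚ) ≤ Curv2.euler k X (CohB1.tensorMod F L) := by exact_mod_cast hn F hF hd
      linarith
    | e + 2, ih, hd =>
      obtain ⟨T, hT⟩ := exists_top_finset k hF hd
      rw [D_replicate, alt_comp k F hF hd (fun _ => hL) T hT, Finset.mul_sum]
      refine Finset.sum_nonneg fun ξ hξ => ?_
      rw [mul_left_comm]
      refine mul_nonneg (by exact_mod_cast lenAt_nonneg F ξ) ?_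
      have hξd := ((hT ξ).1 hξ).2
      let Z := (Scheme.IdealSheafData.vanishingIdeal (Devissage.Zc ξ)).subscheme
      let i : Z ⟶ X := Devissage.Zi ξ
      letI : Z.Over (Spec (CommRingCat.of k)) := ⟨i ≫ (X ↘ Spec (CommRingCat.of k))⟩
      haveI : IsProper (Z ↘ Spec (CommRingCat.of k)) := inferInstanceAs (IsProper (i ≫ _))
      haveI : IsIntegral Z := Devissage.Zi_isIntegral ξ
      have hZ : topologicalKrullDim Z = ((e + 2 : ℕ) : WithBot ℕ∞) := by
        rw [← hξd, ← Devissage.range_Zi ξ]
        exact IsHomeomorph.topologicalKrullDim_eq _ i.isClosedEmbedding.isEmbedding.toHomeomorph.isHomeomorph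
      obtain ⟨Y, f, hfp, hfs, hYi, hYd, H, hH⟩ := exists_proj_cover k Z
      haveI := hfp; haveI := hfs; haveI := hYi
      let h : Y ⟶ X := f ≫ i
      letI : Y.Over (Spec (CommRingCat.of k)) := ⟨h ≫ (X ↘ Spec (CommRingCat.of k))⟩
      haveI : IsProper (Y ↘ Spec (CommRingCat.of k)) := inferInstanceAs (IsProper (h ≫ _))
      haveI := CurveRR.isNoetherian_of_proper k Y
      have hY : topologicalKrullDim Y = ((e + 2 : ℕ) : WithBot ℕ∞) := hYd.trans hZ
      have htop := top_nonneg k (X := Y) (e := e + 1) (by omega) hY (fun m hm => ih m (by omega)) hH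
        (PicLoc.isInvertible_pullback h hL) (nef_pullback k h rfl hL hn)
      have hO : Coh.IsCoh (Coh.structureModule Y) := RefStalk.isCoh_structureModule
      have hsd : topologicalKrullDim (CohB1.support (Coh.structureModule Y)) ≤ ((e + 2 : ℕ) : WithBot ℕ∞) :=
        (dim_support_structure.trans hY).le
      rw [D_replicate, alt_push k h rfl (e + 2) (fun _ => L) (fun _ => hL) _ hO hsd] at htop
      let z := genericPoint Y
      have hzu : closure ({z} : Set Y) = Set.univ := genericPoint_spec Y
      have hrange : Set.range h = closure {ξ} := by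
        rw [← Devissage.range_Zi ξ]
        exact Set.ext fun x => ⟨fun ⟨y, hy⟩ => ⟨f y, hy⟩, fun ⟨w, hw⟩ => by
          obtain ⟨y, rfl⟩ := f.surjective w
          exact ⟨y, hw⟩⟩
      have hz : h z = ξ := by
        have h1 : closure ({h z} : Set X) = closure {ξ} := by rw [← image_closure h z, hzu, Set.image_univ, hrange]
        exact ((inseparable_iff_closure_eq).2 h1).eq
      have hfib : h ⁻¹' {h z} ∩ CohB1.support (Coh.structureModule Y) ⊆ {z} := fun y hy => by
        refine (eq_of_dim (X := Y) (specializes_iff_mem_closure.mpr (hzu.ge (Set.mem_univ y)))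
          ((topologicalKrullDim_subspace_le Y _).trans hY.le) (le_antisymm ((topologicalKrullDim_subspace_le Y _).trans hY.le) ?_)).symm
        rw [← hξd, ← hz, ← show h y = h z from hy.1, ← image_closure h y]
        exact dim_image_le h isClosed_closure
      have hb := pushStalk_bijective_of_fibre h h.isClosedMap _ (Groth.Agent.QC.isClosed_support hO.2) z hfib
      have hP := isCoh_push' h hO
      have hsub : CohB1.support ((Scheme.Modules.pushforward h).obj (Coh.structureModule Y)) ⊆ closure {ξ} := by
        refine (support_push_subset h (T := Set.univ) (h.isClosedMap _ isClosed_univ) (Set.subset_univ _)).trans ?_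
        rw [Set.image_univ, hrange]
      have hmem : ξ ∈ CohB1.support ((Scheme.Modules.pushforward h).obj (Coh.structureModule Y)) := fun hs => by
        rw [← hz] at hs
        haveI : Subsingleton ((Coh.structureModule Y).presheaf.stalk z) := @Function.Surjective.subsingleton _ _ _ hs hb.2
        obtain ⟨E, -⟩ := RefStalk.exists_structStalk (X := Y) z
        exact not_subsingleton (Y.presheaf.stalk z) E.toEquiv.subsingleton
      rw [alt_comp k _ hP ((dim_mono hsub).trans hξd.le) (fun _ => hL) {ξ} (fun w => by
          refine ⟨fun hw => ?_, fun hw => ?_⟩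
          · rw [Finset.mem_singleton.mp hw]; exact ⟨hmem, hξd⟩
          · exact Finset.mem_singleton.mpr (eq_of_dim (specializes_iff_mem_closure.mpr (hsub hw.1)) hξd.le hw.2).symm),
        Finset.sum_singleton, mul_left_comm] at htop
      have hpos : (0 : ℚ) < (lenAt ((Scheme.Modules.pushforward h).obj (Coh.structureModule Y)) ξ : ℚ) := by
        have := lenAt_one_le hsub hP hmem fun y hy hys =>
          (hys.antisymm (specializes_iff_mem_closure.mpr hy)).eq
        exact_mod_cast lt_of_lt_of_le Int.one_pos this
      exact nonneg_of_mul_nonneg_right htop hpos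

end Groth.Agent.Nakai
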