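import Groth.Agent.Nakai.NumPull
import Groth.Agent.Nakai.Pure

/-!
Nef plus ample is ample.
-/

set_option autoImplicit false
set_option backward.isDefEq.respectTransparency false
set_option linter.style.haveILetI false
set_option linter.unusedSectionVars false

universe u

open CategoryTheory CategoryTheory.Limits AlgebraicGeometry TopologicalSpace
open Groth.Agent.Intersect

noncomputable section

namespace Groth.Agent.Nakai

variable {X : Scheme.{u}} (k : Type u) [Field k] [X.Over (Spec (CommRingCat.of k))] [IsProper (X ↘ Spec (CommRingCat.of k))]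

theorem isAmple_nef_tensor {H L : X.Modules} (hH : CohB1.IsAmple H) (hL : PicF.IsInvertible L) (hn : Nef k L)
    {p q : ℕ} (hp : 0 < p) (hq : 0 < q) :
    CohB1.IsAmple (CohB1.tensorMod (CohB1.tensorPow L p) (CohB1.tensorPow H q)) := by
  haveI := CurveRR.isNoetherian_of_proper k X
  obtain ⟨d, hd⟩ := exists_dim_bound k (X := X)
  refine isAmple_of_posSub k d X hd _
    (TMul.isInvertible_tensorMod (TMul.isInvertible_tensorPow hL p) (TMul.isInvertible_tensorPow hH.1 q)) ?_
  intro Y ι _ _ n hn0 hY
  letI : Y.Over (Spec (CommRingCat.of k)) := ⟨ι ≫ (X ↘ Spec (CommRingCat.of k))⟩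
  haveI : IsProper (Y ↘ Spec (CommRingCat.of k)) := inferInstanceAs (IsProper (ι ≫ _))
  haveI := CurveRR.isNoetherian_of_proper k Y
  let L' := (Scheme.Modules.pullback ι).obj L
  let H' := (Scheme.Modules.pullback ι).obj H
  have hL' : PicF.IsInvertible L' := PicLoc.isInvertible_pullback ι hL
  have hH' : CohB1.IsAmple H' := TMul.isAmple_pullback_of_isAffineHom ι hH
  have hn' : Nef k L' := nef_pullback k ι rfl hL hn
  obtain ⟨a⟩ := TMul.nonempty_pullPowIso ι L p
  obtain ⟨b⟩ := TMul.nonempty_pullPowIso ι H q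
  obtain ⟨c⟩ := TMul.nonempty_pullTensorIso ι (CohB1.tensorPow L p) (CohB1.tensorPow H q)
  rw [Intersect.χt_congr k (Coh.structureModule Y)
    (L := fun _ : Fin n => (Scheme.Modules.pullback ι).obj (CohB1.tensorMod (CohB1.tensorPow L p) (CohB1.tensorPow H q)))
    (L' := fun _ : Fin n => CohB1.tensorMod (CohB1.tensorPow L' p) (CohB1.tensorPow H' q))
    fun _ => ⟨(PicGrp.tensorModIso a b ≪≫ c).symm⟩, ← D_replicate]
  have hsd : topologicalKrullDim (CohB1.support (Coh.structureModule Y)) ≤ (n : WithBot ℕ∞) :=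
    (dim_support_structure.trans hY).le
  have h := D_expand k hH'.1 hL' hp q RefStalk.isCoh_structureModule n hsd n 0 0 (by omega)
  simp only [List.replicate_zero, List.append_nil] at h
  rw [h]
  have hp' : (0 : ℚ) < p := by exact_mod_cast hp
  have hq' : (0 : ℚ) < q := by exact_mod_cast hq
  refine mul_pos (pow_pos hp' n) (lt_of_lt_of_le ?_ (g_lb (by positivity) fun i hi hi' =>
    mix_of_pure hH' hL' hn' RefStalk.isCoh_structureModule (show i ≤ n by omega) (pure_nonneg k (n - i)) hsd))
  refine mul_pos ?_ (pow_pos (div_pos hq' hp') _)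
  simp only [Nat.zero_add, Nat.sub_self, List.replicate_zero, List.append_nil, D_replicate]
  exact alt_pos k n _ (fun _ => hH') _ RefStalk.isCoh_structureModule (dim_support_structure.trans hY)

/-- Nefness from degrees on closed curves. -/
theorem nef_iff_curveDeg {L : X.Modules} (hL : PicF.IsInvertible L) :
    Nef k L ↔ ∀ (Y : Scheme.{u}) (i : Y ⟶ X) [IsClosedImmersion i], IsIntegral Y → topologicalKrullDim Y = 1 →
      0 ≤ Pic13.curveDeg k (i ≫ (X ↘ Spec (CommRingCat.of k))) ((Scheme.Modules.pullback i).obj L) := by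
  haveI := CurveRR.isNoetherian_of_proper k X
  refine ⟨fun h Y i _ _ hY => ?_, fun h => nef_of_pieces k hL fun ξ hξ => ?_⟩
  · rw [curveDeg_eq k i hY.le hL, sub_nonneg]
    exact h _ (CurveRR.isCoh_idealMod i.ker).2 ((dim_support_quot_ker i).trans_le hY.le)
  · have hY : topologicalKrullDim (Scheme.IdealSheafData.vanishingIdeal (Devissage.Zc ξ)).subscheme = 1 := by
      rw [IsHomeomorph.topologicalKrullDim_eq _
        (Devissage.Zi ξ).isClosedEmbedding.isEmbedding.toHomeomorph.isHomeomorph, Devissage.range_Zi ξ, hξ]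
      rfl
    have h1 := h _ (Devissage.Zi ξ) (Devissage.Zi_isIntegral ξ) hY
    rw [curveDeg_eq k _ hY.le hL, sub_nonneg, Scheme.IdealSheafData.ker_subschemeι] at h1
    exact h1

theorem nef_of_forall_ample {H L : X.Modules} (hH : PicF.IsInvertible H) (hL : PicF.IsInvertible L)
    (h : ∀ ν : ℕ, 0 < ν → CohB1.IsAmple (CohB1.tensorMod (CohB1.tensorPow L ν) H)) : Nef k L := by
  haveI := CurveRR.isNoetherian_of_proper k X
  refine nef_of_pieces k hL fun ξ hξ => ?_
  by_contra hlt
  push Not at hlt
  have hA := Devissage.isCoh_A ξ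
  have hd : topologicalKrullDim (CohB1.support (Devissage.A ξ)) = ((1 : ℕ) : WithBot ℕ∞) :=
    (dim_support_quotMod _).trans ((congrArg (fun S : Set X => topologicalKrullDim S) (support_vanishing ξ)).trans hξ)
  have h0 : 0 < D k [L] (Devissage.A ξ) := by
    rw [D_one, sub_pos]
    exact_mod_cast hlt
  obtain ⟨ν, hν⟩ := exists_nat_gt (|D k [H] (Devissage.A ξ)| / D k [L] (Devissage.A ξ) + 1)
  have hν0 : 0 < ν := by
    have : (0 : ℚ) < ν := lt_of_le_of_lt (by positivity) hν
    exact_mod_cast this
  have h1 := alt_pos k 1 _ (fun _ => h ν hν0) _ hA hd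
  rw [← D_replicate, List.replicate_one, pow_one,
    D_tensor k hA (TMul.isInvertible_tensorPow hL ν) hH (l := []) (by simp) (e := 1) rfl hd.le,
    D_pow k hA hL (l := []) (by simp) (e := 1) rfl hd.le ν] at h1
  have h2 : |D k [H] (Devissage.A ξ)| < (ν : ℚ) * D k [L] (Devissage.A ξ) := by
    rw [← div_lt_iff₀ h0]
    linarith
  linarith [neg_abs_le (D k [H] (Devissage.A ξ))]

end Groth.Agent.Nakai
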