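import Groth.Agent.Nakai.UnifVanish
import Groth.Agent.BettiNN.Basic
import Groth.Agent.W7Cech.FlatBCSep
import Groth.Agent.FlatModBC.Basic
import Groth.Agent.KFlat.SchemeStalk
import Groth.Agent.CMChart.OverField
import Groth.Agent.Nakai.NefAmple

/-!
Euler characteristics in families over a connected base: algebraic equivalence preserves them.
-/

set_option autoImplicit false
set_option backward.isDefEq.respectTransparency false
set_option linter.style.haveILetI false
set_option linter.unusedSectionVars false

universe u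

open CategoryTheory CategoryTheory.Limits AlgebraicGeometry TopologicalSpace
open Groth.Agent.Intersect

noncomputable section

namespace Groth.Agent.Nakai

section

open TensorProduct MonoidalCategory

/-- a flat module tensored with a module flat over the base is flat over the base -/
lemma flat_tensor_of_flat {A B : Type u} [CommRing A] [CommRing B] [Algebra A B] (M N : Type u)
    [AddCommGroup M] [Module A M] [Module B M] [IsScalarTower A B M]
    [AddCommGroup N] [Module A N] [Module B N] [IsScalarTower A B N]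
    [Module.Flat B M] [Module.Flat A N] : Module.Flat A (M ⊗[B] N) := by
  rw [Module.Flat.iff_lTensor_injectiveₛ]
  intro P _ _ Q
  let e₁ := TensorProduct.AlgebraTensorModule.assoc A B B M N Q
  let e₂ := TensorProduct.AlgebraTensorModule.assoc A B B M N P
  let i : N ⊗[A] Q →ₗ[B] N ⊗[A] P := TensorProduct.AlgebraTensorModule.lTensor B N Q.subtype
  have hi : Function.Injective (i.lTensor M) :=
    Module.Flat.lTensor_preserves_injective_linearMap i
      (Module.Flat.lTensor_preserves_injective_linearMap Q.subtype Subtype.val_injective)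
  have key : ∀ z, e₂ (Q.subtype.lTensor (M ⊗[B] N) z) = i.lTensor M (e₁ z) := fun z => by
    induction z using TensorProduct.induction_on with
    | zero => simp
    | add a b ha hb => simp [map_add, ha, hb]
    | tmul mn q =>
      induction mn using TensorProduct.induction_on with
      | zero => simp
      | add a b ha hb => simp only [TensorProduct.add_tmul, map_add] at ha hb ⊢; rw [ha, hb]
      | tmul m n => rfl
  intro z w h
  apply e₁.injective
  apply hi
  rw [← key, ← key, h]

lemma flatOver_tensor {X S : Scheme.{u}} (f : X ⟶ S) {M G : X.Modules} {x : X} (hM : FlatMod.IsFlatAt M x) (hG : FlatMod.IsFlatOverAt f G x) :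
    FlatMod.IsFlatOverAt f (CohB1.tensorMod M G) x := by
  let A := S.presheaf.stalk (f.base x)
  let B := X.presheaf.stalk x
  letI : Algebra A B := (f.stalkMap x).hom.toAlgebra
  let Mx := (DerSch.stalkFunctor X x).obj M
  let Gx := (DerSch.stalkFunctor X x).obj G
  letI : Module A Mx := Module.compHom Mx (f.stalkMap x).hom
  letI : Module A Gx := Module.compHom Gx (f.stalkMap x).hom
  haveI : IsScalarTower A B Mx := IsScalarTower.of_algebraMap_smul fun _ _ => rfl
  haveI : IsScalarTower A B Gx := IsScalarTower.of_algebraMap_smul fun _ _ => rfl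
  haveI : Module.Flat B Mx := hM
  haveI : Module.Flat A Gx := hG
  have h := flat_tensor_of_flat (A := A) (B := B) Mx Gx
  let e := (ModuleCat.restrictScalars.{u} (f.stalkMap x).hom).mapIso (KFlat.stTensorIso M G x)
  have h' : Module.Flat A ((ModuleCat.restrictScalars.{u} (f.stalkMap x).hom).obj (Mx ⊗ Gx)) :=
    Module.Flat.of_linearEquiv (M := TensorProduct B Mx Gx)
      { toFun := fun z => z
        invFun := fun z => z
        map_add' := fun _ _ => rfl
        map_smul' := fun a z => (algebraMap_smul B a (show TensorProduct B Mx Gx from z) :)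
        left_inv := fun _ => rfl
        right_inv := fun _ => rfl }
  have h'' := Module.Flat.of_linearEquiv e.toLinearEquiv.symm
  exact h''

end

variable {X : Scheme.{u}} (k : Type u) [Field k] [X.Over (Spec (CommRingCat.of k))] [IsProper (X ↘ Spec (CommRingCat.of k))]

omit [IsProper (X ↘ Spec (CommRingCat.of k))] in
theorem isFlatOver_field (F : X.Modules) : FlatMod.IsFlatOver (X ↘ Spec (CommRingCat.of k)) F := fun x => by
  set p := (X ↘ Spec (CommRingCat.of k)).base x
  have hfield : IsField ((Spec (CommRingCat.of k)).presheaf.stalk p) := by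
    letI : Algebra k ((Spec (CommRingCat.of k)).presheaf.stalk p) := (StructureSheaf.toStalk k p).hom.toAlgebra
    haveI : IsLocalization.AtPrime ((Spec (CommRingCat.of k)).presheaf.stalk p) p.asIdeal :=
      StructureSheaf.IsLocalization.to_stalk k p
    have e := IsLocalization.atUnits k p.asIdeal.primeCompl (S := ((Spec (CommRingCat.of k)).presheaf.stalk p))
      (fun m hm => IsUnit.mk0 m fun h => hm (by rw [h]; exact zero_mem _))
    exact e.toRingEquiv.toMulEquiv.symm.isField (Field.toIsField k)
  letI := hfield.toField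
  letI := FlatMod.moduleStalkOver (X ↘ Spec (CommRingCat.of k)) F x
  exact Module.Flat.of_free

omit [X.Over (Spec (CommRingCat.of k))] [IsProper (X ↘ Spec (CommRingCat.of k))] in
theorem isFlatAt_invertible {Z : Scheme.{u}} {M : Z.Modules} (hM : PicF.IsInvertible M) (x : Z) :
    FlatMod.IsFlatAt M x := by
  obtain ⟨U, e, hxU, he⟩ := TMul.exists_isGen hM x
  exact Module.Flat.of_linearEquiv
    (LinearEquiv.ofBijective (LinearMap.toSpanSingleton _ _ (Groth.Agent.WeakAssLib.mgerm M hxU e))
      (RefDiv.bijective_germ_of_isGen he hxU)).symm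

variable {T : Scheme.{u}} {q : T ⟶ Spec (CommRingCat.of k)}

/-- The Euler characteristic of the fibre at a rational point. -/
theorem eulerChar_fibreMod (t : Spec (CommRingCat.of k) ⟶ T) (ht : t ≫ q = 𝟙 _)
    (x : ↑(Spec (CommRingCat.of k))) {M : (Pic13.prodK k X q).Modules} (hM : Coh.IsQCoh M) :
    PerfAux.eulerChar (pullback.snd (X ↘ Spec (CommRingCat.of k)) q) M (t.base x) =
      Curv2.euler k X (Pic13.fibreMod k X q t ht M) := by
  set s := t.base x
  let f := pullback.snd (X ↘ Spec (CommRingCat.of k)) q
  let κ := T.residueField s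
  letI : (f.fiber s).Over (Spec (CommRingCat.of ↥κ)) := ⟨f.fiberToSpecResidueField s⟩
  let α : CommRingCat.of k ⟶ κ := Spec.preimage (T.fromSpecResidueField s ≫ q)
  have hα : Spec.map α = T.fromSpecResidueField s ≫ q := Spec.map_preimage _
  letI : Algebra k κ := α.hom.toAlgebra
  -- the point factors through its residue field
  have hfac : T.fromSpecResidueField s = (T.fromSpecResidueField s ≫ q) ≫ t := by
    let y : Spec ((Spec (CommRingCat.of k)).residueField x) ⟶ T :=
      (Spec (CommRingCat.of k)).fromSpecResidueField x ≫ t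
    have hy : Spec.map (t.residueFieldMap x) ≫ T.fromSpecResidueField s = y :=
      Scheme.Hom.SpecMap_residueFieldMap_fromSpecResidueField t x
    haveI : IsIso ((Spec (CommRingCat.of k)).fromSpecResidueField x) := by
      haveI : Subsingleton ↑(Spec (CommRingCat.of k)) := inferInstanceAs (Subsingleton (PrimeSpectrum k))
      exact CMChart.isIso_fromSpecResidueField_field x
    haveI hsurj : IsIso (Spec.map (t.residueFieldMap x)) := by
      let β : T.residueField s ⟶ CommRingCat.of k :=
        t.residueFieldMap x ≫ Spec.preimage (inv ((Spec (CommRingCat.of k)).fromSpecResidueField x))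
      have hβ : α ≫ β = 𝟙 _ := Spec.map_injective (by
        simp only [β, Spec.map_comp, Spec.map_preimage, hα, Spec.map_id, Category.assoc]
        rw [reassoc_of% hy]
        simp only [y, Category.assoc, ht, Category.comp_id, IsIso.inv_hom_id])
      have hsur : Function.Surjective (t.residueFieldMap x) := fun z => by
        obtain ⟨w, hw⟩ : ∃ w, Spec.preimage (inv ((Spec (CommRingCat.of k)).fromSpecResidueField x)) z = w := ⟨_, rfl⟩
        refine ⟨α w, ?_⟩
        haveI : IsIso (Spec.preimage (inv ((Spec (CommRingCat.of k)).fromSpecResidueField x))) := by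
          haveI : IsIso (Scheme.Spec.map (Spec.preimage (inv ((Spec (CommRingCat.of k)).fromSpecResidueField x))).op) := by
            show IsIso (Spec.map _)
            rw [Quiver.Hom.unop_op, Spec.map_preimage]; infer_instance
          haveI := isIso_of_reflects_iso (Spec.preimage (inv ((Spec (CommRingCat.of k)).fromSpecResidueField x))).op Scheme.Spec
          exact (isIso_op_iff _).1 this
        refine (ConcreteCategory.bijective_of_isIso
          (Spec.preimage (inv ((Spec (CommRingCat.of k)).fromSpecResidueField x)))).1 ?_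
        rw [hw]
        exact congrArg (fun g => g.hom w) hβ
      haveI : IsIso (t.residueFieldMap x) :=
        (ConcreteCategory.isIso_iff_bijective _).2 ⟨(t.residueFieldMap x).hom.injective, hsur⟩
      infer_instance
    rw [← cancel_epi (Spec.map (t.residueFieldMap x)), hy]
    rw [← Category.assoc, ← Category.assoc, hy]
    simp [y, ht]
  let γ : f.fiber s ⟶ X := f.fiberι s ≫ pullback.fst _ _
  have hγ : γ ≫ Pic13.sliceAt k X q t ht = f.fiberι s := by
    refine pullback.hom_ext ?_ ?_
    · rw [Category.assoc, Pic13.sliceAt, pullback.lift_fst, Category.comp_id]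
    · rw [Category.assoc, Pic13.sliceAt, pullback.lift_snd]
      have h1 : f.fiberι s ≫ f = f.fiberToSpecResidueField s ≫ T.fromSpecResidueField s := pullback.condition
      have h2 : γ ≫ (X ↘ Spec (CommRingCat.of k)) = (f.fiberι s ≫ f) ≫ q := by
        rw [Category.assoc, Category.assoc, pullback.condition]
      rw [← Category.assoc, h2, h1, Category.assoc, Category.assoc]
      exact congrArg (f.fiberToSpecResidueField s ≫ ·) hfac.symm
  have sq : IsPullback γ (f.fiber s ↘ Spec (CommRingCat.of ↥κ)) (X ↘ Spec (CommRingCat.of k))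
      (Spec.map (CommRingCat.ofHom (algebraMap k κ))) := by
    rw [show CommRingCat.ofHom (algebraMap k κ) = α from rfl, hα]
    exact (IsPullback.of_hasPullback f (T.fromSpecResidueField s)).paste_horiz
      (IsPullback.of_hasPullback (X ↘ Spec (CommRingCat.of k)) q)
  haveI : CompactSpace X := QuasiCompact.compactSpace_of_compactSpace (X ↘ Spec (CommRingCat.of k))
  haveI : X.IsSeparated := by
    constructor
    rw [← terminal.comp_from (X ↘ Spec (CommRingCat.of k))]
    infer_instance
  refine finsum_congr fun i => ?_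
  congr 2
  obtain ⟨e⟩ := W7Cech.nonempty_hh_flatBC k κ γ sq (Pic13.fibreMod k X q t ht M)
    (Groth.Agent.QC.isQCoh_pullback _ hM) i
  let j : (Scheme.Modules.pullback γ).obj (Pic13.fibreMod k X q t ht M) ≅ (Scheme.Modules.pullback (f.fiberι s)).obj M :=
    (Scheme.Modules.pullbackComp γ (Pic13.sliceAt k X q t ht)).app M ≪≫ (Scheme.Modules.pullbackCongr hγ).app M
  refine (((CohFinite.hhEquiv κ j i).symm.trans e.symm).finrank_eq).trans ?_
  rw [Module.finrank_baseChange]

/-- Euler characteristics of twists by algebraically trivial modules. -/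
theorem euler_algEquivZero {L : X.Modules} (h : Pic13.IsAlgEquivZero k X L) {F : X.Modules} (hF : Coh.IsCoh F) :
    Curv2.euler k X (CohB1.tensorMod F L) = Curv2.euler k X F := by
  obtain ⟨T, q, hT, hlft, hqc, M, hM, t, t₀, ht, ht₀, ⟨e⟩, ⟨e₀⟩⟩ := h
  haveI := hT
  haveI := hlft
  haveI := hqc
  haveI := CurveRR.isNoetherian_of_proper k X
  haveI : IsLocallyNoetherian T := LocallyOfFiniteType.isLocallyNoetherian q
  let p := pullback.fst (X ↘ Spec (CommRingCat.of k)) q
  let f := pullback.snd (X ↘ Spec (CommRingCat.of k)) q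
  haveI : IsLocallyNoetherian (Pic13.prodK k X q) := LocallyOfFiniteType.isLocallyNoetherian f
  let G := CohB1.tensorMod M ((Scheme.Modules.pullback p).obj F)
  have hpF : Coh.IsCoh ((Scheme.Modules.pullback p).obj F) := Groth.Agent.QC.isCoh_pullback p hF
  have hG : Coh.IsCoh G := CurveRR.isCoh_tensor' (CurveRR.isCoh_of_inv hM) hpF
  haveI : CompactSpace (Spec (CommRingCat.of k)) := inferInstance
  have hfl : FlatMod.IsFlatOver f G := fun z => flatOver_tensor f (isFlatAt_invertible hM z)
    (Groth.Agent.FlatModBC.isFlatOverAt_baseChange (IsPullback.of_hasPullback (X ↘ Spec (CommRingCat.of k)) q) F z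
      (isFlatOver_field k F _))
  let x : ↑(Spec (CommRingCat.of k)) := (⊥ : PrimeSpectrum k)
  have key : ∀ (τ : Spec (CommRingCat.of k) ⟶ T) (hτ : τ ≫ q = 𝟙 _),
      PerfAux.eulerChar f G (τ.base x) =
        Curv2.euler k X (CohB1.tensorMod (Pic13.fibreMod k X q τ hτ M) F) := fun τ hτ => by
    rw [eulerChar_fibreMod k τ hτ x hG.1]
    obtain ⟨a⟩ := TMul.nonempty_pullTensorIso (Pic13.sliceAt k X q τ hτ) M ((Scheme.Modules.pullback p).obj F)
    have hs : Pic13.sliceAt k X q τ hτ ≫ p = 𝟙 X := pullback.lift_fst _ _ _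
    exact CurveRR.euler_eq_of_iso (a.symm ≪≫ PicGrp.tensorModIso (Iso.refl _)
      ((Scheme.Modules.pullbackComp _ p).app F ≪≫ (Scheme.Modules.pullbackCongr hs).app F ≪≫
        (Scheme.Modules.pullbackId X).app F))
  have hlc := Groth.Agent.BettiNN.isLocallyConstant_eulerChar f (by haveI := hG.1; exact Groth.Agent.QC.isFP_of_isQCoh_of_isFT hG.2) hfl
  have h1 := hlc.apply_eq_of_preconnectedSpace (t.base x) (t₀.base x)
  rw [key t ht, key t₀ ht₀, CurveRR.euler_eq_of_iso (PicGrp.tensorModIso e (Iso.refl F) ≪≫ TMul.commIso L F),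
    CurveRR.euler_eq_of_iso (PicGrp.tensorModIso e₀ (Iso.refl F) ≪≫ TMul.leftUnitIso F)] at h1
  exact h1

section Tau

attribute [local instance] clMonoid

theorem euler_eq_of_pow {L : X.Modules} (hL : PicF.IsInvertible L) {n : ℕ} (hn : 0 < n) {F : X.Modules} (hF : Coh.IsCoh F)
    (h : ∀ G : X.Modules, Coh.IsCoh G → Curv2.euler k X (CohB1.tensorMod G (CohB1.tensorPow L n)) = Curv2.euler k X G) :
    Curv2.euler k X (CohB1.tensorMod F L) = Curv2.euler k X F := by
  obtain ⟨d, hd⟩ := exists_dim_bound k (X := X)
  obtain ⟨P, -, hP⟩ := exists_polynomial k hF (D := d + 1)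
    (lt_succ_of_le' ((topologicalKrullDim_subspace_le X _).trans hd)) (L := fun _ : Fin 1 => L) (fun _ => hL)
  have hg : ∀ m : ℕ, (Curv2.euler k X (CohB1.tensorMod F (CohB1.tensorPow L m)) : ℚ) =
      MvPolynomial.eval (fun _ => (m : ℚ)) P := fun m => by
    rw [← hP (fun _ => m), euler_congr k (show PicF.cl (CohB1.tensorMod F (CohB1.tensorPow L m)) =
      PicF.cl (Curv2.tensorPows F 1 (fun _ => L) fun _ => m) by
        simp only [Curv2.tensorPows, cl_tensor, cl_pow])]
  have hper : ∀ j : ℕ, Curv2.euler k X (CohB1.tensorMod F (CohB1.tensorPow L (n * j))) = Curv2.euler k X F := fun j => by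
    induction j with
    | zero => exact euler_congr k (by rw [cl_tensor, cl_pow, Nat.mul_zero, pow_zero, mul_one])
    | succ j ih =>
      rw [← ih, ← h _ (isCoh_twist k hF (TMul.isInvertible_tensorPow hL (n * j)))]
      exact euler_congr k (by simp only [cl_tensor, cl_pow, Nat.mul_succ, pow_add, mul_assoc])
  let Q : Polynomial ℚ := MvPolynomial.eval₂ Polynomial.C (fun _ => Polynomial.X) P -
    Polynomial.C (Curv2.euler k X F : ℚ)
  have hQ : ∀ x : ℚ, Q.eval x = MvPolynomial.eval (fun _ => x) P - (Curv2.euler k X F : ℚ) := fun x => by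
    simp only [Q, Polynomial.eval_sub, Polynomial.eval_C]
    congr 1
    rw [← Polynomial.coe_evalRingHom, MvPolynomial.eval₂_comp_left]
    show MvPolynomial.eval₂ _ _ P = MvPolynomial.eval₂ (RingHom.id ℚ) (fun _ => x) P
    congr 1
    · ext a; simp
    · funext i; simp
  have hQ0 : Q = 0 := by
    refine Polynomial.eq_zero_of_infinite_isRoot Q (Set.infinite_of_injective_forall_mem
      (f := fun j : ℕ => ((n * j : ℕ) : ℚ)) (fun a b h => ?_) fun j => ?_)
    · exact Nat.eq_of_mul_eq_mul_left hn (Nat.cast_injective h)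
    · show Q.eval _ = 0
      rw [hQ, ← hg, hper, sub_self]
  have h1 := hQ 1
  rw [hQ0, Polynomial.eval_zero] at h1
  have h3 := hg 1
  rw [Nat.cast_one] at h3
  rw [← h3] at h1
  have h2 : Curv2.euler k X (CohB1.tensorMod F (CohB1.tensorPow L 1)) = Curv2.euler k X F := by
    exact_mod_cast sub_eq_zero.1 h1.symm
  rw [← h2]
  exact euler_congr k (by rw [cl_tensor, cl_tensor, cl_pow, pow_one])

theorem euler_tauEquivZero {L : X.Modules} (hL : PicF.IsInvertible L) (h : Pic13.IsTauEquivZero k X L)
    {F : X.Modules} (hF : Coh.IsCoh F) : Curv2.euler k X (CohB1.tensorMod F L) = Curv2.euler k X F := by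
  obtain ⟨n, hn, ha⟩ := h
  exact euler_eq_of_pow k hL hn hF fun G hG => euler_algEquivZero k ha hG

theorem degFlat_of_tau {L : X.Modules} (hL : PicF.IsInvertible L) (h : Pic13.IsTauEquivZero k X L) : DegFlat k L :=
  fun F hF _ => by rw [D_one, euler_tauEquivZero k hL h hF, sub_self]

theorem isNumEquivZero_of_degFlat {L : X.Modules} (hL : PicF.IsInvertible L) (h : DegFlat k L) :
    Pic13.IsNumEquivZero k X L := fun Y ι _ _ hY => by
  haveI := CurveRR.isNoetherian_of_proper k X
  have h1 := h _ (CurveRR.isCoh_idealMod ι.ker).2 ((dim_support_quot_ker ι).trans hY).le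
  rw [D_one, sub_eq_zero] at h1
  rw [curveDeg_eq k ι hY.le hL, sub_eq_zero]
  exact_mod_cast h1.symm

omit [X.Over (Spec (CommRingCat.of k))] [IsProper (X ↘ Spec (CommRingCat.of k))] in
theorem isInvertible_inverse {L L' : X.Modules} (hL : PicF.IsInvertible L)
    (h : Nonempty (CohB1.tensorMod L L' ≅ Coh.structureModule X)) : PicF.IsInvertible L' := by
  obtain ⟨L'', hL'', h''⟩ := W7Hull.exists_tensor_inverse hL
  have e : PicF.cl L'' = PicF.cl L' := ?_
  · intro x
    obtain ⟨U, hx, ⟨φ⟩⟩ := hL'' x
    exact ⟨U, hx, ⟨((Scheme.Modules.restrictFunctor U.ι).mapIso (iso_of_cl e).some).symm ≪≫ φ⟩⟩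
  rw [← one_mul (PicF.cl L''), ← cl_inv h, mul_comm (PicF.cl L), mul_assoc, cl_inv h'', mul_one]

theorem euler_pow_flat {H : X.Modules} (hH : CohB1.IsAmple H) {L : X.Modules} (hL : PicF.IsInvertible L)
    (hf : DegFlat k L) {G : X.Modules} (hG : Coh.IsCoh G) (m : ℕ) :
    Curv2.euler k X (CohB1.tensorMod (CohB1.tensorPow L m) G) = Curv2.euler k X G := by
  obtain ⟨d, hd⟩ := exists_dim_bound k (X := X)
  rw [CurveRR.euler_eq_of_iso (TMul.commIso (CohB1.tensorPow L m) G)]
  exact (unif k hH d G hG ((topologicalKrullDim_subspace_le X _).trans hd)).1 _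
    (TMul.isInvertible_tensorPow hL m) (hf.pow k hL m)

theorem isAmple_flat_twist {H : X.Modules} (hH : CohB1.IsAmple H) {L : X.Modules} (hL : PicF.IsInvertible L)
    (hf : DegFlat k L) (m : ℕ) : CohB1.IsAmple (CohB1.tensorMod (CohB1.tensorPow L m) H) := by
  rcases Nat.eq_zero_or_pos m with rfl | hm
  · exact TMul.isAmple_congr (TMul.leftUnitIso H).symm hH
  · refine TMul.isAmple_congr (PicGrp.tensorModIso (Iso.refl _) (TMul.leftUnitIso H))
      (isAmple_nef_tensor k hH hL (fun F hF hd => ?_) hm (q := 1) one_pos)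
    have h := hf F hF hd
    rw [D_one, sub_eq_zero] at h
    exact (Int.cast_inj.1 h).le

end Tau

end Groth.Agent.Nakai
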