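import Groth.Agent.Nakai.Pure

/-!
Nefness tested on closed subschemes, and non-negativity of coefficients.
-/

set_option autoImplicit false
set_option backward.isDefEq.respectTransparency false
set_option linter.style.haveILetI false
set_option linter.unusedSectionVars false

universe u

open CategoryTheory CategoryTheory.Limits AlgebraicGeometry TopologicalSpace
open Groth.Agent.Intersect

noncomputable section

namespace Groth.Agent.Nakai

variable {X : Scheme.{u}} (k : Type u) [Field k] [X.Over (Spec (CommRingCat.of k))] [IsProper (X ↘ Spec (CommRingCat.of k))]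

theorem support_vanishing (ξ : X) :
    ((Scheme.IdealSheafData.vanishingIdeal (Devissage.Zc ξ)).support : Set X) = closure {ξ} := by
  rw [Scheme.IdealSheafData.coe_support_vanishingIdeal]
  rfl

theorem nef_iff_curves {L : X.Modules} (hL : PicF.IsInvertible L) :
    Nef k L ↔ ∀ C : X.IdealSheafData, IsIntegral C.subscheme → topologicalKrullDim (C.support : Set X) = 1 →
      0 ≤ Curv2.euler k X (CohB1.tensorMod (ClSub.quotMod C) L) - Curv2.euler k X (ClSub.quotMod C) := by
  haveI := CurveRR.isNoetherian_of_proper k X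
  refine ⟨fun h C _ hC => sub_nonneg.2 (h _ (CurveRR.isCoh_idealMod C).2 ((dim_support_quotMod C).trans hC).le),
    fun h => nef_of_pieces k hL fun ξ hξ => sub_nonneg.1
      (h (Scheme.IdealSheafData.vanishingIdeal (Devissage.Zc ξ)) (Devissage.Zi_isIntegral ξ) ?_)⟩
  rw [support_vanishing, hξ]
  rfl

theorem coeff_nonneg {L : X.Modules} (hL : PicF.IsInvertible L) (hn : Nef k L) (Z : X.IdealSheafData) {d : ℕ}
    (hZ : topologicalKrullDim (Z.support : Set X) ≤ (d : WithBot ℕ∞)) (P : MvPolynomial (Fin d) ℚ)
    (hP : ∀ n : Fin d → ℕ, (Curv2.euler k X (Curv2.tensorPows (ClSub.quotMod Z) d (fun _ => L) n) : ℚ) =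
      MvPolynomial.eval (fun i => (n i : ℚ)) P) :
    0 ≤ MvPolynomial.coeff (Finsupp.equivFunOnFinite.symm fun _ : Fin d => 1) P := by
  haveI := CurveRR.isNoetherian_of_proper k X
  have hQ : Coh.IsCoh (ClSub.quotMod Z) := (CurveRR.isCoh_idealMod Z).2
  have hs := (dim_support_quotMod Z).le.trans hZ
  rw [exists_coeff_eq k _ hQ (fun _ => hL) hs P hP, ← D_replicate]
  exact pure_nonneg k d X L hL hn _ hQ hs

end Groth.Agent.Nakai
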