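import Groth.Agent.Nakai.ZeroLocus
import Groth.Agent.Nakai.NefApps
import Groth.Agent.TMul.GlobGen

/-!
Strictly nef modules with sections on every integral subscheme are ample.
-/

set_option autoImplicit false
set_option backward.isDefEq.respectTransparency false
set_option linter.style.haveILetI false
set_option linter.unusedSectionVars false

universe u

open CategoryTheory CategoryTheory.Limits AlgebraicGeometry TopologicalSpace
open Groth.Agent.Intersect
open Groth.Agent.CurveRR.Multi (lenAt)

noncomputable section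

namespace Groth.Agent.Nakai

variable {X : Scheme.{u}} (k : Type u) [Field k] [X.Over (Spec (CommRingCat.of k))] [IsProper (X ↘ Spec (CommRingCat.of k))]

theorem pos_of_pieces {r : ℕ} {L : Fin r → X.Modules} (hL : ∀ i, PicF.IsInvertible (L i))
    (h : ∀ ξ : X, topologicalKrullDim (closure {ξ} : Set X) = (r : WithBot ℕ∞) →
      0 < (-1 : ℚ) ^ r * alt (χt k (Devissage.A ξ) L))
    {F : X.Modules} (hF : Coh.IsCoh F) (hr : topologicalKrullDim (CohB1.support F) = (r : WithBot ℕ∞)) :
    0 < (-1 : ℚ) ^ r * alt (χt k F L) := by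
  haveI := CurveRR.isNoetherian_of_proper k X
  have hB := Groth.Agent.QC.isClosed_support hF.2
  obtain ⟨T, hT⟩ := exists_top_finset k hF hr.le
  rw [alt_comp k F hF hr.le hL T hT, Finset.mul_sum]
  refine Finset.sum_pos (fun ξ hξ => ?_) (top_nonempty hF hr T hT)
  have hξ' := (hT ξ).1 hξ
  rw [mul_left_comm]
  refine mul_pos ?_ (h ξ hξ'.2)
  have := lenAt_one_le le_rfl hF hξ'.1 fun y hy hys => eq_of_mem_top hB hr.le hξ' hy hys
  exact_mod_cast lt_of_lt_of_le Int.one_pos this

theorem exists_curve_point : ∀ (r : ℕ) {ξ : X}, topologicalKrullDim (closure {ξ} : Set X) = ((r + 1 : ℕ) : WithBot ℕ∞) →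
    ∃ ζ ∈ closure ({ξ} : Set X), topologicalKrullDim (closure {ζ} : Set X) = ((1 : ℕ) : WithBot ℕ∞)
  | 0, ξ, h => ⟨ξ, subset_closure rfl, h⟩
  | r + 1, ξ, h => by
    obtain ⟨ζ, hζ, -, hd⟩ := exists_mem_closure_dim h
    obtain ⟨w, hw, hwd⟩ := exists_curve_point r hd
    exact ⟨w, closure_minimal (Set.singleton_subset_iff.mpr hζ) isClosed_closure hw, hwd⟩

/-- `χ(O_C ⊗ L) > χ(O_C)` on every integral curve. -/
def StrictNef (L : X.Modules) : Prop :=
  ∀ C : X.IdealSheafData, IsIntegral C.subscheme → topologicalKrullDim (C.support : Set X) = 1 →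
    0 < Curv2.euler k X (CohB1.tensorMod (ClSub.quotMod C) L) - Curv2.euler k X (ClSub.quotMod C)

/-- Every integral closed subscheme has a nonzero section of a power. -/
def EffSub (L : X.Modules) : Prop :=
  ∀ ξ : X, ∃ (m : ℕ) (s : Coh.structureModule (Scheme.IdealSheafData.vanishingIdeal (Devissage.Zc ξ)).subscheme ⟶
    CohB1.tensorPow ((Scheme.Modules.pullback (Devissage.Zi ξ)).obj L) (m + 1)), s ≠ 0

theorem pos_one {L : X.Modules} (hL : PicF.IsInvertible L) (hs : StrictNef k L) {F : X.Modules} (hF : Coh.IsCoh F)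
    (hr : topologicalKrullDim (CohB1.support F) = ((1 : ℕ) : WithBot ℕ∞)) :
    0 < (-1 : ℚ) ^ 1 * alt (χt k F fun _ : Fin 1 => L) := by
  refine pos_of_pieces k (fun _ => hL) (fun ξ hξ => ?_) hF hr
  rw [← D_replicate, List.replicate_one, D_one, pow_one]
  have h := hs (Scheme.IdealSheafData.vanishingIdeal (Devissage.Zc ξ)) (Devissage.Zi_isIntegral ξ)
    (by rw [support_vanishing, hξ]; rfl)
  have h' : ((Curv2.euler k X (Devissage.A ξ) : ℤ) : ℚ) < Curv2.euler k X (CohB1.tensorMod (Devissage.A ξ) L) := by
    exact_mod_cast sub_pos.1 h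
  linarith

theorem dim_support_push {Y : Scheme.{u}} [IsNoetherian Y] (g : Y ⟶ X) [IsClosedImmersion g] {G : Y.Modules}
    (hG : Coh.IsCoh G) :
    topologicalKrullDim (CohB1.support ((Scheme.Modules.pushforward g).obj G)) =
      topologicalKrullDim (CohB1.support G) := by
  have hcl := Groth.Agent.QC.isClosed_support hG.2
  have e : CohB1.support ((Scheme.Modules.pushforward g).obj G) = g '' CohB1.support G := by
    refine le_antisymm (support_push_subset g (g.isClosedMap _ hcl) le_rfl) ?_
    rintro _ ⟨z, hz, rfl⟩ hs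
    have hb := pushStalk_bijective_of_fibre g g.isClosedMap G hcl z
      (fun y hy => g.isClosedEmbedding.injective hy.1)
    exact hz (@Function.Surjective.subsingleton _ _ _ hs hb.2)
  rw [e]
  exact (IsHomeomorph.topologicalKrullDim_eq _
    (g.isClosedEmbedding.isEmbedding.homeomorphImage (CohB1.support G)).isHomeomorph).symm

theorem pos_of_effective {L : X.Modules} (hL : PicF.IsInvertible L) (hs : StrictNef k L) (he : EffSub L) :
    ∀ r : ℕ, 0 < r → ∀ F : X.Modules, Coh.IsCoh F → topologicalKrullDim (CohB1.support F) = (r : WithBot ℕ∞) →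
      0 < (-1 : ℚ) ^ r * alt (χt k F fun _ : Fin r => L) := by
  haveI := CurveRR.isNoetherian_of_proper k X
  intro r
  induction r with
  | zero => intro h; exact absurd h (lt_irrefl 0)
  | succ r ih =>
    intro _ F hF hr
    rcases Nat.eq_zero_or_pos r with rfl | hr0
    · exact pos_one k hL hs hF hr
    refine pos_of_pieces k (fun _ => hL) (fun ξ hξ => ?_) hF hr
    let Z := (Scheme.IdealSheafData.vanishingIdeal (Devissage.Zc ξ)).subscheme
    let i : Z ⟶ X := Devissage.Zi ξ
    letI : Z.Over (Spec (CommRingCat.of k)) := ⟨i ≫ (X ↘ Spec (CommRingCat.of k))⟩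
    haveI : IsProper (Z ↘ Spec (CommRingCat.of k)) := inferInstanceAs (IsProper (i ≫ _))
    haveI : IsIntegral Z := Devissage.Zi_isIntegral ξ
    haveI := CurveRR.isNoetherian_of_proper k Z
    have hZ : topologicalKrullDim Z = ((r + 1 : ℕ) : WithBot ℕ∞) := by
      rw [← hξ, ← Devissage.range_Zi ξ]
      exact IsHomeomorph.topologicalKrullDim_eq _ i.isClosedEmbedding.isEmbedding.toHomeomorph.isHomeomorph
    have hA : alt (χt k (Devissage.A ξ) fun _ : Fin (r + 1) => L) =
        alt (χt k (Coh.structureModule Z) fun _ : Fin (r + 1) => (Scheme.Modules.pullback i).obj L) := by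
      have h := alt_quot_ker k i hL (r + 1)
      rwa [show i.ker = Scheme.IdealSheafData.vanishingIdeal (Devissage.Zc ξ) from
        Scheme.IdealSheafData.ker_subschemeι _] at h
    rw [hA]
    obtain ⟨m, s, hs0⟩ := he ξ
    let M := (Scheme.Modules.pullback i).obj L
    have hM : PicF.IsInvertible M := PicLoc.isInvertible_pullback i hL
    let P := CohB1.tensorPow M (m + 1)
    have hP : PicF.IsInvertible P := TMul.isInvertible_tensorPow hM _
    have hO : Coh.IsCoh (Coh.structureModule Z) := RefStalk.isCoh_structureModule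
    haveI : Mono s := CurveRR.mono_of_ne_zero TMul.isInvertible_structureModule hP s hs0
    have hQ : Coh.IsCoh (cokernel s) := Groth.Agent.QC.isCoh_cokernel hO.1 (CurveRR.isCoh_of_inv hP) s
    have hpush : ∀ (j : ℕ) (G : Z.Modules), Coh.IsCoh G → topologicalKrullDim (CohB1.support G) = (j : WithBot ℕ∞) →
        alt (χt k G fun _ : Fin j => M) = alt (χt k ((Scheme.Modules.pushforward i).obj G) fun _ : Fin j => L) :=
      fun j G hG hGd => alt_push k i rfl j (fun _ => L) (fun _ => hL) G hG hGd.le
    have hn : (0 : ℚ) < ((m + 1 : ℕ) : ℚ) := by exact_mod_cast Nat.succ_pos m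
    by_cases hne : (CohB1.genLocus P s : Set Z)ᶜ.Nonempty
    · have hQd : topologicalKrullDim (CohB1.support (cokernel s)) = (r : WithBot ℕ∞) := by
        rw [support_coker_section hP s]
        refine le_antisymm ?_ (le_dim_zeroLocus k hZ hP s hne)
        have hη : genericPoint Z ∈ CohB1.genLocus P s := by
          by_contra h
          have : genericPoint Z ∈ CohB1.support (cokernel s) := (support_coker_section hP s).symm ▸ h
          exact CurveRR.notMem_support_coker s _ (CurveRR.surjective_stalk_generic hP s hs0) this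
        have hu : closure ({genericPoint Z} : Set Z) = Set.univ := genericPoint_spec Z
        exact le_of_lt_succ' (dim_proper_lt (X := Z) (ξ := genericPoint Z)
          (lt_succ_of_le' ((topologicalKrullDim_subspace_le Z _).trans hZ.le))
          (CohB1.genLocus P s).isOpen.isClosed_compl (hu ▸ Set.subset_univ _) fun h => h hη)
      have h1 := ih hr0 _ (isCoh_push' i hQ) ((dim_support_push i hQ).trans hQd)
      rw [← hpush r _ hQ hQd] at h1
      have h2 := alt_coker_section k hP s (M := fun _ : Fin r => M) fun _ => hM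
      rw [alt_cons_pow k hO hM (fun _ => hM) (dim_support_structure.trans hZ).le (m + 1),
        show (Fin.cons M fun _ : Fin r => M) = fun _ : Fin (r + 1) => M from
          funext fun i => by cases i using Fin.cases <;> rfl] at h2
      refine pos_of_mul_pos_right (a := ((m + 1 : ℕ) : ℚ)) ?_ hn.le
      rw [mul_left_comm, h2, pow_succ]
      linarith
    · exfalso
      rw [Set.not_nonempty_iff_eq_empty, Set.compl_empty_iff] at hne
      haveI : Epi s := Preadditive.epi_of_isZero_cokernel s (Devissage.isZero_of_support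
        (by rw [support_coker_section hP s, hne, Set.compl_univ]))
      haveI := isIso_of_mono_of_epi s
      have hgen : closure ({genericPoint Z} : Set Z) = Set.univ := genericPoint_spec Z
      obtain ⟨ζ, -, hζ⟩ := exists_curve_point (X := Z) r (ξ := genericPoint Z)
        (by rw [hgen]; exact (Homeomorph.Set.univ Z).isHomeomorph.topologicalKrullDim_eq.trans hZ)
      have hG := Devissage.isCoh_A ζ
      have hGd : topologicalKrullDim (CohB1.support (Devissage.A ζ)) = ((1 : ℕ) : WithBot ℕ∞) :=
        (dim_support_quotMod _).trans (by rw [support_vanishing]; exact hζ)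
      have h1 := pos_one k hL hs (isCoh_push' i hG) ((dim_support_push i hG).trans hGd)
      rw [← hpush 1 _ hG hGd, ← D_replicate, List.replicate_one] at h1
      have h2 := D_pow k hG hM (l := []) (by simp) (e := 1) rfl hGd.le (m + 1)
      rw [D_one, CurveRR.euler_eq_of_iso (PicGrp.tensorModIso (Iso.refl (Devissage.A ζ)) (asIso s).symm ≪≫
        TMul.commIso _ _ ≪≫ TMul.leftUnitIso _), sub_self] at h2
      rw [(mul_eq_zero.1 h2.symm).resolve_left hn.ne'] at h1
      simp at h1

theorem isAmple_of_effective {L : X.Modules} (hL : PicF.IsInvertible L) (hs : StrictNef k L) (he : EffSub L) :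
    CohB1.IsAmple L := by
  haveI := CurveRR.isNoetherian_of_proper k X
  obtain ⟨d, hd⟩ := exists_dim_bound k (X := X)
  refine isAmple_of_posSub k d X hd L hL ?_
  intro Y ι _ _ n hn hY
  have hQ : Coh.IsCoh (ClSub.quotMod ι.ker) := (CurveRR.isCoh_idealMod ι.ker).2
  have hsupp : topologicalKrullDim (CohB1.support (ClSub.quotMod ι.ker)) = (n : WithBot ℕ∞) := by
    rw [dim_support_quotMod, Scheme.Hom.support_ker, ι.isClosedEmbedding.isClosed_range.closure_eq,
      ← IsHomeomorph.topologicalKrullDim_eq _ ι.isClosedEmbedding.isEmbedding.toHomeomorph.isHomeomorph, hY]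
  have h := pos_of_effective k hL hs he n hn _ hQ hsupp
  rwa [alt_quot_ker k ι hL n] at h

/-- A globally generated invertible module has a nonzero section on every integral scheme mapping in. -/
theorem exists_section_ne_zero {Z : Scheme.{u}} [Nonempty Z] (f : Z ⟶ X) {M : X.Modules} (hM : PicF.IsInvertible M)
    (hg : Curv2.IsGloballyGenerated M) :
    ∃ s : Coh.structureModule Z ⟶ (Scheme.Modules.pullback f).obj M, s ≠ 0 := by
  obtain ⟨ι, p, hp⟩ := hg
  haveI := hp
  haveI : Epi ((Scheme.Modules.pullback f).map p) := inferInstance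
  have hne : ¬ IsZero ((Scheme.Modules.pullback f).obj M) := fun h => by
    have hs := Devissage.support_of_isZero h
    obtain ⟨z⟩ := (inferInstance : Nonempty Z)
    obtain ⟨D, g, hzD, hg⟩ := TMul.exists_isGen (PicLoc.isInvertible_pullback f hM) z
    have hb := RefDiv.bijective_germ_of_isGen hg hzD
    have hz : z ∉ CohB1.support ((Scheme.Modules.pullback f).obj M) := by rw [hs]; exact Set.notMem_empty z
    haveI : Subsingleton (((Scheme.Modules.pullback f).obj M).presheaf.stalk z) := not_not.1 hz
    exact not_subsingleton (Z.presheaf.stalk z) hb.1.subsingleton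
  by_contra! hall
  refine hne ((IsZero.iff_id_eq_zero _).2 ?_)
  rw [← cancel_epi ((Scheme.Modules.pullback f).map p), Category.comp_id, comp_zero]
  have h0 : ∀ j : ι, SheafOfModules.ιFree (R := X.ringCatSheaf) j ≫ p =
      (SheafOfModules.ιFree (R := X.ringCatSheaf) j ≫ p : Coh.structureModule X ⟶ M) := fun j => rfl
  refine (isColimitOfPreserves (Scheme.Modules.pullback f)
    (coproductIsCoproduct fun _ : ι => SheafOfModules.unit X.ringCatSheaf)).hom_ext fun j => ?_
  rw [comp_zero]
  have := hall ((DerPerf.pullUnitIso f).inv ≫ (Scheme.Modules.pullback f).map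
    (SheafOfModules.ιFree (R := X.ringCatSheaf) j.as ≫ p : Coh.structureModule X ⟶ M))
  rw [Preadditive.IsIso.comp_left_eq_zero, Functor.map_comp] at this
  exact this

end Groth.Agent.Nakai
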