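import Groth.Agent.Nakai.NefBig
import Groth.Agent.Nakai.Strict
import Groth.Agent.Devissage.Apply2
import Groth.Agent.W7Hull.AmpleSurj

/-!
Numerical dimension bounds the growth of the sections of the powers of a nef module.
-/

set_option autoImplicit false
set_option backward.isDefEq.respectTransparency false
set_option linter.style.haveILetI false
set_option linter.unusedSectionVars false

universe u

open CategoryTheory CategoryTheory.Limits AlgebraicGeometry TopologicalSpace
open Groth.Agent.Intersect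
open Groth.Agent.CurveRR.Multi (lenAt)
open Groth.Agent.CohFinite (tmap shortExact_tmap)

noncomputable section

namespace Groth.Agent.Nakai

attribute [local instance] clMonoid

variable {X : Scheme.{u}} (k : Type u) [Field k] [X.Over (Spec (CommRingCat.of k))] [IsProper (X ↘ Spec (CommRingCat.of k))]

/-- Cutting by an ample module preserves numerical triviality. -/
theorem cons_ample_zero {H : X.Modules} (hH : CohB1.IsAmple H) {l : List X.Modules}
    (hl : ∀ M ∈ l, PicF.IsInvertible M) {r : ℕ} (hr : r = l.length)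
    (h : ∀ G : X.Modules, Coh.IsCoh G → topologicalKrullDim (CohB1.support G) ≤ (r : WithBot ℕ∞) → D k l G = 0)
    {F : X.Modules} (hF : Coh.IsCoh F) (hd : topologicalKrullDim (CohB1.support F) ≤ ((r + 1 : ℕ) : WithBot ℕ∞)) :
    D k (H :: l) F = 0 := by
  subst hr
  haveI := CurveRR.isNoetherian_of_proper k X
  have hM : ∀ i, PicF.IsInvertible ((Fin.cons H l.get : Fin (l.length + 1) → X.Modules) i) :=
    isInvertible_cons hH.1 (forall_get hl)
  obtain ⟨T, hT⟩ := exists_top_finset k hF hd
  rw [D_cons_get, alt_comp k F hF hd hM T hT]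
  refine Finset.sum_eq_zero fun ξ hξ => ?_
  rw [← D_cons_get]
  refine mul_eq_zero_of_right _ ?_
  have hξd := ((hT ξ).1 hξ).2
  obtain ⟨n, s, hξs, -, -⟩ := TMul.exists_mem_le hH (x := ξ) (U := ⊤) trivial
  let P := CohB1.tensorPow H (n + 1)
  have hP : PicF.IsInvertible P := TMul.isInvertible_tensorPow hH.1 _
  let φ := ((KFlat.schB X).obj (Devissage.A ξ)).map s
  haveI : Mono φ := mono_A_tensor_section ξ hP s hξs
  have hA := Devissage.isCoh_A ξ
  have hAO : Coh.IsCoh (((KFlat.schB X).obj (Devissage.A ξ)).obj (Coh.structureModule X)) :=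
    isCoh_A_twist k TMul.isInvertible_structureModule
  have hAP : Coh.IsCoh (((KFlat.schB X).obj (Devissage.A ξ)).obj P) := isCoh_A_twist k hP
  have hQ : Coh.IsCoh (cokernel φ) := Groth.Agent.QC.isCoh_cokernel hAO.1 hAP φ
  have hS := Devissage.cokSeq_shortExact φ
  have hQsub : CohB1.support (cokernel φ) ⊆ closure {ξ} := fun x hx =>
    support_tensor_subset isClosed_closure (Devissage.support_A_subset ξ) P
      ((ClSubLib.support_shortExact _ hS).symm ▸ Or.inr hx)
  have hQξ : ξ ∉ CohB1.support (cokernel φ) := by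
    haveI := isIso_stalk_of_mem_genLocus s hξs
    refine Devissage.notMem_support_of_surjective _ hS _ fun m => ?_
    exact (@ConcreteCategory.bijective_of_isIso _ _ _ _ _ _ _ _ ((DerSch.stalkFunctor X ξ).map φ) (by
        haveI : IsIso ((KFlat.stTensorIso (Devissage.A ξ) (Coh.structureModule X) ξ).hom ≫
            (DerSch.stalkFunctor X ξ).map (((KFlat.schB X).map (𝟙 (Devissage.A ξ))).app _ ≫ φ)) := by
          rw [← KFlat.stTensorIso_natural (𝟙 (Devissage.A ξ)) s ξ]
          infer_instance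
        have h1 := IsIso.of_isIso_comp_left (KFlat.stTensorIso (Devissage.A ξ) (Coh.structureModule X) ξ).hom
          ((DerSch.stalkFunctor X ξ).map (((KFlat.schB X).map (𝟙 (Devissage.A ξ))).app _ ≫ φ))
        rwa [CategoryTheory.Functor.map_id, NatTrans.id_app, Category.id_comp] at h1)).2 m
  have hQd : topologicalKrullDim (CohB1.support (cokernel φ)) ≤ (l.length : WithBot ℕ∞) :=
    le_of_lt_succ' (dim_proper_lt (lt_succ_of_le' hξd.le) (Groth.Agent.QC.isClosed_support hQ.2) hQsub hQξ)
  have hadd := congrArg alt (χt_add k (forall_get hl) hS hAO hAP hQ)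
  rw [alt_add] at hadd
  change alt (χt k (CohB1.tensorMod (Devissage.A ξ) P) l.get) =
    alt (χt k (CohB1.tensorMod (Devissage.A ξ) (Coh.structureModule X)) l.get) + alt (χt k (cokernel φ) l.get) at hadd
  rw [χt_iso k (TMul.commIso (Devissage.A ξ) (Coh.structureModule X) ≪≫ TMul.leftUnitIso _) l.get,
    ← D_get, ← D_get, ← D_get] at hadd
  have hAd : topologicalKrullDim (CohB1.support (Devissage.A ξ)) ≤ ((l.length + 1 : ℕ) : WithBot ℕ∞) :=
    (dim_mono (Devissage.support_A_subset ξ)).trans hξd.le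
  have h1 := D_pow k hA hH.1 hl rfl hAd (n + 1)
  rw [D, hadd, sub_add_cancel_left] at h1
  have h2 := h _ hQ hQd
  rw [h2, neg_zero] at h1
  exact (mul_eq_zero.1 h1.symm).resolve_left (by exact_mod_cast Nat.succ_ne_zero n)

theorem cut_zero {H L : X.Modules} (hH : CohB1.IsAmple H) (hL : PicF.IsInvertible L) (m : ℕ)
    (h : ∀ ξ : X, topologicalKrullDim (closure ({ξ} : Set X)) = (m : WithBot ℕ∞) →
      D k (List.replicate m L) (Devissage.A ξ) = 0) :
    ∀ (a : ℕ) (F : X.Modules), Coh.IsCoh F → topologicalKrullDim (CohB1.support F) ≤ ((a + m : ℕ) : WithBot ℕ∞) →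
      D k (List.replicate a H ++ List.replicate m L) F = 0
  | 0, F, hF, hd => by
    obtain ⟨T, hT⟩ := exists_top_finset k hF (d := m) (by simpa using hd)
    simp only [List.replicate_zero, List.nil_append, D_replicate]
    rw [alt_comp k F hF (by simpa using hd) (fun _ => hL) T hT]
    refine Finset.sum_eq_zero fun ξ hξ => mul_eq_zero_of_right _ ?_
    rw [← D_replicate]
    exact h ξ ((hT ξ).1 hξ).2
  | a + 1, F, hF, hd => by
    rw [show a + 1 + m = a + m + 1 by omega] at hd
    exact cons_ample_zero k hH (mem_mix hH.1 hL a m) (by simp) (cut_zero hH hL m h a) hF hd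

theorem D_push {Y : Scheme.{u}} [Y.Over (Spec (CommRingCat.of k))] [IsProper (Y ↘ Spec (CommRingCat.of k))]
    (g : Y ⟶ X) [IsProper g] (hg : g ≫ (X ↘ Spec (CommRingCat.of k)) = Y ↘ Spec (CommRingCat.of k))
    {l : List X.Modules} (hl : ∀ M ∈ l, PicF.IsInvertible M) {G : Y.Modules} (hG : Coh.IsCoh G)
    (hd : topologicalKrullDim (CohB1.support G) ≤ (l.length : WithBot ℕ∞)) :
    D k (l.map (Scheme.Modules.pullback g).obj) G = D k l ((Scheme.Modules.pushforward g).obj G) := by
  have e : l.map (Scheme.Modules.pullback g).obj =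
      List.ofFn fun i => (Scheme.Modules.pullback g).obj (l.get i) := by
    conv_lhs => rw [← List.ofFn_get l, List.map_ofFn]
    rfl
  rw [e, D_ofFn, D_get]
  exact alt_push k g hg l.length l.get (forall_get hl) G hG hd

/-- Global sections of a twisted direct image. -/
theorem h0_push_twist {Y : Scheme.{u}} [Y.Over (Spec (CommRingCat.of k))] (g : Y ⟶ X) [IsClosedImmersion g]
    (hg : g ≫ (X ↘ Spec (CommRingCat.of k)) = Y ↘ Spec (CommRingCat.of k)) {G : Y.Modules} (hG : Coh.IsQCoh G)
    {L : X.Modules} (hL : PicF.IsInvertible L) (n : ℕ) :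
    CurveRR.h k (CohB1.tensorMod ((Scheme.Modules.pushforward g).obj G) (CohB1.tensorPow L n)) 0 =
      CurveRR.h k (CohB1.tensorMod G (CohB1.tensorPow ((Scheme.Modules.pullback g).obj L) n)) 0 := by
  obtain ⟨p⟩ := TMul.nonempty_pullPowIso g L n
  have hP := PicLoc.isInvertible_pullback g (TMul.isInvertible_tensorPow hL n)
  haveI : G.IsQuasicoherent := hG
  haveI : Coh.IsQCoh (CohB1.tensorMod G ((Scheme.Modules.pullback g).obj (CohB1.tensorPow L n))) :=
    TMul.isQCoh_tensor hP
  obtain ⟨e⟩ := CohFinite.hh_push_linear k g hg (CohB1.tensorMod G ((Scheme.Modules.pullback g).obj (CohB1.tensorPow L n)))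
    (CohQC.directAcyclic_of_isAffineHom g _) 0
  refine (CurveRR.h_eq_of_iso (KFlat.projFormulaIso g G (CohB1.tensorPow L n)) 0).trans ?_
  refine Eq.trans ?_ (CurveRR.h_eq_of_iso (PicGrp.tensorModIso (Iso.refl G) p).symm 0)
  exact e.finrank_eq.symm

/-- Sections of the twists by powers of `L` grow at most like the `q`-th power. -/
def SlowGrowth (L : X.Modules) (q : ℕ) (F : X.Modules) : Prop :=
  ∃ C : ℚ, ∀ n : ℕ, (CurveRR.h k (CohB1.tensorMod F (CohB1.tensorPow L n)) 0 : ℚ) ≤ C * ((n : ℚ) + 1) ^ q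

theorem slowGrowth_of_le {L : X.Modules} {q : ℕ} {F G : X.Modules}
    (h : ∀ n, CurveRR.h k (CohB1.tensorMod F (CohB1.tensorPow L n)) 0 ≤
      CurveRR.h k (CohB1.tensorMod G (CohB1.tensorPow L n)) 0) (hG : SlowGrowth k L q G) : SlowGrowth k L q F := by
  obtain ⟨C, hC⟩ := hG
  exact ⟨C, fun n => (Nat.cast_le.2 (h n)).trans (hC n)⟩

theorem h0_twist_le_of_mono {T : X.Modules} (hT : PicF.IsInvertible T) {F G : X.Modules} (φ : F ⟶ G) [Mono φ]
    (hG : Coh.IsCoh G) : CurveRR.h k (CohB1.tensorMod F T) 0 ≤ CurveRR.h k (CohB1.tensorMod G T) 0 := by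
  have hS := shortExact_tmap hT (Devissage.cokSeq_shortExact φ)
  have h₂ := isCoh_twist k hG hT
  have a := h0_le_of_mono k hS h₂
  exact a

/-- The step on an integral scheme: subtract an ample divisor. -/
theorem slow_step [IsIntegral X] {H L : X.Modules} (hH : CohB1.IsAmple H) (hL : PicF.IsInvertible L) (hn : Nef k L)
    {q e : ℕ} (hq : q ≤ e) (hX : topologicalKrullDim X = ((e + 1 : ℕ) : WithBot ℕ∞))
    (hz : D k (List.replicate (e - q) H ++ List.replicate (q + 1) L) (Coh.structureModule X) = 0)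
    (IH : ∀ Q : X.Modules, Coh.IsCoh Q → topologicalKrullDim (CohB1.support Q) ≤ (e : WithBot ℕ∞) →
      SlowGrowth k L q Q) :
    SlowGrowth k L q (Coh.structureModule X) := by
  classical
  haveI := CurveRR.isNoetherian_of_proper k X
  obtain ⟨c₁, -, e₀, he₀⟩ := ample_growth k hH TMul.isInvertible_structureModule (e + 1) hX
  let B := CohB1.tensorPow H (e₀ + 1)
  have hB : CohB1.IsAmple B := TMul.isAmple_tensorPow hH (Nat.succ_pos e₀)
  obtain ⟨B', hB', hBB'⟩ := W7Hull.exists_tensor_inverse hB.1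
  obtain ⟨s, hs⟩ := exists_section_of_h0 k (G := B) ((he₀ (e₀ + 1) (Nat.le_succ e₀)).2.trans_eq
    (h_congr k (by simp only [B, cl_tensor, cl_one, mul_one]) 0))
  haveI : Mono s := CurveRR.mono_of_ne_zero TMul.isInvertible_structureModule hB.1 s hs
  have hO := isCoh_one k (X := X)
  have hOd : topologicalKrullDim (CohB1.support (Coh.structureModule X)) ≤ ((e + 1 : ℕ) : WithBot ℕ∞) :=
    (dim_support_structure.trans hX).le
  have hdim : ∀ (P : X.Modules) (hP : PicF.IsInvertible P) (t : Coh.structureModule X ⟶ P), t ≠ 0 →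
      topologicalKrullDim (CohB1.support (cokernel t)) ≤ (e : WithBot ℕ∞) := fun P hP t ht => by
    refine le_of_lt_succ' (dim_proper_lt (ξ := genericPoint X) (n := e + 1) ?_ ?_ (fun x _ => ?_) ?_)
    · exact lt_succ_of_le' ((topologicalKrullDim_subspace_le X _).trans hX.le)
    · exact Groth.Agent.QC.isClosed_support (isCoh_coker k hP t).2
    · rw [genericPoint_closure]
      trivial
    · exact CurveRR.notMem_support_coker t _ (CurveRR.surjective_stalk_generic hP t ht)
  -- intersection numbers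
  let c : ℕ → ℚ := fun r => (-1 : ℚ) ^ (e + 1) *
    D k (List.replicate (e + 1 - r) H ++ List.replicate r L) (Coh.structureModule X)
  have hc0 : 0 < c 0 := by
    simp only [c, Nat.sub_zero, List.replicate_zero, List.append_nil, D_replicate]
    exact alt_pos k (e + 1) _ (fun _ => hH) _ hO (dim_support_structure.trans hX)
  have hcq : c (q + 1) ≤ 0 := by
    simp only [c, show e + 1 - (q + 1) = e - q by omega, hz, mul_zero, le_refl]
  obtain ⟨r, hr, hr0, hr1⟩ : ∃ r ≤ q, 0 < c r ∧ c (r + 1) ≤ 0 := by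
    by_contra hcon
    push Not at hcon
    have : ∀ r ≤ q + 1, 0 < c r := fun r => by
      induction r with
      | zero => exact fun _ => hc0
      | succ r ih => exact fun hr => hcon r (by omega) (ih (by omega))
    exact absurd (this (q + 1) le_rfl) (not_lt.2 hcq)
  -- negative twists have no sections
  have hnone : ∀ n : ℕ, CurveRR.h k (CohB1.tensorMod B' (CohB1.tensorPow L n)) 0 = 0 := fun n => by
    by_contra hne
    have hLn := TMul.isInvertible_tensorPow hL n
    have hE := TMul.isInvertible_tensorMod hB' hLn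
    obtain ⟨t, ht⟩ := exists_section_of_h0 k (Nat.pos_of_ne_zero hne)
    haveI : Mono t := CurveRR.mono_of_ne_zero TMul.isInvertible_structureModule hE t ht
    set l := List.replicate (e - r) H ++ List.replicate r L with hldef
    have hl : ∀ M ∈ l, PicF.IsInvertible M := mem_mix hH.1 hL _ _
    have hlen : e + 1 = l.length + 1 := by simp [l]; omega
    have h3 := sign_alt_coker k hE t hl e
    have h4 : 0 ≤ (-1 : ℚ) ^ e * D k l (cokernel t) := by
      have h := mix_of_pure (i := e - r) (e := e) hH hL hn (isCoh_coker k hE t) (by omega)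
        (pure_nonneg k _) (hdim _ hE t ht)
      rwa [show e - (e - r) = r by omega] at h
    have hH' : (H :: l) = List.replicate (e + 1 - r) H ++ List.replicate r L := by
      rw [show e + 1 - r = e - r + 1 by omega, List.replicate_succ, List.cons_append]
    have hL' : (L :: l).Perm (List.replicate (e + 1 - (r + 1)) H ++ List.replicate (r + 1) L) := by
      rw [show e + 1 - (r + 1) = e - r by omega, List.replicate_succ]
      exact List.perm_middle.symm
    have h5 := D_pow k hO hL hl hlen hOd n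
    have h6 := D_pow k hO hH.1 hl hlen hOd (e₀ + 1)
    obtain ⟨eiso⟩ := iso_of_cl (show PicF.cl (CohB1.tensorPow L n) =
        PicF.cl (CohB1.tensorMod B (CohB1.tensorMod B' (CohB1.tensorPow L n))) by
      rw [cl_tensor B, cl_tensor B', ← mul_assoc, cl_inv hBB', one_mul])
    have h7 : D k (CohB1.tensorPow L n :: l) (Coh.structureModule X) =
        D k (CohB1.tensorMod B (CohB1.tensorMod B' (CohB1.tensorPow L n)) :: l) (Coh.structureModule X) := by
      rw [D, D, D_iso k l (PicGrp.tensorModIso (Iso.refl (Coh.structureModule X)) eiso)]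
    rw [h7, D_tensor k hO hB.1 hE hl hlen hOd] at h5
    change D k (B :: l) (Coh.structureModule X) = _ at h6
    rw [h6, hH'] at h5
    rw [D_perm k hL'] at h5
    have h8 : (n : ℚ) * c (r + 1) = ((e₀ + 1 : ℕ) : ℚ) * c r +
        (-1 : ℚ) ^ (e + 1) * D k (CohB1.tensorMod B' (CohB1.tensorPow L n) :: l) (Coh.structureModule X) := by
      simp only [c]
      rw [mul_left_comm, ← h5]
      ring
    have h9 : (n : ℚ) * c (r + 1) ≤ 0 := mul_nonpos_of_nonneg_of_nonpos (Nat.cast_nonneg n) hr1
    have h10 : 0 < ((e₀ + 1 : ℕ) : ℚ) * c r := mul_pos (by exact_mod_cast Nat.succ_pos e₀) hr0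
    linarith
  -- the sequence
  let φ := tmap s B'
  have hQ := isCoh_twist k (isCoh_coker k hB.1 s) hB'
  obtain ⟨C, hC⟩ := IH _ hQ ((dim_support_twist (isCoh_coker k hB.1 s) _).trans (hdim B hB.1 s hs))
  refine ⟨C, fun n => le_trans (Nat.cast_le.2 ?_) (hC n)⟩
  have hLn := TMul.isInvertible_tensorPow hL n
  have hS := shortExact_tmap hLn (shortExact_tmap hB' (Devissage.cokSeq_shortExact s))
  have h1 := h0_middle k hS (isCoh_twist k (isCoh_twist k hO hB') hLn)
    (isCoh_twist k (isCoh_twist k (isCoh_inv k hB.1) hB') hLn) (isCoh_twist k hQ hLn)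
  change CurveRR.h k (CohB1.tensorMod (CohB1.tensorMod B B') (CohB1.tensorPow L n)) 0 ≤
    CurveRR.h k (CohB1.tensorMod (CohB1.tensorMod (Coh.structureModule X) B') (CohB1.tensorPow L n)) 0 + _ at h1
  rw [h_congr k (show PicF.cl (CohB1.tensorMod (CohB1.tensorMod (Coh.structureModule X) B') (CohB1.tensorPow L n)) =
      PicF.cl (CohB1.tensorMod B' (CohB1.tensorPow L n)) by simp only [cl_tensor, cl_one, one_mul]) 0, hnone,
    Nat.zero_add] at h1
  refine le_of_eq_of_le (h_congr k ?_ 0) h1
  simp only [cl_tensor, cl_one, one_mul, cl_inv hBB']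

theorem slowGrowth [IsIntegral X] {H L : X.Modules} (hH : CohB1.IsAmple H) (hL : PicF.IsInvertible L) (hn : Nef k L)
    (q : ℕ) (h : ∀ ξ : X, topologicalKrullDim (closure ({ξ} : Set X)) = ((q + 1 : ℕ) : WithBot ℕ∞) →
      D k (List.replicate (q + 1) L) (Devissage.A ξ) = 0) :
    ∀ (e : ℕ) (F : X.Modules), Coh.IsCoh F → topologicalKrullDim (CohB1.support F) ≤ (e : WithBot ℕ∞) →
      SlowGrowth k L q F := by
  haveI := CurveRR.isNoetherian_of_proper k X
  intro e
  induction e with
  | zero =>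
    intro F hF hd
    obtain ⟨C, -, hC⟩ := exists_h0_pow_le k hH hL hF q (hd.trans (by exact_mod_cast Nat.zero_le q))
    exact ⟨C, hC⟩
  | succ e ih =>
    intro F hF hd
    by_cases hq : e + 1 ≤ q
    · obtain ⟨C, -, hC⟩ := exists_h0_pow_le k hH hL hF q (hd.trans (by exact_mod_cast hq))
      exact ⟨C, hC⟩
    push Not at hq
    refine Devissage.extension_roots (SlowGrowth k L q)
      (fun M N ⟨i⟩ hM => slowGrowth_of_le k (fun n => (CurveRR.h_eq_of_iso
        (PicGrp.tensorModIso i (Iso.refl (CohB1.tensorPow L n))) 0).ge) hM)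
      (fun M hM => ⟨0, fun n => ?_⟩)
      ⟨CohB1.support F, Groth.Agent.QC.isClosed_support hF.2⟩
      (fun S hS h₁ h₂ h₃ ⟨C₁, hC₁⟩ ⟨C₃, hC₃⟩ => ⟨C₁ + C₃, fun n => ?_⟩)
      (fun M r hM hr hP => ?_) (fun ξ hξ => ?_) F hF le_rfl
    · have hz : IsZero (CohB1.tensorMod M (CohB1.tensorPow L n)) := (IsZero.iff_id_eq_zero _).2
        (by rw [← Groth.Agent.CohFinite.tmap_id, hM.eq_of_src (𝟙 M) 0, Groth.Agent.CohFinite.tmap_zero])
      rw [CurveRR.h_eq_zero (W7Hull.hh_subsingleton_of_isZero hz 0)]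
      simp
    · have hLn := TMul.isInvertible_tensorPow hL n
      have h1 := h0_middle k (shortExact_tmap hLn hS) (isCoh_twist k h₁ hLn) (isCoh_twist k h₂ hLn)
        (isCoh_twist k h₃ hLn)
      rw [add_mul]
      exact (Nat.cast_le.2 h1).trans ((Nat.cast_add _ _).trans_le (add_le_add (hC₁ n) (hC₃ n)))
    · let ι' : M ⟶ ∐ fun _ : Fin r => M := Sigma.ι (fun _ : Fin r => M) ⟨0, hr⟩
      haveI : Mono ι' := (SplitMono.mk (Sigma.desc fun _ : Fin r => 𝟙 M) (Sigma.ι_desc _ _)).mono
      exact slowGrowth_of_le k (fun n => h0_twist_le_of_mono k (TMul.isInvertible_tensorPow hL n) ι' (CohFinite.isCoh_of_iso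
        (biproduct.isoCoproduct _) (Devissage.isCoh_biproduct _ fun _ => hM))) hP
    have hξd : topologicalKrullDim (closure ({ξ} : Set X)) ≤ ((e + 1 : ℕ) : WithBot ℕ∞) :=
      (dim_mono (closure_minimal (Set.singleton_subset_iff.2 hξ) (Groth.Agent.QC.isClosed_support hF.2))).trans hd
    obtain ⟨d, hdξ⟩ := exists_dim_closure k ξ
    by_cases hde : d ≤ e
    · refine Or.inl fun R hR => ih R hR.coh ((dim_mono hR.support_subset).trans (hdξ.trans_le (by exact_mod_cast hde)))
    obtain rfl : d = e + 1 := by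
      rw [hdξ] at hξd
      have := CartierDim.natCast_le_withBot.1 hξd
      omega
    let Z := (Scheme.IdealSheafData.vanishingIdeal (Devissage.Zc ξ)).subscheme
    let i : Z ⟶ X := Devissage.Zi ξ
    letI : Z.Over (Spec (CommRingCat.of k)) := ⟨i ≫ (X ↘ Spec (CommRingCat.of k))⟩
    haveI : IsProper (Z ↘ Spec (CommRingCat.of k)) := inferInstanceAs (IsProper (i ≫ _))
    haveI : IsIntegral Z := Devissage.Zi_isIntegral ξ
    haveI := CurveRR.isNoetherian_of_proper k Z
    have hZ : topologicalKrullDim Z = ((e + 1 : ℕ) : WithBot ℕ∞) := by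
      rw [← hdξ, ← Devissage.range_Zi ξ]
      exact IsHomeomorph.topologicalKrullDim_eq _ i.isClosedEmbedding.isEmbedding.toHomeomorph.isHomeomorph
    have hOZ : Coh.IsCoh (Coh.structureModule Z) := RefStalk.isCoh_structureModule
    have hA : SlowGrowth k L q (Devissage.A ξ) := by
      obtain ⟨C, hC⟩ : SlowGrowth k ((Scheme.Modules.pullback i).obj L) q (Coh.structureModule Z) := by
        refine slow_step k (TMul.isAmple_pullback_of_isAffineHom i hH) (PicLoc.isInvertible_pullback i hL)
          (nef_pullback k i rfl hL hn) (by omega) hZ ?_ fun Q hQ hQd => ?_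
        · have h1 := D_push k i rfl (mem_mix hH.1 hL (e - q) (q + 1)) hOZ
            ((dim_support_structure.trans hZ).le.trans_eq (by
              rw [List.length_append, List.length_replicate, List.length_replicate, show e - q + (q + 1) = e + 1 by omega]))
          rw [List.map_append, List.map_replicate, List.map_replicate] at h1
          rw [h1]
          exact cut_zero k hH hL (q + 1) h (e - q) _ (Devissage.isCoh_A ξ)
            ((dim_mono (Devissage.support_A_subset ξ)).trans (hdξ.trans_le (by rw [show e - q + (q + 1) = e + 1 by omega])))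
        · obtain ⟨C, hC⟩ := ih _ (isCoh_push' i hQ) ((dim_support_push i hQ).trans_le hQd)
          exact ⟨C, fun n => by rw [← h0_push_twist k i rfl hQ.1 hL n]; exact hC n⟩
      exact ⟨C, fun n => by rw [h0_push_twist k i rfl hOZ.1 hL n]; exact hC n⟩
    have hmem := (Devissage.piece_A ξ).mem
    refine Or.inr ⟨Devissage.A ξ, Devissage.isCoh_A ξ, Devissage.support_A_subset ξ, hmem,
      Devissage.smul_stalk_of_killed (Devissage.killed_push _), fun J hJ => ?_⟩
    obtain ⟨M', m, hm, hM', h0, hsurj⟩ := W7Hull.exists_push_sub i J (Coh.structureModule Z) hOZ.1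
    haveI := hm
    haveI : M'.IsQuasicoherent := hM'
    let ι' : (Coh.push i).obj M' ⟶ (Dual3.idealMul J).obj ((Coh.push i).obj (Coh.structureModule Z)) :=
      kernel.lift _ ((Coh.push i).map m) h0
    have hι : ι' ≫ Dual3.idealMulι J ((Coh.push i).obj (Coh.structureModule Z)) = (Coh.push i).map m :=
      kernel.lift_ι _ _ _
    haveI : Mono (ι' ≫ Dual3.idealMulι J ((Coh.push i).obj (Coh.structureModule Z))) := by rw [hι]; infer_instance
    refine ⟨(Coh.push i).obj M', ι', mono_of_mono ι' (Dual3.idealMulι J ((Coh.push i).obj (Coh.structureModule Z))),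
      Groth.Agent.QC.isQCoh_pushforward i, ?_, ?_⟩
    · show Function.Surjective (Groth.Agent.WeakAssLib.stalkHom (ι' ≫ Dual3.idealMulι J _) ξ)
      rw [hι]
      exact hsurj ξ hJ
    · exact slowGrowth_of_le k (fun n => h0_twist_le_of_mono k (TMul.isInvertible_tensorPow hL n) ((Coh.push i).map m) (Devissage.isCoh_A ξ)) hA

/-- Numerical triviality of `L^m` excludes growth of order `m` of the sections of the powers. -/
theorem not_growth [IsIntegral X] {H L : X.Modules} (hH : CohB1.IsAmple H) (hL : PicF.IsInvertible L) (hn : Nef k L)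
    (n : ℕ) (hX : topologicalKrullDim X = (n : WithBot ℕ∞)) (m : ℕ)
    (h : ∀ ξ : X, topologicalKrullDim (closure ({ξ} : Set X)) = (m : WithBot ℕ∞) →
      D k (List.replicate m L) (Devissage.A ξ) = 0) (ν a : ℕ) :
    ∃ μ : ℕ, 1 ≤ μ ∧ a * Module.finrank k (Coh.HH X (CohB1.tensorPow L (ν * μ)) 0) < μ ^ m := by
  have hO := isCoh_one k (X := X)
  have hOd : topologicalKrullDim (CohB1.support (Coh.structureModule X)) ≤ (n : WithBot ℕ∞) :=
    (dim_support_structure.trans hX).le
  match m, h with
  | 0, h =>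
    exfalso
    have h1 := cut_zero k hH hL 0 h n _ hO (by simpa using hOd)
    have h2 := alt_pos k n _ (fun _ => hH) _ hO (dim_support_structure.trans hX)
    simp only [List.replicate_zero, List.append_nil, D_replicate] at h1
    rw [h1, mul_zero] at h2
    exact lt_irrefl _ h2
  | q + 1, h =>
    obtain ⟨C, hC⟩ := slowGrowth k hH hL hn q h n _ hO hOd
    obtain ⟨μ₀, hμ₀⟩ := exists_nat_gt ((a : ℚ) * |C| * ((ν : ℚ) + 1) ^ q)
    refine ⟨μ₀ + 1, Nat.le_add_left 1 μ₀, ?_⟩
    rw [show (Module.finrank k (Coh.HH X (CohB1.tensorPow L (ν * (μ₀ + 1))) 0)) =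
      CurveRR.h k (CohB1.tensorMod (Coh.structureModule X) (CohB1.tensorPow L (ν * (μ₀ + 1)))) 0 from
      h_congr k (by rw [cl_tensor, cl_one, one_mul]) 0]
    rw [← Nat.cast_lt (α := ℚ)]
    set M : ℚ := ((μ₀ + 1 : ℕ) : ℚ) with hM
    have hM1 : (1 : ℚ) ≤ M := by rw [hM]; exact_mod_cast Nat.le_add_left 1 μ₀
    push_cast
    have h1 := hC (ν * (μ₀ + 1))
    have h2 : (((ν * (μ₀ + 1) : ℕ) : ℚ) + 1) ^ q ≤ ((ν : ℚ) + 1) ^ q * M ^ q := by
      rw [← mul_pow]
      refine pow_le_pow_left₀ (by positivity) ?_ q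
      rw [Nat.cast_mul, ← hM]
      nlinarith [(Nat.cast_nonneg ν : (0 : ℚ) ≤ ν)]
    have h3 : C * (((ν * (μ₀ + 1) : ℕ) : ℚ) + 1) ^ q ≤ |C| * (((ν : ℚ) + 1) ^ q * M ^ q) :=
      (mul_le_mul_of_nonneg_right (le_abs_self C) (by positivity)).trans
        (mul_le_mul_of_nonneg_left h2 (abs_nonneg C))
    have h4 := mul_le_mul_of_nonneg_left (h1.trans h3) (Nat.cast_nonneg a : (0 : ℚ) ≤ a)
    have h5 : (μ₀ : ℚ) < M := by rw [hM]; exact_mod_cast Nat.lt_succ_self μ₀
    refine lt_of_le_of_lt h4 ?_
    rw [show (((μ₀ : ℚ) + 1)) = M by rw [hM]; push_cast; rfl, pow_succ,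
      show (a : ℚ) * (|C| * (((ν : ℚ) + 1) ^ q * M ^ q)) = M ^ q * ((a : ℚ) * |C| * ((ν : ℚ) + 1) ^ q) by ring]
    exact mul_lt_mul_of_pos_left (hμ₀.trans h5) (by positivity)

end Groth.Agent.Nakai

namespace Groth.Agent.Nakai

variable {X : Scheme.{u}} (k : Type u) [Field k] [X.Over (Spec (CommRingCat.of k))] [IsProper (X ↘ Spec (CommRingCat.of k))]

theorem D_A_of_intNum {L Linv : X.Modules} (hL : PicF.IsInvertible L)
    (hLL : Nonempty (CohB1.tensorMod L Linv ≅ Coh.structureModule X)) (n m : ℕ) (hn : topologicalKrullDim X ≤ n)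
    (h : ∀ (V : Scheme.{u}) (i : V ⟶ X) [IsClosedImmersion i], IsIntegral V → topologicalKrullDim V = (m : ℕ) →
      FGA.intNum k X n (fun _ : Fin m => Linv) ((Scheme.Modules.pushforward i).obj (Coh.structureModule V)) = 0)
    (ξ : X) (hξ : topologicalKrullDim (closure ({ξ} : Set X)) = (m : WithBot ℕ∞)) :
    D k (List.replicate m L) (Devissage.A ξ) = 0 := by
  haveI := CurveRR.isNoetherian_of_proper k X
  let i := Devissage.Zi ξ
  have hZ : topologicalKrullDim ((Scheme.IdealSheafData.vanishingIdeal (Devissage.Zc ξ)).subscheme) = (m : WithBot ℕ∞) := by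
    rw [← hξ, ← Devissage.range_Zi ξ]
    exact IsHomeomorph.topologicalKrullDim_eq _ i.isClosedEmbedding.isEmbedding.toHomeomorph.isHomeomorph
  have h0 := h _ i (Devissage.Zi_isIntegral ξ) hZ
  have h1 := intNum_eq_alt k n hn (fun _ : Fin m => Linv) (Devissage.A ξ)
  rw [h0, Int.cast_zero] at h1
  rw [alt_inverse k m (fun _ => L) (fun _ => Linv) (fun _ => hL) (fun _ => Intersect.isInvertible_inverse hL hLL)
    (fun _ => hLL) _ (Devissage.isCoh_A ξ) ((dim_mono (Devissage.support_A_subset ξ)).trans hξ.le),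
    ← D_replicate] at h1
  exact (mul_eq_zero.1 h1.symm).resolve_left (pow_ne_zero _ (by norm_num))

end Groth.Agent.Nakai
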