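import Groth.Agent.Nakai.SymList
import Groth.Agent.Intersect.Asymp

/-!
Isomorphism classes of modules as a commutative monoid, and the intersection pairing on a surface.
-/

set_option autoImplicit false
set_option backward.isDefEq.respectTransparency false
set_option linter.style.haveILetI false
set_option linter.unusedSectionVars false

universe u

open CategoryTheory CategoryTheory.Limits AlgebraicGeometry TopologicalSpace
open Groth.Agent.Intersect

noncomputable section

namespace Groth.Agent.Nakai

variable {X : Scheme.{u}}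

/-- Classes of modules under tensor product. -/
@[reducible] def clMonoid (X : Scheme.{u}) : CommMonoid (PicF.Cl X) where
  mul := PicGrp.mulCl
  one := PicF.cl (Coh.structureModule X)
  mul_assoc := Quot.ind fun A => Quot.ind fun B => Quot.ind fun C =>
    (PicGrp.cl_eq_cl_iff _ _).2 ⟨TMul.assocIso A B C⟩
  mul_comm := Quot.ind fun A => Quot.ind fun B => (PicGrp.cl_eq_cl_iff _ _).2 ⟨TMul.commIso A B⟩
  one_mul := Quot.ind fun A => (PicGrp.cl_eq_cl_iff _ _).2 ⟨TMul.leftUnitIso A⟩
  mul_one := Quot.ind fun A => (PicGrp.cl_eq_cl_iff _ _).2 ⟨TMul.commIso _ _ ≪≫ TMul.leftUnitIso A⟩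

attribute [local instance] clMonoid

theorem cl_tensor (A B : X.Modules) : PicF.cl (CohB1.tensorMod A B) = PicF.cl A * PicF.cl B := rfl

theorem cl_one : PicF.cl (Coh.structureModule X) = 1 := rfl

theorem cl_pow (A : X.Modules) : ∀ n : ℕ, PicF.cl (CohB1.tensorPow A n) = PicF.cl A ^ n
  | 0 => (pow_zero _).symm
  | n + 1 => by rw [pow_succ, ← cl_pow A n]; rfl

theorem cl_inv {A A' : X.Modules} (h : Nonempty (CohB1.tensorMod A A' ≅ Coh.structureModule X)) :
    PicF.cl A * PicF.cl A' = 1 := (PicGrp.cl_eq_cl_iff _ _).2 h

theorem iso_of_cl {A B : X.Modules} (h : PicF.cl A = PicF.cl B) : Nonempty (A ≅ B) :=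
  (PicGrp.cl_eq_cl_iff A B).1 h

variable (k : Type u) [Field k] [X.Over (Spec (CommRingCat.of k))]

theorem h_congr {A B : X.Modules} (h : PicF.cl A = PicF.cl B) (q : ℕ) : CurveRR.h k A q = CurveRR.h k B q :=
  (iso_of_cl h).elim fun e => CurveRR.h_eq_of_iso e q

theorem euler_congr {A B : X.Modules} (h : PicF.cl A = PicF.cl B) :
    Curv2.euler k X A = Curv2.euler k X B :=
  (iso_of_cl h).elim fun e => CurveRR.euler_eq_of_iso e

variable [IsProper (X ↘ Spec (CommRingCat.of k))]

/-- The intersection pairing against the structure sheaf. -/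
def inter (A B : X.Modules) : ℚ := D k [A, B] (Coh.structureModule X)

theorem inter_comm (A B : X.Modules) : inter k A B = inter k B A := D_perm k (List.Perm.swap B A []) _

include k in
theorem isCoh_one : Coh.IsCoh (Coh.structureModule X) :=
  haveI := CurveRR.isNoetherian_of_proper k X
  RefStalk.isCoh_structureModule

variable (hdim : topologicalKrullDim X ≤ ((2 : ℕ) : WithBot ℕ∞))

include hdim in
theorem inter_tensor {A B C : X.Modules} (hA : PicF.IsInvertible A) (hB : PicF.IsInvertible B)
    (hC : PicF.IsInvertible C) : inter k (CohB1.tensorMod A B) C = inter k A C + inter k B C :=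
  D_tensor k (isCoh_one k) hA hB (l := [C]) (by simpa using hC) (e := 2) rfl
    (le_of_eq_of_le (dim_support_structure (X := X)) hdim)

include hdim in
theorem inter_tensor_right {A B C : X.Modules} (hA : PicF.IsInvertible A) (hB : PicF.IsInvertible B)
    (hC : PicF.IsInvertible C) : inter k C (CohB1.tensorMod A B) = inter k C A + inter k C B := by
  rw [inter_comm, inter_tensor k hdim hA hB hC, inter_comm k A, inter_comm k B]

include hdim in
theorem inter_pow {A C : X.Modules} (hA : PicF.IsInvertible A) (hC : PicF.IsInvertible C) (n : ℕ) :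
    inter k (CohB1.tensorPow A n) C = (n : ℚ) * inter k A C :=
  D_pow k (isCoh_one k) hA (l := [C]) (by simpa using hC) (e := 2) rfl
    (le_of_eq_of_le (dim_support_structure (X := X)) hdim) n

include hdim in
theorem inter_pow_right {A C : X.Modules} (hA : PicF.IsInvertible A) (hC : PicF.IsInvertible C) (n : ℕ) :
    inter k C (CohB1.tensorPow A n) = (n : ℚ) * inter k C A := by
  rw [inter_comm, inter_pow k hdim hA hC, inter_comm k A]

theorem inter_one (C : X.Modules) : inter k (Coh.structureModule X) C = 0 := by
  rw [inter, D, D_iso k [C] (TMul.leftUnitIso (Coh.structureModule X)), sub_self]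

theorem inter_iso {A A' : X.Modules} (h : PicF.cl A = PicF.cl A') (C : X.Modules) :
    inter k A C = inter k A' C := by
  obtain ⟨e⟩ := iso_of_cl h
  show D k [C] _ - D k [C] _ = D k [C] _ - D k [C] _
  rw [D_iso k [C] (PicGrp.tensorModIso (Iso.refl (Coh.structureModule X)) e)]

include hdim in
theorem inter_inv {A A' C : X.Modules} (hA : PicF.IsInvertible A)
    (hAA' : Nonempty (CohB1.tensorMod A A' ≅ Coh.structureModule X)) (hC : PicF.IsInvertible C) :
    inter k A' C = -inter k A C := by
  have h := inter_tensor k hdim hA (Intersect.isInvertible_inverse hA hAA') hC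
  rw [inter_iso k (A' := Coh.structureModule X) ((PicGrp.cl_eq_cl_iff _ _).2 hAA'), inter_one] at h
  linarith

include hdim in
theorem inter_inv_right {A A' C : X.Modules} (hA : PicF.IsInvertible A)
    (hAA' : Nonempty (CohB1.tensorMod A A' ≅ Coh.structureModule X)) (hC : PicF.IsInvertible C) :
    inter k C A' = -inter k C A := by
  rw [inter_comm, inter_inv k hdim hA hAA' hC, inter_comm]

include hdim in
theorem intNum_eq_inter (A B : X.Modules) :
    (FGA.intNum k X 2 ![A, B] (Coh.structureModule X) : ℚ) = inter k A B := by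
  rw [intNum_eq_alt k 2 hdim, inter, ← D_ofFn]
  rfl

include hdim in
theorem inter_self_pos {A : X.Modules} (hA : CohB1.IsAmple A)
    (hX : topologicalKrullDim X = ((2 : ℕ) : WithBot ℕ∞)) : 0 < inter k A A := by
  have h := alt_pos k 2 _ (fun _ => hA) _ (isCoh_one k) ((dim_support_structure (X := X)).trans hX)
  rw [← D_replicate] at h
  simpa [inter, List.replicate] using h

end Groth.Agent.Nakai
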