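import Groth.Agent.SymAlg.BundleMap
import Groth.Agent.S8914
import Groth.Agent.ResDesc.CartierFam
import Groth.Agent.AlmostBlow.Basic
import Groth.Agent.FpqcDescent.IdealGlue
import Groth.Agent.TMul.Pullback
import Groth.Agent.QC.PullSect
import Groth.Agent.NegTwist.Sections

/-!
Inverse images of the ideal modules of effective Cartier divisors.
-/

set_option autoImplicit false
set_option backward.isDefEq.respectTransparency false
set_option linter.style.haveILetI false
set_option linter.unusedSectionVars false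

universe u

open CategoryTheory CategoryTheory.Limits AlgebraicGeometry TopologicalSpace Opposite
open Groth.Agent.QC (res resO app_res res_self res_res)

noncomputable section

namespace Groth.Agent.Nakai

variable {X Y : Scheme.{u}}

/-- The inverse image of the inclusion of an ideal module. -/
def pullToOne (f : X ⟶ Y) (I : Y.IdealSheafData) :
    (Scheme.Modules.pullback f).obj (ClSub.idealMod I) ⟶ Coh.structureModule X :=
  (Scheme.Modules.pullback f).map (ClSub.idealModι I) ≫ (PicLoc.pullbackStructureIso f).hom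

theorem pullToOne_pullSect (f : X ⟶ Y) (I : Y.IdealSheafData) {U : Y.Opens} (g : Γ(ClSub.idealMod I, U)) :
    (show Γ(X, f ⁻¹ᵁ U) from (pullToOne f I).app (f ⁻¹ᵁ U) (OmegaSh.pullSect f (ClSub.idealMod I) U g)) =
      (f.app U).hom (show Γ(Y, U) from (ClSub.idealModι I).app U g) := by
  let adj := Scheme.Modules.pullbackPushforwardAdjunction f
  have h : adj.homEquiv (Coh.structureModule Y) (Coh.structureModule X)
      (PicLoc.pullbackStructureIso f).hom =
      SheafOfModules.unitToPushforwardObjUnit f.toRingCatSheafHom := Equiv.apply_symm_apply _ _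
  have h1 : adj.homEquiv _ _ (pullToOne f I) =
      ClSub.idealModι I ≫ SheafOfModules.unitToPushforwardObjUnit f.toRingCatSheafHom := by
    rw [pullToOne, adj.homEquiv_naturality_left, h]
  rw [adj.homEquiv_unit] at h1
  exact congr(($h1).app U g)

theorem isGen_pullSect (f : X ⟶ Y) {M : Y.Modules} (hM : PicF.IsInvertible M) {U : Y.Opens} {g : Γ(M, U)}
    (hg : TMul.IsGen g) : TMul.IsGen (OmegaSh.pullSect f M U g) := by
  have h := Groth.Agent.SymAlg.isGen_pullθ f (Iso.refl ((Scheme.Modules.pullback f).obj M))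
    (PicLoc.isInvertible_pullback f hM) (TMul.isQCoh_of_isInvertible hM) g hg
  exact h

/-- The inverse image of the ideal module of a Cartier divisor is the ideal module of the inverse image. -/
theorem nonempty_pullback_idealMod (f : X ⟶ Y) {I : Y.IdealSheafData} (hI : BlowUp.IsEffCartierIdeal I)
    (hc : BlowUp.IsEffCartierIdeal (I.comap f)) :
    Nonempty ((Scheme.Modules.pullback f).obj (ClSub.idealMod I) ≅ ClSub.idealMod (I.comap f)) := by
  have hIi := (Groth.Agent.S8914.result I).2 hI
  have hK := (Groth.Agent.S8914.result (I.comap f)).2 hc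
  let P := (Scheme.Modules.pullback f).obj (ClSub.idealMod I)
  have local' : ∀ x : X, ∃ (D : X.Opens) (hD : IsAffineOpen D) (p : Γ(P, D)), x ∈ D ∧ TMul.IsGen p ∧
      (I.comap f).ideal ⟨D, hD⟩ = Ideal.span {(show Γ(X, D) from (pullToOne f I).app D p)} := fun x => by
    obtain ⟨U₁, g₁, hx₁, hg₁⟩ := TMul.exists_isGen hIi (f x)
    obtain ⟨U, hU, hxU, hUle⟩ := exists_isAffineOpen_mem_and_subset (x := f x) (U := U₁) hx₁
    replace hUle : U ≤ U₁ := hUle
    have hg := hg₁.res hUle
    obtain ⟨D, hD, hxD, hDle⟩ := exists_isAffineOpen_mem_and_subset (x := x) (U := f ⁻¹ᵁ U) hxU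
    replace hDle : D ≤ f ⁻¹ᵁ U := hDle
    refine ⟨D, hD, res P hDle (OmegaSh.pullSect f _ U (res _ hUle g₁)), hxD, (isGen_pullSect f hIi hg).res hDle, ?_⟩
    rw [Groth.Agent.FpqcDescent.ideal_comap_appLE I f ⟨U, hU⟩ ⟨D, hD⟩ hDle,
      ResDesc.ideal_eq_span_of_isGen I hU hg rfl, Ideal.map_span, Set.image_singleton]
    refine congrArg (fun z => Ideal.span {z}) ?_
    refine Eq.trans ?_ (app_res (pullToOne f I) hDle _)
    exact congrArg (fun w => (X.presheaf.map (homOfLE hDle).op).hom w)
      (pullToOne_pullSect f I (res _ hUle g₁)).symm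
  have hzero : pullToOne f I ≫ ClSub.toSubscheme (I.comap f) = 0 := by
    refine Scheme.Modules.hom_ext _ _ fun W => ?_
    ext s
    refine QC.section_eq_of_locally fun x hx => ?_
    obtain ⟨D, hD, p, hxD, hp, hid⟩ := local' x
    obtain ⟨r, hr, hxr⟩ := hD.exists_basicOpen_le ⟨x, hx⟩ hxD
    refine ⟨X.basicOpen r, hr, hxr, ?_⟩
    obtain ⟨d, hd⟩ := (hp (X.basicOpen r) (X.basicOpen_le r)).2 (res P hr s)
    rw [app_res, app_res]
    show (ClSub.toSubscheme (I.comap f)).app (X.basicOpen r) ((pullToOne f I).app (X.basicOpen r) (res P hr s)) = _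
    refine Eq.trans (b := 0) ?_ rfl
    refine (QC.mem_range_kernel_app (ClSub.toSubscheme (I.comap f)) _ _).mp
      ((QC.mem_range_idealModι_affine (I.comap f) (X.affineBasicOpen (U := ⟨D, hD⟩) r) _).mpr ?_)
    rw [← hd, Scheme.Modules.Hom.app_smul]
    refine Ideal.mul_mem_left _ _ ?_
    rw [← app_res (pullToOne f I) (X.basicOpen_le r) p, ← (I.comap f).map_ideal_basicOpen ⟨D, hD⟩ r, hid]
    exact Ideal.mem_map_of_mem _ (Ideal.mem_span_singleton_self _)
  let φ : P ⟶ ClSub.idealMod (I.comap f) := kernel.lift (ClSub.toSubscheme (I.comap f)) (pullToOne f I) hzero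
  have hφ : IsIso φ := by
    refine RelTilde.isIso_of_bijective_near _ fun x => ?_
    obtain ⟨D, hD, p, hxD, hp, hid⟩ := local' x
    obtain ⟨U, j₀, hxU, hj₀⟩ := TMul.exists_isGen hK x
    obtain ⟨V, hV, hxV, hle⟩ := exists_isAffineOpen_mem_and_subset (x := x) (U := D ⊓ U) ⟨hxD, hxU⟩
    replace hle : V ≤ D ⊓ U := hle
    obtain ⟨r, hr, hxr⟩ := hD.exists_basicOpen_le (V := V) ⟨x, hxV⟩ hxD
    have hrD : X.basicOpen r ≤ D := X.basicOpen_le r
    have hrU : X.basicOpen r ≤ U := hr.trans (hle.trans inf_le_right)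
    have hp' := hp.res hrD
    have hj := hj₀.res hrU
    obtain ⟨a, ha⟩ := (hj (X.basicOpen r) le_rfl).2 (φ.app (X.basicOpen r) (res P hrD p))
    simp only [res_self] at ha
    have h1 : (show Γ(X, X.basicOpen r) from (pullToOne f I).app (X.basicOpen r) (res P hrD p)) =
        a * (show Γ(X, X.basicOpen r) from (ClSub.idealModι (I.comap f)).app (X.basicOpen r) (res _ hrU j₀)) := by
      refine Eq.trans ?_ (Scheme.Modules.Hom.app_smul (ClSub.idealModι (I.comap f)) a _)
      refine Eq.trans ?_ (congrArg ((ClSub.idealModι (I.comap f)).app (X.basicOpen r)) ha.symm)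
      exact congrArg (fun ψ : P ⟶ Coh.structureModule X => ψ.app (X.basicOpen r) (res P hrD p))
        (kernel.lift_ι (ClSub.toSubscheme (I.comap f)) (pullToOne f I) hzero).symm
    have hua : IsUnit a := by
      have hmem : (show Γ(X, X.basicOpen r) from (ClSub.idealModι (I.comap f)).app (X.basicOpen r) (res _ hrU j₀)) ∈
          (I.comap f).ideal (X.affineBasicOpen (U := ⟨D, hD⟩) r) :=
        (QC.mem_range_idealModι_affine (I.comap f) (X.affineBasicOpen (U := ⟨D, hD⟩) r) _).mp ⟨_, rfl⟩
      rw [← (I.comap f).map_ideal_basicOpen ⟨D, hD⟩ r, hid, Ideal.map_span, Set.image_singleton] at hmem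
      obtain ⟨b, hb⟩ := Ideal.mem_span_singleton'.mp hmem
      have h3 : (X.presheaf.map (homOfLE (X.basicOpen_le r)).op).hom
          (show Γ(X, D) from (pullToOne f I).app D p) =
          (show Γ(X, X.basicOpen r) from (pullToOne f I).app (X.basicOpen r) (res P hrD p)) :=
        app_res (pullToOne f I) hrD p
      have h4 : (show Γ(X, X.basicOpen r) from (ClSub.idealModι (I.comap f)).app (X.basicOpen r) (res _ hrU j₀)) =
          b * (a * (show Γ(X, X.basicOpen r) from
            (ClSub.idealModι (I.comap f)).app (X.basicOpen r) (res _ hrU j₀))) :=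
        hb.symm.trans (congrArg (b * ·) (h3.trans h1))
      have h5 : ((1 : Γ(X, X.basicOpen r)) - b * a) • res (ClSub.idealMod (I.comap f)) hrU j₀ = 0 := by
        refine Groth.Agent.QC.app_injective_of_mono (ClSub.idealModι (I.comap f)) _ ?_
        rw [map_zero, Scheme.Modules.Hom.app_smul]
        show ((1 : Γ(X, X.basicOpen r)) - b * a) * (show Γ(X, X.basicOpen r) from
          (ClSub.idealModι (I.comap f)).app (X.basicOpen r) (res _ hrU j₀)) = (0 : Γ(X, X.basicOpen r))
        rw [sub_mul, one_mul, mul_assoc, ← h4, sub_self]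
      have h6 := (hj (X.basicOpen r) le_rfl).1 (a₁ := (1 : Γ(X, X.basicOpen r)) - b * a) (a₂ := 0)
      simp only [res_self, zero_smul] at h6
      exact IsUnit.of_mul_eq_one b ((mul_comm a b).trans (sub_eq_zero.1 (h6 h5)).symm)
    have hgφ := ha ▸ TMul.isGen_smul hj hua
    refine ⟨X.basicOpen r, hxr, fun V' hV' => ?_⟩
    refine (Function.Bijective.of_comp_iff (φ.app V') (hp' V' hV')).1 ?_
    have h : (φ.app V') ∘ (fun d : Γ(X, V') => d • res P hV' (res P hrD p)) =
        fun d => d • res _ hV' (φ.app (X.basicOpen r) (res P hrD p)) := funext fun d => by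
      rw [Function.comp_apply, Scheme.Modules.Hom.app_smul, app_res φ]
    rw [h]
    exact hgφ V' hV'
  exact ⟨asIso φ⟩

end Groth.Agent.Nakai
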