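import Groth.Agent.NegTwist.Sections
import Groth.Agent.FlatCartier.Basic
import Groth.Agent.S8914
import Groth.Agent.ResDesc.CartierFam
import Groth.Agent.CurveRR.Curve
import Groth.Agent.CohFinite.Ample

/-!
The ideal module of a sum of effective Cartier divisors.
-/

set_option autoImplicit false
set_option backward.isDefEq.respectTransparency false
set_option linter.style.haveILetI false
set_option linter.unusedSectionVars false

universe u

open CategoryTheory CategoryTheory.Limits AlgebraicGeometry TopologicalSpace Opposite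
open Groth.Agent.QC (res resO app_res res_self)
open Groth.Agent.CohFinite (tmap tmap_tm)

noncomputable section

namespace Groth.Agent.Nakai

variable {X : Scheme.{u}}

/-- The multiplication of two ideal modules, into the structure module. -/
def mulToOne (I J : X.IdealSheafData) :
    CohB1.tensorMod (ClSub.idealMod I) (ClSub.idealMod J) ⟶ Coh.structureModule X :=
  tmap (ClSub.idealModι I) (ClSub.idealMod J) ≫ (TMul.leftUnitIso (ClSub.idealMod J)).hom ≫ ClSub.idealModι J

theorem mulToOne_tm (I J : X.IdealSheafData) {U : X.Opens} (g : Γ(ClSub.idealMod I, U)) (h : Γ(ClSub.idealMod J, U)) :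
    (show Γ(X, U) from (mulToOne I J).app U (TMul.tm g h)) =
      (show Γ(X, U) from (ClSub.idealModι I).app U g) * (show Γ(X, U) from (ClSub.idealModι J).app U h) := by
  show (show Γ(X, U) from (ClSub.idealModι J).app U ((SecTwist.unitorR (ClSub.idealMod J)).hom.app U
    ((TMul.commIso (Coh.structureModule X) (ClSub.idealMod J)).hom.app U
      ((tmap (ClSub.idealModι I) (ClSub.idealMod J)).app U (TMul.tm g h))))) = _
  rw [tmap_tm]
  show (show Γ(X, U) from (ClSub.idealModι J).app U ((SecTwist.unitorR (ClSub.idealMod J)).hom.app U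
    ((TMul.commHom (Coh.structureModule X) (ClSub.idealMod J)).app U (TMul.tm ((ClSub.idealModι I).app U g) h)))) = _
  rw [TMul.commHom_tm, ResDesc.unitorR_tm]
  exact Scheme.Modules.Hom.app_smul (ClSub.idealModι J) _ _

theorem mem_nonZeroDivisors_of_gen (I : X.IdealSheafData) {D : X.Opens} {g : Γ(ClSub.idealMod I, D)}
    (hg : TMul.IsGen g) : (show Γ(X, D) from (ClSub.idealModι I).app D g) ∈ nonZeroDivisors Γ(X, D) := by
  refine mem_nonZeroDivisors_iff_right.2 fun r hr => ?_
  have h0 : r • g = 0 := by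
    refine Groth.Agent.QC.app_injective_of_mono (ClSub.idealModι I) D ?_
    rw [map_zero, Scheme.Modules.Hom.app_smul]
    exact hr
  have h1 := (hg D le_rfl).1 (a₁ := r) (a₂ := 0)
  simp only [res_self, zero_smul] at h1
  exact h1 h0

/-- Ideal modules of effective Cartier divisors multiply. -/
theorem nonempty_idealMod_mul {I J : X.IdealSheafData} (hI : BlowUp.IsEffCartierIdeal I)
    (hJ : BlowUp.IsEffCartierIdeal J) :
    Nonempty (CohB1.tensorMod (ClSub.idealMod I) (ClSub.idealMod J) ≅ ClSub.idealMod (I * J)) := by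
  have hIi := (Groth.Agent.S8914.result I).2 hI
  have hJi := (Groth.Agent.S8914.result J).2 hJ
  have hKi := (Groth.Agent.S8914.result (I * J)).2 (Groth.Agent.BlowUpLib.cartier_mul hI hJ)
  have local' : ∀ x : X, ∃ (D : X.Opens) (hD : IsAffineOpen D) (g : Γ(ClSub.idealMod I, D))
      (h : Γ(ClSub.idealMod J, D)), x ∈ D ∧ TMul.IsGen g ∧ TMul.IsGen h ∧
      (I * J).ideal ⟨D, hD⟩ = Ideal.span {(show Γ(X, D) from (mulToOne I J).app D (TMul.tm g h))} := fun x => by
    obtain ⟨U₁, g, hx₁, hg⟩ := TMul.exists_isGen hIi x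
    obtain ⟨U₂, h, hx₂, hh⟩ := TMul.exists_isGen hJi x
    obtain ⟨D, hD, hxD, hDU⟩ := exists_isAffineOpen_mem_and_subset (x := x) (U := U₁ ⊓ U₂) ⟨hx₁, hx₂⟩
    replace hDU : D ≤ U₁ ⊓ U₂ := hDU
    have hg' := hg.res (hDU.trans inf_le_left)
    have hh' := hh.res (hDU.trans inf_le_right)
    refine ⟨D, hD, _, _, hxD, hg', hh', ?_⟩
    rw [mulToOne_tm, Scheme.IdealSheafData.ideal_mul, Pi.mul_apply, ← Ideal.span_singleton_mul_span_singleton,
      ResDesc.ideal_eq_span_of_isGen I hD hg' rfl, ResDesc.ideal_eq_span_of_isGen J hD hh' rfl]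
  have hzero : mulToOne I J ≫ ClSub.toSubscheme (I * J) = 0 := by
    refine TMul.hom_ext fun U g₀ h₀ => ?_
    refine Groth.Agent.QC.section_eq_of_locally fun x hx => ?_
    obtain ⟨D, hD, g, h, hxD, hg, hh, hid⟩ := local' x
    obtain ⟨V, hV, hxV, hle⟩ := exists_isAffineOpen_mem_and_subset (x := x) (U := U ⊓ D) ⟨hx, hxD⟩
    have hVU : V ≤ U := fun z hz => (hle hz).1
    have hVD : V ≤ D := fun z hz => (hle hz).2
    refine ⟨V, hVU, hxV, ?_⟩
    rw [app_res, app_res]
    show (ClSub.toSubscheme (I * J)).app V ((mulToOne I J).app V (res _ hVU (TMul.tm g₀ h₀))) = _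
    refine Eq.trans (b := 0) ?_ rfl
    refine (QC.mem_range_kernel_app (ClSub.toSubscheme (I * J)) _ _).mp
      ((QC.mem_range_idealModι_affine (I * J) ⟨V, hV⟩ _).mpr ?_)
    rw [TMul.res_tm]
    change (show Γ(X, V) from (mulToOne I J).app V (TMul.tm (res _ hVU g₀) (res _ hVU h₀))) ∈ _
    rw [mulToOne_tm, Scheme.IdealSheafData.ideal_mul, Pi.mul_apply]
    exact Ideal.mul_mem_mul ((QC.mem_range_idealModι_affine I ⟨V, hV⟩ _).mp ⟨_, rfl⟩)
      ((QC.mem_range_idealModι_affine J ⟨V, hV⟩ _).mp ⟨_, rfl⟩)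
  let φ : CohB1.tensorMod (ClSub.idealMod I) (ClSub.idealMod J) ⟶ ClSub.idealMod (I * J) :=
    kernel.lift (ClSub.toSubscheme (I * J)) (mulToOne I J) hzero
  have hφ : IsIso φ := by
    refine RelTilde.isIso_of_bijective_near _ fun x => ?_
    obtain ⟨D₀, hD₀, g₀, h₀, hxD₀, hg₀, hh₀, hid₀⟩ := local' x
    obtain ⟨U, j₀, hxU, hj₀⟩ := TMul.exists_isGen hKi x
    obtain ⟨D, hD, hxD, hDU⟩ := exists_isAffineOpen_mem_and_subset (x := x) (U := D₀ ⊓ U) ⟨hxD₀, hxU⟩
    replace hDU : D ≤ D₀ ⊓ U := hDU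
    have hg := hg₀.res (hDU.trans inf_le_left : D ≤ D₀)
    have hh := hh₀.res (hDU.trans inf_le_left : D ≤ D₀)
    have hj := hj₀.res (hDU.trans inf_le_right : D ≤ U)
    have hgh := TMul.isGen_tm hg hh
    obtain ⟨a, ha⟩ := (hj D le_rfl).2 (φ.app D (TMul.tm (res _ (hDU.trans inf_le_left) g₀)
      (res _ (hDU.trans inf_le_left) h₀)))
    simp only [res_self] at ha
    have hua : IsUnit a := by
      have hA := mem_nonZeroDivisors_of_gen I hg
      have hB := mem_nonZeroDivisors_of_gen J hh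
      have hid : (I * J).ideal ⟨D, hD⟩ = Ideal.span {(show Γ(X, D) from (mulToOne I J).app D
          (TMul.tm (res _ (hDU.trans inf_le_left) g₀) (res _ (hDU.trans inf_le_left) h₀)))} := by
        rw [mulToOne_tm, Scheme.IdealSheafData.ideal_mul, Pi.mul_apply, ← Ideal.span_singleton_mul_span_singleton,
          ResDesc.ideal_eq_span_of_isGen I hD hg rfl, ResDesc.ideal_eq_span_of_isGen J hD hh rfl]
      have hmem : (show Γ(X, D) from (ClSub.idealModι (I * J)).app D (res _ (hDU.trans inf_le_right) j₀)) ∈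
          (I * J).ideal ⟨D, hD⟩ := (QC.mem_range_idealModι_affine (I * J) ⟨D, hD⟩ _).mp ⟨_, rfl⟩
      rw [hid] at hmem
      obtain ⟨b, hb⟩ := Ideal.mem_span_singleton'.mp hmem
      have h1 : (show Γ(X, D) from (mulToOne I J).app D (TMul.tm (res _ (hDU.trans inf_le_left) g₀)
            (res _ (hDU.trans inf_le_left) h₀))) =
          a * (show Γ(X, D) from (ClSub.idealModι (I * J)).app D (res _ (hDU.trans inf_le_right) j₀)) := by
        refine Eq.trans ?_ (Scheme.Modules.Hom.app_smul (ClSub.idealModι (I * J)) a _)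
        refine Eq.trans ?_ (congrArg ((ClSub.idealModι (I * J)).app D) ha.symm)
        exact congrArg (fun ψ : _ ⟶ Coh.structureModule X => ψ.app D (TMul.tm (res _ (hDU.trans inf_le_left) g₀)
            (res _ (hDU.trans inf_le_left) h₀))) (kernel.lift_ι (ClSub.toSubscheme (I * J)) (mulToOne I J) hzero).symm
      rw [← hb, mulToOne_tm, ← mul_assoc] at h1
      have h2 : (1 : Γ(X, D)) = a * b := (mul_cancel_right_mem_nonZeroDivisors (mul_mem hA hB)).mp
        ((one_mul _).trans h1)
      exact IsUnit.of_mul_eq_one b h2.symm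
    have hgφ := ha ▸ TMul.isGen_smul hj hua
    refine ⟨D, hxD, fun V hV => ?_⟩
    refine (Function.Bijective.of_comp_iff (φ.app V) (hgh V hV)).1 ?_
    have h : (φ.app V) ∘ (fun d : Γ(X, V) => d • res _ hV (TMul.tm (res _ (hDU.trans inf_le_left) g₀)
        (res _ (hDU.trans inf_le_left) h₀))) = fun d => d • res _ hV (φ.app D (TMul.tm
          (res _ (hDU.trans inf_le_left) g₀) (res _ (hDU.trans inf_le_left) h₀))) := funext fun d => by
      rw [Function.comp_apply, Scheme.Modules.Hom.app_smul, app_res φ]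
    rw [h]
    exact hgφ V hV
  exact ⟨asIso φ⟩

end Groth.Agent.Nakai
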