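import Groth.Agent.Nakai.PullIdeal
import Groth.Agent.Nakai.CartierMul
import Groth.Agent.Nakai.NefApps
import Groth.Agent.CurveRR.SmoothPt
import Groth.Agent.Intersect.CurveOnSurface
import Groth.Agent.S8862

/-!
Degrees of effective Cartier divisors and of fibres on curves.
-/

set_option autoImplicit false
set_option backward.isDefEq.respectTransparency false
set_option linter.style.haveILetI false
set_option linter.unusedSectionVars false

universe u

open CategoryTheory CategoryTheory.Limits AlgebraicGeometry TopologicalSpace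
open Groth.Agent.Intersect

noncomputable section

namespace Groth.Agent.Nakai

variable {X C : Scheme.{u}}

/-- The kernel of a quasi-compact morphism from a reduced scheme is a radical ideal. -/
theorem ker_eq_vanishingIdeal [IsReduced C] (g : C ⟶ X) [QuasiCompact g] :
    g.ker = Scheme.IdealSheafData.vanishingIdeal g.ker.support := by
  rw [Scheme.IdealSheafData.vanishingIdeal_support]
  refine le_antisymm (Scheme.IdealSheafData.le_radical _) fun U => ?_
  rw [Scheme.IdealSheafData.radical_ideal, Scheme.Hom.ker_apply]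
  intro a ha
  obtain ⟨n, hn⟩ := Ideal.mem_radical_iff.mp ha
  rw [RingHom.mem_ker, map_pow] at hn
  rw [RingHom.mem_ker]
  exact IsReduced.eq_zero _ ⟨n, hn⟩

theorem ker_fiberι [IsLocallyNoetherian X] (f : C ⟶ X) {p : X} (hp : IsClosed ({p} : Set X)) :
    (f.fiberι p).ker = (Scheme.IdealSheafData.vanishingIdeal ⟨{p}, hp⟩).comap f := by
  haveI : IsClosedImmersion (X.fromSpecResidueField p) := isClosed_singleton_iff_isClosedImmersion.mp hp
  have hs : (X.fromSpecResidueField p).ker = Scheme.IdealSheafData.vanishingIdeal ⟨{p}, hp⟩ := by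
    rw [ker_eq_vanishingIdeal (X.fromSpecResidueField p)]
    refine congrArg _ (Closeds.ext ?_)
    rw [Scheme.Hom.support_ker, Scheme.range_fromSpecResidueField]
    exact hp.closure_eq
  rw [← hs]
  exact Groth.Agent.AlmostBlow.ker_of_isPullback (IsPullback.of_hasPullback f (X.fromSpecResidueField p)).flip

theorem nonempty_iso_one_of_subsingleton [Subsingleton X] {L : X.Modules} (hL : PicF.IsInvertible L) :
    Nonempty (Coh.structureModule X ≅ L) := by
  rcases isEmpty_or_nonempty X with hX | ⟨⟨x⟩⟩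
  · haveI : IsIso (TMul.homOf (L := L) (0 : Γ(L, ⊤))) :=
      RelTilde.isIso_of_bijective_near _ fun y => (hX.false y).elim
    exact ⟨asIso (TMul.homOf (L := L) (0 : Γ(L, ⊤)))⟩
  obtain ⟨U, e, hxU, he⟩ := TMul.exists_isGen hL x
  have hU : U = ⊤ := Opens.ext (Set.eq_univ_of_forall fun y => (Subsingleton.elim x y) ▸ hxU)
  subst hU
  haveI : IsIso (TMul.homOf (L := L) e) := by
    refine RelTilde.isIso_of_bijective_near _ fun y => ⟨⊤, trivial, fun V hV => ?_⟩
    have h : ⇑((TMul.homOf (L := L) e).app V) = fun c : Γ(X, V) => c • Groth.Agent.QC.res L hV e := funext fun c => by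
      rw [TMul.app_eq_smul, TMul.val_homOf]
    rw [h]
    exact he V hV
  exact ⟨asIso (TMul.homOf (L := L) e)⟩

variable (k : Type u) [Field k] [X.Over (Spec (CommRingCat.of k))] [IsProper (X ↘ Spec (CommRingCat.of k))]

/-- Degree on an integral curve as a difference of Euler characteristics. -/
theorem deg_quot_eq (Γc : X.IdealSheafData) (h1 : topologicalKrullDim (Γc.support : Set X) = 1)
    {A : X.Modules} (hA : PicF.IsInvertible A) :
    letI : Γc.subscheme.Over (Spec (CommRingCat.of k)) := ⟨Γc.subschemeι ≫ (X ↘ Spec (CommRingCat.of k))⟩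
    topologicalKrullDim Γc.subscheme ≤ 1 ∧
    Curv2.deg k Γc.subscheme ((Scheme.Modules.pullback Γc.subschemeι).obj A) 1 =
      Curv2.euler k X (CohB1.tensorMod (ClSub.quotMod Γc) A) - Curv2.euler k X (ClSub.quotMod Γc) := by
  letI : Γc.subscheme.Over (Spec (CommRingCat.of k)) := ⟨Γc.subschemeι ≫ (X ↘ Spec (CommRingCat.of k))⟩
  haveI : IsProper (Γc.subscheme ↘ Spec (CommRingCat.of k)) := inferInstanceAs (IsProper (Γc.subschemeι ≫ _))
  have hd : topologicalKrullDim Γc.subscheme ≤ ((1 : ℕ) : WithBot ℕ∞) := by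
    rw [IsHomeomorph.topologicalKrullDim_eq _ Γc.subschemeι.isClosedEmbedding.isEmbedding.toHomeomorph.isHomeomorph,
      Γc.range_subschemeι, h1]
    exact le_rfl
  refine ⟨hd, ?_⟩
  have e1 := euler_quot_twist k Γc.subschemeι hA
  have e2 := euler_quot_twist k Γc.subschemeι (A := Coh.structureModule X) TMul.isInvertible_structureModule
  rw [Scheme.IdealSheafData.ker_subschemeι] at e1 e2
  rw [CurveRR.euler_eq_of_iso (TMul.commIso (ClSub.quotMod Γc) (Coh.structureModule X) ≪≫ TMul.leftUnitIso _),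
    CurveRR.euler_eq_of_iso (DerPerf.pullUnitIso Γc.subschemeι)] at e2
  rw [e1, e2, Curv2.deg]
  simp

/-- An effective Cartier divisor has nonnegative degree on a curve it does not contain. -/
theorem deg_ideal_nonpos {I : X.IdealSheafData} (hI : BlowUp.IsEffCartierIdeal I) (Γc : X.IdealSheafData)
    [IsIntegral Γc.subscheme] (h1 : topologicalKrullDim (Γc.support : Set X) = 1)
    (hne : Γc.subschemeι (genericPoint Γc.subscheme) ∉ I.support) :
    Curv2.euler k X (CohB1.tensorMod (ClSub.quotMod Γc) (ClSub.idealMod I)) - Curv2.euler k X (ClSub.quotMod Γc) ≤ 0 := by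
  letI : Γc.subscheme.Over (Spec (CommRingCat.of k)) := ⟨Γc.subschemeι ≫ (X ↘ Spec (CommRingCat.of k))⟩
  haveI : IsProper (Γc.subscheme ↘ Spec (CommRingCat.of k)) := inferInstanceAs (IsProper (Γc.subschemeι ≫ _))
  obtain ⟨hd, he⟩ := deg_quot_eq k Γc h1 ((Groth.Agent.S8914.result I).2 hI)
  rw [← he]
  have hgen : ∀ y : Γc.subscheme, (∀ z, z ⤳ y → z = y) → Γc.subschemeι y ∉ I.support := fun y hy => by
    rw [← hy _ (genericPoint_specializes y)]
    exact hne
  have hc := Groth.Agent.S8862.result Γc.subschemeι I hI hgen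
  obtain ⟨e⟩ := nonempty_pullback_idealMod Γc.subschemeι hI hc
  have hJ := (Groth.Agent.S8914.result (I.comap Γc.subschemeι)).2 hc
  have hφ : ClSub.idealModι (I.comap Γc.subschemeι) ≠ 0 := fun h0 => by
    obtain ⟨U, g, hxU, hg⟩ := TMul.exists_isGen hJ (genericPoint Γc.subscheme)
    haveI : Nonempty U := ⟨⟨_, hxU⟩⟩
    have hz : g = 0 := Groth.Agent.QC.app_injective_of_mono (ClSub.idealModι (I.comap Γc.subschemeι)) U
      (by rw [h0]; simp)
    have h2 := (hg U le_rfl).1 (a₁ := (1 : Γ(Γc.subscheme, U))) (a₂ := 0)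
    simp only [Groth.Agent.QC.res_self, hz, smul_zero] at h2
    exact one_ne_zero (h2 trivial)
  have h2 := (CurveRR.deg_le_and_isIso (k := k) hd hJ TMul.isInvertible_structureModule _ hφ).1
  rw [CurveRR.deg_structure] at h2
  refine le_trans (le_of_eq ?_) h2
  simp only [Curv2.deg]
  rw [CurveRR.euler_eq_of_iso e]

/-- A fibre has degree zero on the curves inside it. -/
theorem deg_fibre_eq_zero {B : Scheme.{u}} (f : X ⟶ B) {p : B} (hp : IsClosed ({p} : Set B))
    (hJ : BlowUp.IsEffCartierIdeal (Scheme.IdealSheafData.vanishingIdeal ⟨{p}, hp⟩))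
    (hc : BlowUp.IsEffCartierIdeal ((Scheme.IdealSheafData.vanishingIdeal ⟨{p}, hp⟩).comap f))
    (Γc : X.IdealSheafData) [IsIntegral Γc.subscheme] (h1 : topologicalKrullDim (Γc.support : Set X) = 1)
    (hin : f (Γc.subschemeι (genericPoint Γc.subscheme)) = p) [QuasiCompact (Γc.subschemeι ≫ f)] :
    Curv2.euler k X (CohB1.tensorMod (ClSub.quotMod Γc)
        (ClSub.idealMod ((Scheme.IdealSheafData.vanishingIdeal ⟨{p}, hp⟩).comap f))) -
      Curv2.euler k X (ClSub.quotMod Γc) = 0 := by
  set J := Scheme.IdealSheafData.vanishingIdeal ⟨{p}, hp⟩ with hJdef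
  letI : Γc.subscheme.Over (Spec (CommRingCat.of k)) := ⟨Γc.subschemeι ≫ (X ↘ Spec (CommRingCat.of k))⟩
  haveI : IsProper (Γc.subscheme ↘ Spec (CommRingCat.of k)) := inferInstanceAs (IsProper (Γc.subschemeι ≫ _))
  obtain ⟨hd, he⟩ := deg_quot_eq k Γc h1 ((Groth.Agent.S8914.result (J.comap f)).2 hc)
  rw [← he]
  let g := Γc.subschemeι ≫ f
  have hle : J.subschemeι.ker ≤ g.ker := by
    rw [Scheme.IdealSheafData.ker_subschemeι, hJdef, ker_eq_vanishingIdeal g]
    refine Scheme.IdealSheafData.vanishingIdeal_antimono ?_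
    intro z hz
    change z ∈ (g.ker.support : Set B) at hz
    rw [Scheme.Hom.support_ker] at hz
    refine closure_minimal ?_ hp hz
    rintro _ ⟨y, rfl⟩
    have h2 : f (Γc.subschemeι (genericPoint Γc.subscheme)) ⤳ g y :=
      ((genericPoint_specializes y).map Γc.subschemeι.continuous).map f.continuous
    rw [hin] at h2
    exact h2.mem_closed hp rfl
  let r : Γc.subscheme ⟶ J.subscheme := IsClosedImmersion.lift J.subschemeι g hle
  have hr : r ≫ J.subschemeι = g := IsClosedImmersion.lift_fac _ _ _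
  haveI : Subsingleton J.subscheme := by
    refine ⟨fun a b => J.subschemeι.isClosedEmbedding.injective ?_⟩
    have hs : ∀ c : J.subscheme, J.subschemeι c = p := fun c => by
      have h : J.subschemeι c ∈ (J.support : Set B) := J.range_subschemeι.le ⟨c, rfl⟩
      have hsup : (J.support : Set B) = {p} := by
        rw [hJdef, Scheme.IdealSheafData.coe_support_vanishingIdeal]
        rfl
      exact hsup.le h
    rw [hs a, hs b]
  have hJi := (Groth.Agent.S8914.result J).2 hJ
  obtain ⟨e⟩ := nonempty_pullback_idealMod f hJ hc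
  obtain ⟨t⟩ := nonempty_iso_one_of_subsingleton (PicLoc.isInvertible_pullback J.subschemeι hJi)
  have E : (Scheme.Modules.pullback Γc.subschemeι).obj (ClSub.idealMod (J.comap f)) ≅ Coh.structureModule Γc.subscheme :=
    (Scheme.Modules.pullback Γc.subschemeι).mapIso e.symm ≪≫ (Scheme.Modules.pullbackComp _ _).app _ ≪≫
      (Scheme.Modules.pullbackCongr hr.symm).app _ ≪≫ ((Scheme.Modules.pullbackComp _ _).app _).symm ≪≫
      (Scheme.Modules.pullback r).mapIso t.symm ≪≫ DerPerf.pullUnitIso r
  simp only [Curv2.deg]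
  rw [CurveRR.euler_eq_of_iso E]
  simp

end Groth.Agent.Nakai
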