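import Groth.Agent.Nakai.Positive
import Groth.Agent.Intersect.Deg
import Groth.Agent.Intersect.ProjSpace
import Mathlib.AlgebraicGeometry.ZariskisMainTheorem

/-!
A morphism defined by a module with positive intersection numbers is finite.
-/

set_option autoImplicit false
set_option backward.isDefEq.respectTransparency false
set_option linter.style.haveILetI false
set_option linter.unusedSectionVars false

universe u

open CategoryTheory CategoryTheory.Limits AlgebraicGeometry TopologicalSpace
open Groth.Agent.Intersect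

noncomputable section

namespace Groth.Agent.Nakai

theorem exists_nat_eq {T : Type u} [TopologicalSpace T] [Nonempty T] {d : ℕ} (h : topologicalKrullDim T ≤ d) :
    ∃ e : ℕ, topologicalKrullDim T = (e : WithBot ℕ∞) := by
  haveI : Nonempty (IrreducibleCloseds T) :=
    ⟨⟨_, (isIrreducible_singleton (x := Classical.arbitrary T)).closure, isClosed_closure⟩⟩
  have h0 : (0 : WithBot ℕ∞) ≤ topologicalKrullDim T := Order.krullDim_nonneg
  match hT : topologicalKrullDim T, h, h0 with
  | ⊥, _, h0 => exact absurd h0 (by simp)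
  | (a : ℕ∞), h, _ =>
    have ha : a ≤ (d : ℕ∞) := WithBot.coe_le_coe.mp h
    obtain ⟨e, rfl⟩ : ∃ e : ℕ, a = e :=
      ⟨a.toNat, (ENat.natCast_toNat (ne_top_of_le_ne_top (ENat.natCast_ne_top d) ha)).symm⟩
    exact ⟨e, rfl⟩

/-- A fibre in which no point specialises to another is finite. -/
theorem finite_fibre_of_eq {T S : Type u} [TopologicalSpace T] [QuasiSober T] [T0Space T] [NoetherianSpace T]
    [TopologicalSpace S] [T0Space S] {f : T → S} (hf : Continuous f)
    (h : ∀ x y : T, y ⤳ x → f x = f y → x = y) (w : S) : (f ⁻¹' {w}).Finite := by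
  let C : Set T := f ⁻¹' closure {w}
  have hC : IsClosed C := isClosed_closure.preimage hf
  haveI : QuasiSober C := hC.isClosedEmbedding_subtypeVal.quasiSober
  have hfin : (irreducibleComponents C).Finite := NoetherianSpace.finite_irreducibleComponents
  let F : Set C := Subtype.val ⁻¹' (f ⁻¹' {w})
  have key : ∀ c ∈ F, IsGenericPoint c (irreducibleComponent c) := fun c hc => by
    obtain ⟨g, hg⟩ : ∃ g : C, IsGenericPoint g (irreducibleComponent c) :=
      ⟨_, isIrreducible_irreducibleComponent.isGenericPoint_genericPoint isClosed_irreducibleComponent⟩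
    have hgc : g.1 ⤳ c.1 := (subtype_specializes_iff _ _).1 (hg.specializes mem_irreducibleComponent)
    have h2 : f g.1 ⤳ w := (show f c.1 = w from hc) ▸ hgc.map hf
    have hgw : f g.1 = w := (h2.antisymm (specializes_iff_mem_closure.mpr g.2)).eq
    have hcg : c.1 = g.1 := h c.1 g.1 hgc (hc.trans hgw.symm)
    rwa [Subtype.ext hcg.symm] at hg
  have hF : F.Finite := Set.Finite.of_finite_image (f := irreducibleComponent)
    (hfin.subset fun s ⟨c, _, hs⟩ => hs ▸ irreducibleComponent_mem_irreducibleComponents c)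
    fun a ha b hb hab => (key a ha).eq (hab ▸ key b hb)
  refine (hF.image Subtype.val).subset fun x hx => ⟨⟨x, subset_closure (show f x ∈ ({w} : Set S) from hx)⟩, hx, rfl⟩

variable {X P : Scheme.{u}} (k : Type u) [Field k]
  [X.Over (Spec (CommRingCat.of k))] [IsProper (X ↘ Spec (CommRingCat.of k))]
  [P.Over (Spec (CommRingCat.of k))] [IsProper (P ↘ Spec (CommRingCat.of k))]

include k in
theorem eq_of_same_image {d : ℕ} (hd : topologicalKrullDim X ≤ d) (r : X ⟶ P) [IsProper r]
    (hr : r ≫ (P ↘ Spec (CommRingCat.of k)) = X ↘ Spec (CommRingCat.of k)) {L : X.Modules}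
    (hL : PicF.IsInvertible L) (hpos : PosSub k L) {M : P.Modules} (hM : PicF.IsInvertible M) {N : ℕ} (hN : 0 < N)
    (τ : (Scheme.Modules.pullback r).obj M ≅ CohB1.tensorPow L N) :
    ∀ x y : X, y ⤳ x → r x = r y → x = y := by
  intro x y hyx hxy
  by_contra hne
  haveI := CurveRR.isNoetherian_of_proper k X
  haveI := CurveRR.isNoetherian_of_proper k P
  haveI : Nonempty (closure ({y} : Set X)) := ⟨⟨y, subset_closure rfl⟩⟩
  obtain ⟨e, he⟩ := exists_nat_eq ((topologicalKrullDim_subspace_le X (closure ({y} : Set X))).trans hd)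
  have he1 : ((1 : ℕ) : WithBot ℕ∞) ≤ topologicalKrullDim (closure ({y} : Set X)) := by
    refine le_dim_closed_of_chain isClosed_closure ![x, y] (fun i => ?_) fun i j hij => ?_
    · fin_cases i
      · exact hyx.mem_closure
      · exact subset_closure rfl
    · fin_cases i <;> fin_cases j <;> first | exact absurd hij (by decide) | exact ⟨hyx, hne⟩
  have he0 : 0 < e := by
    rw [he] at he1
    exact CartierDim.natCast_le_withBot.1 he1
  have hlt : topologicalKrullDim (closure ({r y} : Set P)) < (e : WithBot ℕ∞) := by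
    refine lt_of_le_of_ne ?_ fun heq => ?_
    · rw [← image_closure r y, ← he]
      exact dim_image_le r isClosed_closure
    · refine hne (eq_of_dim hyx he.le (le_antisymm ((dim_closure_le isClosed_closure hyx.mem_closure).trans he.le) ?_)).symm
      rw [← heq, ← hxy, ← image_closure r x]
      exact dim_image_le r isClosed_closure
  let Z := (Scheme.IdealSheafData.vanishingIdeal (Devissage.Zc y)).subscheme
  let i : Z ⟶ X := Devissage.Zi y
  letI : Z.Over (Spec (CommRingCat.of k)) := ⟨i ≫ (X ↘ Spec (CommRingCat.of k))⟩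
  haveI : IsProper (Z ↘ Spec (CommRingCat.of k)) := inferInstanceAs (IsProper (i ≫ _))
  haveI : IsIntegral Z := Devissage.Zi_isIntegral y
  haveI := CurveRR.isNoetherian_of_proper k Z
  have hZ : topologicalKrullDim Z = (e : WithBot ℕ∞) := by
    rw [← he, ← Devissage.range_Zi y]
    exact IsHomeomorph.topologicalKrullDim_eq _ i.isClosedEmbedding.isEmbedding.toHomeomorph.isHomeomorph
  have hO : Coh.IsCoh (Coh.structureModule Z) := RefStalk.isCoh_structureModule
  let A := (Scheme.Modules.pullback i).obj L
  have hA : PicF.IsInvertible A := PicLoc.isInvertible_pullback i hL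
  have hp := hpos Z i e he0 hZ
  let g : Z ⟶ P := i ≫ r
  have hg : g ≫ (P ↘ Spec (CommRingCat.of k)) = Z ↘ Spec (CommRingCat.of k) := by
    show (i ≫ r) ≫ _ = i ≫ (X ↘ Spec (CommRingCat.of k))
    rw [Category.assoc, hr]
  have hsZ : topologicalKrullDim (CohB1.support (Coh.structureModule Z)) ≤ (e : WithBot ℕ∞) :=
    (topologicalKrullDim_subspace_le Z _).trans hZ.le
  obtain ⟨q⟩ := TMul.nonempty_pullPowIso i L N
  have h1 := alt_push k g hg e (fun _ => M) (fun _ => hM) (Coh.structureModule Z) hO hsZ
  rw [Intersect.χt_congr k (Coh.structureModule Z) (L := fun _ : Fin e => (Scheme.Modules.pullback g).obj M)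
    (L' := fun _ : Fin e => CohB1.tensorPow A N)
    fun _ => ⟨((Scheme.Modules.pullbackComp i r).app M).symm ≪≫ (Scheme.Modules.pullback i).mapIso τ ≪≫ q.symm⟩,
    alt_const_pow k hA N e _ hO hsZ] at h1
  have hsupp : topologicalKrullDim (CohB1.support ((Scheme.Modules.pushforward g).obj (Coh.structureModule Z))) <
      (e : WithBot ℕ∞) := by
    refine lt_of_le_of_lt (dim_mono ?_) hlt
    refine (support_push_subset g (T := Set.univ) (g.isClosedMap _ isClosed_univ) (Set.subset_univ _)).trans ?_
    rintro _ ⟨z, -, rfl⟩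
    rw [← image_closure r y, ← Devissage.range_Zi y]
    exact ⟨i z, ⟨z, rfl⟩, rfl⟩
  rw [alt_eq_zero_of_dim k (isCoh_push' g hO) (fun _ => hM) hsupp] at h1
  rcases mul_eq_zero.1 h1 with h | h
  · exact absurd h (pow_ne_zero _ (by exact_mod_cast hN.ne'))
  · rw [h, mul_zero] at hp
    exact lt_irrefl _ hp

include k in
theorem isFinite_of_posSub {d : ℕ} (hd : topologicalKrullDim X ≤ d) (r : X ⟶ P) [IsProper r]
    (hr : r ≫ (P ↘ Spec (CommRingCat.of k)) = X ↘ Spec (CommRingCat.of k)) {L : X.Modules}
    (hL : PicF.IsInvertible L) (hpos : PosSub k L) {M : P.Modules} (hM : PicF.IsInvertible M) {N : ℕ} (hN : 0 < N)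
    (τ : (Scheme.Modules.pullback r).obj M ≅ CohB1.tensorPow L N) : IsFinite r := by
  haveI := CurveRR.isNoetherian_of_proper k X
  haveI : LocallyQuasiFinite r := .of_finite_preimage_singleton r
    (finite_fibre_of_eq r.continuous (eq_of_same_image k hd r hr hL hpos hM hN τ))
  exact IsFinite.of_isProper_of_locallyQuasiFinite r

end Groth.Agent.Nakai
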