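import Groth.Agent.Nakai.Vanish
import Groth.Agent.Intersect.Surface
import Groth.Agent.CurveRR.Ample
import Groth.Agent.CohFinite.Ample

/-!
A power of an invertible module with a nonzero section is generated by its sections, if high powers kill
the cohomology of the modules supported on proper closed subsets.
-/

set_option autoImplicit false
set_option backward.isDefEq.respectTransparency false
set_option linter.style.haveILetI false
set_option linter.unusedSectionVars false

universe u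

open CategoryTheory CategoryTheory.Limits AlgebraicGeometry TopologicalSpace
open Groth.Agent.CohFinite (tmap tmap_comp shortExact_tmap hhMap hhMap_comp hhEquiv)
open TMul (homOf val)

noncomputable section

namespace Groth.Agent.Nakai

variable {X : Scheme.{u}} (k : Type u) [Field k] [X.Over (Spec (CommRingCat.of k))] [IsProper (X ↘ Spec (CommRingCat.of k))]

include k

theorem eventually_bijective_h1 [IsIntegral X] {A : X.Modules} (hA : PicF.IsInvertible A)
    (s : Coh.structureModule X ⟶ A) [Mono s]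
    (hv : Vanishes A (CohB1.genLocus A s : Set X)ᶜ) :
    ∃ j₀ : ℕ, ∀ j, j₀ ≤ j → Function.Bijective (hhMap k (tmap s (CohB1.tensorPow A j)) 1) := by
  haveI := CurveRR.isNoetherian_of_proper k X
  have hO : Coh.IsCoh (Coh.structureModule X) := RefStalk.isCoh_structureModule
  have hAc := CurveRR.isCoh_of_inv hA
  obtain ⟨n₁, h₁⟩ := hv (cokernel s) (Groth.Agent.QC.isCoh_cokernel hO.1 hAc s)
    (Intersect.support_coker_section hA s).le
  let a : ℕ → ℕ := fun j => CurveRR.h k (CohB1.tensorPow A j) 1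
  have hsurj : ∀ j, n₁ ≤ j → Function.Surjective (hhMap k (tmap s (CohB1.tensorPow A j)) 1) := fun j hj =>
    surjective_f_of_subsingleton k
      (shortExact_tmap (TMul.isInvertible_tensorPow hA j) (Devissage.cokSeq_shortExact s)) 1 (h₁ j hj 0)
  have hsrc : ∀ j, CurveRR.h k (CohB1.tensorMod (Coh.structureModule X) (CohB1.tensorPow A j)) 1 = a j :=
    fun j => CurveRR.h_eq_of_iso (TMul.leftUnitIso _) _
  have htgt : ∀ j, CurveRR.h k (CohB1.tensorMod A (CohB1.tensorPow A j)) 1 = a (j + 1) :=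
    fun j => CurveRR.h_eq_of_iso (TMul.commIso _ _) _
  haveI hfin : ∀ (M : X.Modules), Coh.IsCoh M → Module.Finite k (Coh.HH X M 1) := fun M hM =>
    CohFinite.finite_proper k X M hM 1
  have hle : ∀ j, n₁ ≤ j → a (j + 1) ≤ a j := fun j hj => by
    haveI := hfin _ (CurveRR.isCoh_tensor' hO (CurveRR.isCoh_of_inv (TMul.isInvertible_tensorPow hA j)))
    rw [← hsrc j, ← htgt j]
    exact LinearMap.finrank_le_finrank_of_surjective (hsurj j hj)
  obtain ⟨j₀, hj₀, hmin⟩ : ∃ j₀, n₁ ≤ j₀ ∧ ∀ j, n₁ ≤ j → a j₀ ≤ a j := by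
    classical
    have hex : ∃ v, ∃ j, n₁ ≤ j ∧ a j = v := ⟨a n₁, n₁, le_rfl, rfl⟩
    obtain ⟨j, hj, hje⟩ := Nat.find_spec hex
    exact ⟨j, hj, fun i hi => hje ▸ Nat.find_min' hex ⟨i, hi, rfl⟩⟩
  have hanti : ∀ j, j₀ ≤ j → a j ≤ a j₀ := fun j hj => by
    induction j, hj using Nat.le_induction with
    | base => exact le_rfl
    | succ j hj ih => exact (hle j (hj₀.trans hj)).trans ih
  refine ⟨j₀, fun j hj => ⟨?_, hsurj j (hj₀.trans hj)⟩⟩
  haveI := hfin _ (CurveRR.isCoh_tensor' hO (CurveRR.isCoh_of_inv (TMul.isInvertible_tensorPow hA j)))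
  haveI := hfin _ (CurveRR.isCoh_tensor' hAc (CurveRR.isCoh_of_inv (TMul.isInvertible_tensorPow hA j)))
  refine (LinearMap.injective_iff_surjective_of_finrank_eq_finrank ?_).2 (hsurj j (hj₀.trans hj))
  change CurveRR.h k _ 1 = CurveRR.h k _ 1
  rw [hsrc, htgt]
  exact le_antisymm ((hanti j hj).trans (hmin _ (by omega))) (hle j (hj₀.trans hj))

theorem exists_gen_at [IsIntegral X] {A : X.Modules} (hA : PicF.IsInvertible A)
    (s : Coh.structureModule X ⟶ A) [Mono s]
    (hv : Vanishes A (CohB1.genLocus A s : Set X)ᶜ) {z : X} (hzc : IsClosed ({z} : Set X))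
    (hz : z ∉ CohB1.genLocus A s) :
    ∃ (j : ℕ) (t : Coh.structureModule X ⟶ CohB1.tensorPow A (j + 1)), z ∈ CohB1.genLocus _ t := by
  haveI := CurveRR.isNoetherian_of_proper k X
  have hO : Coh.IsCoh (Coh.structureModule X) := RefStalk.isCoh_structureModule
  let Z : Closeds X := ⟨{z}, hzc⟩
  let I := Scheme.IdealSheafData.vanishingIdeal Z
  have hsupp : (I.support : Set X) = {z} := by simp [I, Z]
  haveI := CurveRR.mono_idealIncl hA I
  obtain ⟨u, hu⟩ := CurveRR.mem_range_idealIncl hA Z (val s ⊤) fun y hy => by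
    rw [CohFinite.homOf_val, Set.mem_singleton_iff.mp hy]
    exact hz
  let sI : Coh.structureModule X ⟶ CohB1.tensorMod (ClSub.idealMod I) A := homOf u
  have hsI : sI ≫ CurveRR.idealIncl I A = s := by
    rw [← CohFinite.homOf_val (sI ≫ CurveRR.idealIncl I A), ← CohFinite.homOf_val s]
    refine congrArg homOf (Eq.trans ?_ hu)
    change (CurveRR.idealIncl I A).app ⊤ (val (homOf u) ⊤) = _
    rw [TMul.val_homOf, Groth.Agent.QC.res_self]
  haveI : Mono (sI ≫ CurveRR.idealIncl I A) := hsI.symm ▸ inferInstance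
  haveI : Mono sI := mono_of_mono sI (CurveRR.idealIncl I A)
  have hIA := CohFinite.isCoh_tensor (CurveRR.isCoh_idealMod I).1 hA
  have hcI : CohB1.support (cokernel sI) ⊆ (CohB1.genLocus A s : Set X)ᶜ := fun x hx hg => by
    haveI := Intersect.isIso_stalk_of_mem_genLocus s hg
    refine CurveRR.notMem_support_coker sI x (fun m => ?_) hx
    obtain ⟨q, hq⟩ := (ConcreteCategory.bijective_of_isIso ((DerSch.stalkFunctor X x).map s)).2
      (Groth.Agent.WeakAssLib.stalkHom (CurveRR.idealIncl I A) x m)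
    refine ⟨q, Groth.Agent.WeakAssLib.stalkHom_injective (CurveRR.idealIncl I A) x ?_⟩
    rw [← Devissage.stalkHom_comp, hsI]
    exact hq
  obtain ⟨n₂, h₂⟩ := hv (cokernel sI) (Groth.Agent.QC.isCoh_cokernel hO.1 hIA sI) hcI
  obtain ⟨j₀, hb⟩ := eventually_bijective_h1 k hA s hv
  let j := max j₀ n₂
  let T := CohB1.tensorPow A j
  have hT : PicF.IsInvertible T := TMul.isInvertible_tensorPow hA j
  have hsurj : Function.Surjective (hhMap k (tmap sI T) 1) :=
    surjective_f_of_subsingleton k (shortExact_tmap hT (Devissage.cokSeq_shortExact sI)) 1 (h₂ j (le_max_right _ _) 0)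
  have hinj : Function.Injective (hhMap k (tmap (CurveRR.idealIncl I A) T) 1) := by
    intro x y hxy
    obtain ⟨a, rfl⟩ := hsurj x
    obtain ⟨b, rfl⟩ := hsurj y
    rw [← hhMap_comp, ← hhMap_comp, ← tmap_comp, hsI] at hxy
    rw [(hb j (le_max_left _ _)).1 hxy]
  let P := CohB1.tensorMod A T
  have hP : PicF.IsInvertible P := TMul.isInvertible_tensorMod hA hT
  have hinj' : Function.Injective (hhMap k (tmap (ClSub.idealModι I) P) 1) := by
    have h1 : Function.Injective (hhMap k (tmap (tmap (ClSub.idealModι I) A) T) 1) := fun x y hxy => hinj (by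
      change hhMap k (tmap (tmap (ClSub.idealModι I) A ≫ (TMul.leftUnitIso A).hom) T) 1 x =
        hhMap k (tmap (tmap (ClSub.idealModι I) A ≫ (TMul.leftUnitIso A).hom) T) 1 y
      rw [tmap_comp, hhMap_comp, hhMap_comp, hxy])
    have h2 : Function.Injective (hhMap k (tmap (tmap (ClSub.idealModι I) A) T ≫
        (TMul.assocIso (Coh.structureModule X) A T).hom) 1) := fun x y hxy => h1 ((hhEquiv k
          (TMul.assocIso (Coh.structureModule X) A T) 1).injective (by rw [hhMap_comp, hhMap_comp] at hxy; exact hxy))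
    rw [tmap_assoc] at h2
    intro x y hxy
    obtain ⟨a, rfl⟩ := (hhEquiv k (TMul.assocIso (ClSub.idealMod I) A T) 1).surjective x
    obtain ⟨b, rfl⟩ := (hhEquiv k (TMul.assocIso (ClSub.idealMod I) A T) 1).surjective y
    exact congrArg _ (h2 (by rw [hhMap_comp, hhMap_comp]; exact hxy))
  have hS := shortExact_tmap hP (CurveRR.ideal_shortExact I)
  have hg : Function.Surjective (hhMap k (tmap (ClSub.toSubscheme I) P) 0) := fun y => by
    have : y ∈ LinearMap.range (hhMap k (tmap (ClSub.toSubscheme I) P) 0) := by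
      refine (CurveRR.range_g_eq_ker_δ hS 0).ge (LinearMap.mem_ker.mpr (hinj' ?_))
      rw [map_zero]
      exact LinearMap.mem_ker.mp ((CurveRR.range_δ_eq_ker_f hS 0).le ⟨y, rfl⟩)
    exact this
  obtain ⟨t, ht, -⟩ := CurveRR.exists_section_gen_only hP I (by rw [hsupp]; rfl) hzc
    (by rw [hsupp, Set.diff_self]; exact isClosed_empty) ((CurveRR.surjective_hh0_iff (k := k) _).mp hg)
  exact ⟨j, homOf t ≫ (TMul.commIso A T).hom, (TMul.genLocus_comp _ (TMul.commIso A T).hom).symm ▸ ht⟩

/-- Some power is generated by its sections. -/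
theorem exists_generated [IsIntegral X] {L : X.Modules} (hL : PicF.IsInvertible L)
    (hv : ∀ B : Set X, IsClosed B → genericPoint X ∉ B → Vanishes L B)
    {m : ℕ} (hm : 0 < m) (s : Coh.structureModule X ⟶ CohB1.tensorPow L m) (hs : s ≠ 0) :
    ∃ N, 0 < N ∧ ∀ x : X, ∃ t : Coh.structureModule X ⟶ CohB1.tensorPow L N, x ∈ CohB1.genLocus _ t := by
  classical
  haveI := CurveRR.isNoetherian_of_proper k X
  let A := CohB1.tensorPow L m
  have hA : PicF.IsInvertible A := TMul.isInvertible_tensorPow hL m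
  haveI : Mono s := CurveRR.mono_of_ne_zero TMul.isInvertible_structureModule hA s hs
  have hη : genericPoint X ∈ CohB1.genLocus A s := by
    by_contra h
    have : genericPoint X ∈ CohB1.support (cokernel s) := (Intersect.support_coker_section hA s).symm ▸ h
    exact CurveRR.notMem_support_coker s _ (CurveRR.surjective_stalk_generic hA s hs) this
  have hvA : Vanishes A (CohB1.genLocus A s : Set X)ᶜ := fun M hM hMB => by
    obtain ⟨n₀, h₀⟩ := hv _ (CohB1.genLocus A s).2.isClosed_compl (fun h => h hη) M hM hMB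
    refine ⟨n₀, fun n hn q => ?_⟩
    obtain ⟨e⟩ := TMul.nonempty_powMulIso L m n
    haveI := h₀ (m * n) (hn.trans (Nat.le_mul_of_pos_left n hm)) q
    exact (hhEquiv k (PicGrp.tensorModIso (Iso.refl M) e) (q + 1)).toEquiv.subsingleton
  have hclosed : ∀ z : X, IsClosed ({z} : Set X) →
      ∃ (j : ℕ) (t : Coh.structureModule X ⟶ CohB1.tensorPow A (j + 1)), z ∈ CohB1.genLocus _ t := fun z hz => by
    by_cases h : z ∈ CohB1.genLocus A s
    · exact ⟨0, SecTwist.powHom s 1, (TMul.genLocus_powHom hA s 0).symm ▸ h⟩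
    · exact exists_gen_at k hA s hvA hz h
  let ι' := Σ j : ℕ, (Coh.structureModule X ⟶ CohB1.tensorPow A (j + 1))
  let W : ι' → X.Opens := fun p => CohB1.genLocus _ p.2
  have hcov : ∀ x : X, ∃ p, x ∈ W p := fun x => by
    obtain ⟨z, hz, hzc⟩ := (isClosed_closure (s := ({x} : Set X))).exists_closed_singleton ⟨x, subset_closure rfl⟩
    obtain ⟨j, t, ht⟩ := hclosed z hzc
    exact ⟨⟨j, t⟩, (specializes_iff_mem_closure.mpr hz).mem_open (W ⟨j, t⟩).2 ht⟩
  obtain ⟨F, hF⟩ := isCompact_univ.elim_finite_subcover (fun p => (W p : Set X)) (fun p => (W p).2)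
    (fun x _ => Set.mem_iUnion.mpr (hcov x))
  obtain ⟨N, hN⟩ : ∃ N, N + 1 = ∏ p ∈ F, (p.1 + 1) :=
    ⟨_, Nat.sub_add_cancel (Nat.one_le_iff_ne_zero.2 (Finset.prod_ne_zero_iff.2 fun p _ => Nat.succ_ne_zero _))⟩
  refine ⟨m * (N + 1), by positivity, fun x => ?_⟩
  obtain ⟨p, hp, hxp⟩ := Set.mem_iUnion₂.mp (hF (Set.mem_univ x))
  obtain ⟨t, ht⟩ := TMul.exists_genLocus_pow hA (N := N) (hN ▸ Finset.dvd_prod_of_mem _ hp) p.2
  obtain ⟨e⟩ := TMul.nonempty_powMulIso L m (N + 1)
  exact ⟨t ≫ e.hom, (TMul.genLocus_comp t e.hom).symm ▸ ht.symm ▸ hxp⟩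

end Groth.Agent.Nakai
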