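import Groth.Agent.Nakai.Section
import Groth.Agent.Nakai.Generated
import Groth.Agent.Nakai.Fibres
import Groth.Agent.TMul.RelAmple
import Groth.Agent.ProjMor.Over
import Groth.Agent.S1529

/-!
The criterion of Nakai and Moishezon.
-/

set_option autoImplicit false
set_option backward.isDefEq.respectTransparency false
set_option linter.style.haveILetI false
set_option linter.unusedSectionVars false

universe u

open CategoryTheory CategoryTheory.Limits AlgebraicGeometry TopologicalSpace
open TMul (homOf val)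

noncomputable section

namespace Groth.Agent.Nakai

variable (k : Type u) [Field k]

theorem isAmple_integral {X : Scheme.{u}} [X.Over (Spec (CommRingCat.of k))]
    [IsProper (X ↘ Spec (CommRingCat.of k))] [IsIntegral X] {L : X.Modules} (hL : PicF.IsInvertible L) (d : ℕ)
    (hdim : topologicalKrullDim X = ((d + 1 : ℕ) : WithBot ℕ∞))
    (hY : ∀ ξ : X, ξ ≠ genericPoint X → CohB1.IsAmple ((Scheme.Modules.pullback (Devissage.Zi ξ)).obj L))
    (hpos : PosSub k L) : CohB1.IsAmple L := by
  classical
  haveI := CurveRR.isNoetherian_of_proper k X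
  have hv : ∀ B : Set X, IsClosed B → genericPoint X ∉ B → Vanishes L B := fun B hB hη =>
    vanishes (X ↘ Spec (CommRingCat.of k)) hL ⟨B, hB⟩ fun ξ hξ => hY ξ fun h => hη (h ▸ hξ)
  obtain ⟨m, hm, s, hs⟩ := exists_section k hL d hdim hv (hpos.self k (Nat.succ_pos d) hdim)
  obtain ⟨N, hN, hgen⟩ := exists_generated k hL hv hm s hs
  choose t ht using hgen
  obtain ⟨F, hF⟩ := isCompact_univ.elim_finite_subcover (fun x => (CohB1.genLocus _ (t x) : Set X))
    (fun x => (CohB1.genLocus _ (t x)).2) (fun x _ => Set.mem_iUnion.mpr ⟨x, ht x⟩)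
  let A := CohB1.tensorPow L N
  have hA : PicF.IsInvertible A := TMul.isInvertible_tensorPow hL N
  let g : Fin (F.card + 1) → ProjUP.Γm A :=
    Fin.cons (0 : Γ(A, ⊤)) fun j => val (t (F.equivFin.symm j).1) ⊤
  have hg : ProjUP.GeneratedBy A g := ProjMor.generatedBy_of_mem_genLocus g fun x => by
    obtain ⟨p, hp, hxp⟩ := Set.mem_iUnion₂.mp (hF (Set.mem_univ x))
    refine ⟨(F.equivFin ⟨p, hp⟩).succ, ?_⟩
    have e : g (F.equivFin ⟨p, hp⟩).succ = val (t p) ⊤ := by simp [g]
    rw [e, CohFinite.homOf_val]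
    exact hxp
  obtain ⟨r, hr, τ, -⟩ := ProjMor.exists_projSpace (R := k) (X ↘ Spec (CommRingCat.of k)) hA g hg
  letI : (CohB1.ProjSpace F.card k).Over (Spec (CommRingCat.of k)) := ⟨CohB1.ProjSpace.toSpec F.card k⟩
  haveI := ProjMor.isProper_toSpec F.card k
  haveI : IsProper (CohB1.ProjSpace F.card k ↘ Spec (CommRingCat.of k)) := ‹_›
  haveI : IsProper (r ≫ CohB1.ProjSpace.toSpec F.card k) := hr.symm ▸ inferInstance
  haveI : IsProper r := IsProper.of_comp r (CohB1.ProjSpace.toSpec F.card k)
  haveI : IsFinite r := isFinite_of_posSub k hdim.le r hr hL hpos (Intersect.isAmple_twistProj_one F.card k).1 hN τ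
  exact TMul.isAmple_of_tensorPow hL hN
    (TMul.isAmple_congr τ (TMul.isAmple_pullback_of_isAffineHom r (Intersect.isAmple_twistProj_one F.card k)))

/-- An invertible module with positive intersection numbers on all integral closed subschemes is ample. -/
theorem isAmple_of_posSub (d : ℕ) : ∀ (X : Scheme.{u}) [X.Over (Spec (CommRingCat.of k))]
    [IsProper (X ↘ Spec (CommRingCat.of k))], topologicalKrullDim X ≤ d →
    ∀ L : X.Modules, PicF.IsInvertible L → PosSub k L → CohB1.IsAmple L := by
  induction d with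
  | zero =>
    intro X _ _ hd L hL _
    haveI : IsAffine X := (Groth.Agent.S1529.result k X (by simpa using hd)).1
    exact TMul.isAmple_of_isQuasiAffine hL
  | succ d ih =>
    intro X _ _ hd L hL hpos
    haveI := CurveRR.isNoetherian_of_proper k X
    refine W7Hull.isAmple_of_pullbacks
      (fun ξ : X => (Scheme.IdealSheafData.vanishingIdeal (Devissage.Zc ξ)).subscheme)
      (fun ξ => Devissage.Zi ξ ≫ (X ↘ Spec (CommRingCat.of k))) (fun ξ => Devissage.Zi ξ)
      (fun x => ⟨x, by
        obtain ⟨y, hy⟩ : x ∈ Set.range (Devissage.Zi x) := by rw [Devissage.range_Zi]; exact subset_closure rfl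
        exact ⟨y, hy⟩⟩) L hL fun ξ => ?_
    let Z := (Scheme.IdealSheafData.vanishingIdeal (Devissage.Zc ξ)).subscheme
    let i : Z ⟶ X := Devissage.Zi ξ
    letI : Z.Over (Spec (CommRingCat.of k)) := ⟨i ≫ (X ↘ Spec (CommRingCat.of k))⟩
    haveI : IsProper (Z ↘ Spec (CommRingCat.of k)) := inferInstanceAs (IsProper (i ≫ _))
    haveI : IsIntegral Z := Devissage.Zi_isIntegral ξ
    have hLZ : PicF.IsInvertible ((Scheme.Modules.pullback i).obj L) := PicLoc.isInvertible_pullback i hL
    have hpZ : PosSub k ((Scheme.Modules.pullback i).obj L) := PosSub.pullback k i hpos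
    have hle : topologicalKrullDim Z ≤ ((d + 1 : ℕ) : WithBot ℕ∞) :=
      i.isClosedEmbedding.isInducing.topologicalKrullDim_le.trans hd
    by_cases hZ : topologicalKrullDim Z ≤ (d : WithBot ℕ∞)
    · exact ih Z hZ _ hLZ hpZ
    have hZd : topologicalKrullDim Z = ((d + 1 : ℕ) : WithBot ℕ∞) := le_antisymm hle (by
      by_contra h
      exact hZ (Intersect.le_of_lt_succ' (not_le.1 h)))
    refine isAmple_integral k hLZ d hZd (fun ζ hζ => ?_) hpZ
    haveI := CurveRR.isNoetherian_of_proper k Z
    let W := (Scheme.IdealSheafData.vanishingIdeal (Devissage.Zc ζ)).subscheme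
    let j : W ⟶ Z := Devissage.Zi ζ
    letI : W.Over (Spec (CommRingCat.of k)) := ⟨j ≫ (Z ↘ Spec (CommRingCat.of k))⟩
    haveI : IsProper (W ↘ Spec (CommRingCat.of k)) := inferInstanceAs (IsProper (j ≫ _))
    refine ih W ?_ _ (PicLoc.isInvertible_pullback j hLZ) (PosSub.pullback k j hpZ)
    rw [IsHomeomorph.topologicalKrullDim_eq _ j.isClosedEmbedding.isEmbedding.toHomeomorph.isHomeomorph,
      Devissage.range_Zi ζ]
    have hu : closure ({genericPoint Z} : Set Z) = Set.univ := genericPoint_spec Z
    refine Intersect.le_of_lt_succ' (Intersect.dim_proper_lt (X := Z) (ξ := genericPoint Z) (n := d + 1) ?_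
      isClosed_closure (hu ▸ Set.subset_univ _) fun h => hζ ?_)
    · exact Intersect.lt_succ_of_le' ((topologicalKrullDim_subspace_le Z _).trans hle)
    · exact ((genericPoint_specializes ζ).antisymm (specializes_iff_mem_closure.mpr h)).eq.symm

end Groth.Agent.Nakai
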