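import Groth.Agent.Nakai.HodgeNum
import Groth.Agent.Nakai.Pure
import Groth.Agent.Nakai.NefApps

/-!
Consequences of the index theorem for nef modules on surfaces.
-/

set_option autoImplicit false
set_option backward.isDefEq.respectTransparency false
set_option linter.style.haveILetI false
set_option linter.unusedSectionVars false

universe u

open CategoryTheory CategoryTheory.Limits AlgebraicGeometry TopologicalSpace
open Groth.Agent.Intersect

noncomputable section

namespace Groth.Agent.Nakai

variable {X : Scheme.{u}} (k : Type u) [Field k] [X.Over (Spec (CommRingCat.of k))] [IsProper (X ↘ Spec (CommRingCat.of k))]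

theorem inter_self_nonneg_of_nef (hd : topologicalKrullDim X ≤ ((2 : ℕ) : WithBot ℕ∞)) {L : X.Modules}
    (hL : PicF.IsInvertible L) (hn : Nef k L) : 0 ≤ inter k L L := by
  have h := pure_nonneg k 2 X L hL hn (Coh.structureModule X) (isCoh_one k)
    ((dim_support_structure (X := X)).trans_le hd)
  simpa [inter, List.replicate] using h

theorem deg_eq_zero_of_orth [IrreducibleSpace X] (hdim : topologicalKrullDim X = 2) {H L : X.Modules}
    (hH : PicF.IsInvertible H) (hL : PicF.IsInvertible L) (hHH : 0 < inter k H H) (hLH : inter k L H = 0)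
    (hLL : 0 ≤ inter k L L) {F : X.Modules} (hF : Coh.IsCoh F)
    (hF1 : topologicalKrullDim (CohB1.support F) ≤ ((1 : ℕ) : WithBot ℕ∞)) : D k [L] F = 0 := by
  haveI := CurveRR.isNoetherian_of_proper k X
  have hl : ∀ M ∈ [L], PicF.IsInvertible M := by simpa using hL
  rw [D_get]
  refine (alt_eq_of_pieces k (forall_get hl) (forall_get hl) 0 hF hF1 fun w hw => ?_).trans (zero_mul _)
  rw [zero_mul]
  rcases hw.lt_or_eq with hlt | heq
  · exact alt_eq_zero_of_dim k (Devissage.isCoh_A w) (forall_get hl)
      (lt_of_le_of_lt (dim_mono (Devissage.support_A_subset w)) hlt)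
  · have h := deg_curve_eq_zero k hdim hH hL hHH hLH hLL heq
    rwa [D_get] at h

theorem curves_eq_zero_of_nef [IrreducibleSpace X] (hdim : topologicalKrullDim X = 2) {H L : X.Modules}
    (hH : PicF.IsInvertible H) (hL : PicF.IsInvertible L) (hHH : 0 < inter k H H) (hLH : inter k L H = 0)
    (hn : Nef k L) (C : X.IdealSheafData) (hC : topologicalKrullDim (C.support : Set X) = 1) :
    Curv2.euler k X (CohB1.tensorMod (ClSub.quotMod C) L) - Curv2.euler k X (ClSub.quotMod C) = 0 := by
  haveI := CurveRR.isNoetherian_of_proper k X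
  have h := deg_eq_zero_of_orth k hdim hH hL hHH hLH (inter_self_nonneg_of_nef k hdim.le hL hn)
    (CurveRR.isCoh_idealMod C).2 ((dim_support_quotMod C).trans hC).le
  rw [D_one, sub_eq_zero] at h
  rw [sub_eq_zero]
  exact_mod_cast h.symm

theorem h0_eq_zero_of_degree_neg [IsIntegral X] (hdim : topologicalKrullDim X = 2) {H L : X.Modules}
    (hH : PicF.IsInvertible H) (hn : Nef k H) (hL : PicF.IsInvertible L) (hLH : inter k L H < 0) :
    CurveRR.h k L 0 = 0 := by
  by_contra h0
  obtain ⟨s, hs⟩ := exists_section_of_h0 k (Nat.pos_of_ne_zero h0)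
  haveI : Mono s := CurveRR.mono_of_ne_zero TMul.isInvertible_structureModule hL s hs
  have h2 := alt_coker_section k hL s (M := fun _ : Fin 1 => H) (fun _ => hH)
  have h3 := hn _ (isCoh_coker k hL s) (dim_coker_le k hdim hL s)
  have h4 : inter k L H = alt (χt k (Coh.structureModule X) (Fin.cons L fun _ : Fin 1 => H)) := by
    rw [inter, ← D_ofFn]
    rfl
  rw [h2, ← D_replicate, List.replicate_one, D_one] at h4
  have h5 : (Curv2.euler k X (cokernel s) : ℚ) ≤ Curv2.euler k X (CohB1.tensorMod (cokernel s) H) := by
    exact_mod_cast h3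
  linarith

theorem nef_of_isAmple {L : X.Modules} (hL : CohB1.IsAmple L) : Nef k L := by
  haveI := CurveRR.isNoetherian_of_proper k X
  refine nef_of_pieces k hL.1 fun ξ hξ => ?_
  have h1 := alt_pos k 1 _ (fun _ => hL) _ (Devissage.isCoh_A ξ)
    ((dim_support_quotMod _).trans ((congrArg (fun S : Set X => topologicalKrullDim S) (support_vanishing ξ)).trans hξ))
  rw [← D_replicate, List.replicate_one, D_one, pow_one] at h1
  have h2 : ((Curv2.euler k X (Devissage.A ξ) : ℤ) : ℚ) < Curv2.euler k X (CohB1.tensorMod (Devissage.A ξ) L) := by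
    linarith
  exact (by exact_mod_cast h2.le)

end Groth.Agent.Nakai
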