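import Groth.Agent.Nakai.NumDim
import Groth.Agent.Nakai.HodgeNef
import Groth.Agent.Nakai.PullIdeal
import Groth.Agent.Nakai.Criterion
import Groth.Agent.ProjMor.PullSec
import Groth.Agent.S1664
import Mathlib.AlgebraicGeometry.Morphisms.SchemeTheoreticallyDominant

/-!
Growth of the sections of the powers of a semi-ample module.
-/

set_option autoImplicit false
set_option backward.isDefEq.respectTransparency false
set_option linter.style.haveILetI false
set_option linter.unusedSectionVars false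

universe u

open CategoryTheory CategoryTheory.Limits AlgebraicGeometry TopologicalSpace
open Groth.Agent.Intersect
open Groth.Agent.QC (res resO app_res res_self res_res)
open TMul (IsGen val homOf)

noncomputable section

namespace Groth.Agent.Nakai

attribute [local instance] clMonoid

variable {X : Scheme.{u}} (k : Type u) [Field k] [X.Over (Spec (CommRingCat.of k))]

theorem isSchemeTheoreticallyDominant_toImage {Y : Scheme.{u}} (f : X ⟶ Y) [QuasiCompact f] :
    IsSchemeTheoreticallyDominant f.toImage := by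
  refine ⟨Scheme.IdealSheafData.ext_of_iSup_eq_top
    (fun U : Y.affineOpens => ⟨f.imageι ⁻¹ᵁ U.1, U.2.preimage f.imageι⟩) ?_ fun U => ?_⟩
  · refine top_le_iff.1 fun x _ => ?_
    obtain ⟨U, hU, hxU, -⟩ := exists_isAffineOpen_mem_and_subset (x := f.imageι x) (U := (⊤ : Y.Opens)) trivial
    exact Opens.mem_iSup.2 ⟨⟨U, hU⟩, hxU⟩
  · rw [Scheme.Hom.ker_apply, Scheme.IdealSheafData.ideal_bot]
    exact (RingHom.injective_iff_ker_eq_bot _).1 (f.toImage_app_injective U)

theorem isIntegral_image [IsIntegral X] {Y : Scheme.{u}} (f : X ⟶ Y) [QuasiCompact f] : IsIntegral f.image := by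
  haveI := isSchemeTheoreticallyDominant_toImage f
  haveI : IsReduced f.image := IsSchemeTheoreticallyDominant.isReduced f.toImage
  haveI : IrreducibleSpace f.image := by
    have h1 := ((IrreducibleSpace.isIrreducible_univ X).image f.toImage f.toImage.continuous.continuousOn).closure
    rw [Set.image_univ, f.toImage.denseRange.closure_eq] at h1
    haveI : Nonempty f.image := ⟨f.toImage (Classical.arbitrary X)⟩
    exact { isPreirreducible_univ := h1.2, toNonempty := inferInstance }
  exact isIntegral_of_irreducibleSpace_of_isReduced _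

theorem eta_injective {Y : Scheme.{u}} (f : X ⟶ Y) [IsSchemeTheoreticallyDominant f] [QuasiCompact f]
    {M : Y.Modules} (hM : PicF.IsInvertible M) (s : Γ(M, ⊤))
    (hs : ProjMor.eta f M ⊤ s = 0) : s = 0 := by
  refine Groth.Agent.QC.section_eq_of_locally fun x hx => ?_
  obtain ⟨U, g, hxU, hg⟩ := TMul.exists_isGen hM x
  obtain ⟨c, hc⟩ := (hg U le_rfl).2 (res M (le_top : U ≤ ⊤) s)
  refine ⟨U, le_top, hxU, ?_⟩
  simp only [res_self] at hc
  have h1 : f.app U c • ProjMor.eta f M U g = 0 := by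
    rw [← ProjMor.eta_smul, hc, ← ProjMor.eta_res, hs, map_zero]
  have hgen : IsGen (ProjMor.eta f M U g) := isGen_pullSect f hM hg
  have h2 : f.app U c = 0 := (hgen (f ⁻¹ᵁ U) le_rfl).1 (by
    change f.app U c • res _ le_rfl _ = (0 : Γ(X, f ⁻¹ᵁ U)) • res _ le_rfl _
    rw [res_self, h1, zero_smul])
  have h3 : c = 0 := f.app_injective U (h2.trans (map_zero (f.app U).hom).symm)
  rw [map_zero, ← hc, h3, zero_smul]

variable [IsProper (X ↘ Spec (CommRingCat.of k))]

attribute [local instance] CurveRR.secMod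

/-- Sections pull back injectively along dominant morphisms. -/
theorem h0_le_pullback {Y : Scheme.{u}} [Y.Over (Spec (CommRingCat.of k))] (f : X ⟶ Y)
    (hf : f ≫ (Y ↘ Spec (CommRingCat.of k)) = X ↘ Spec (CommRingCat.of k))
    [IsSchemeTheoreticallyDominant f] [QuasiCompact f] {M : Y.Modules} (hM : PicF.IsInvertible M) :
    CurveRR.h k M 0 ≤ CurveRR.h k ((Scheme.Modules.pullback f).obj M) 0 := by
  rw [← CurveRR.finrank_sec, ← CurveRR.finrank_sec]
  haveI : Module.Finite k (Coh.HH X ((Scheme.Modules.pullback f).obj M) 0) :=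
    CohFinite.finite_proper k X _ (isCoh_inv k (PicLoc.isInvertible_pullback f hM)) 0
  haveI : Module.Finite k Γ((Scheme.Modules.pullback f).obj M, ⊤) :=
    Module.Finite.equiv (CurveRR.secH0 (k := k) _).symm
  have hc : ∀ a : k, f.app ⊤ (CurveRR.cst k Y ⊤ a) = CurveRR.cst k X ⊤ a := fun a => by
    simp only [RingHom.comp_apply, Groth.Agent.QC.resO_self, Coh.toGlobal, ← hf, Scheme.Hom.comp_appTop]
    rfl
  let φ : Γ(M, ⊤) →ₗ[k] Γ((Scheme.Modules.pullback f).obj M, ⊤) :=
    { toFun := ProjMor.eta f M ⊤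
      map_add' := map_add _
      map_smul' := fun a s => by
        rw [CurveRR.smul_def, ProjMor.eta_smul, hc, RingHom.id_apply, CurveRR.smul_def]
        rfl }
  exact LinearMap.finrank_le_finrank_of_injective (f := φ)
    ((injective_iff_map_eq_zero φ).2 fun s hs => eta_injective f hM s hs)

theorem nef_of_pow {L : X.Modules} (hL : PicF.IsInvertible L) {p : ℕ} (hp : 0 < p)
    (h : Nef k (CohB1.tensorPow L p)) : Nef k L := fun F hF hd => by
  have h1 := D_pow k hF hL (l := []) (by simp) (e := 1) rfl hd p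
  rw [D_one, D_one] at h1
  have h2 : ((Curv2.euler k X F : ℚ)) ≤ Curv2.euler k X (CohB1.tensorMod F (CohB1.tensorPow L p)) := by
    exact_mod_cast h F hF hd
  have h3 : (0 : ℚ) < p := by exact_mod_cast hp
  have h4 : ((Curv2.euler k X F : ℚ)) - Curv2.euler k X (CohB1.tensorMod F L) ≤ 0 := by
    nlinarith
  exact_mod_cast sub_nonpos.1 h4

theorem D_replicate_pow {F L : X.Modules} (hF : Coh.IsCoh F) (hL : PicF.IsInvertible L) (p : ℕ) :
    ∀ (a : ℕ) (l : List X.Modules), (∀ M ∈ l, PicF.IsInvertible M) →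
      topologicalKrullDim (CohB1.support F) ≤ ((a + l.length : ℕ) : WithBot ℕ∞) →
      D k (List.replicate a (CohB1.tensorPow L p) ++ l) F = (p : ℚ) ^ a * D k (List.replicate a L ++ l) F
  | 0, l, _, _ => by simp
  | a + 1, l, hl, hd => by
    have hl' : ∀ M ∈ List.replicate a (CohB1.tensorPow L p) ++ l, PicF.IsInvertible M := fun M hM => by
      rcases List.mem_append.1 hM with h | h
      · rw [List.eq_of_mem_replicate h]; exact TMul.isInvertible_tensorPow hL p
      · exact hl M h
    rw [List.replicate_succ, List.cons_append,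
      D_pow k hF hL hl' (e := a + 1 + l.length) (by simp; omega) hd p,
      ← D_perm k (List.perm_middle (a := L) (l₁ := List.replicate a (CohB1.tensorPow L p)) (l₂ := l)),
      D_replicate_pow hF hL p a (L :: l) (by simp [hL]; exact hl)
        (hd.trans_eq (by simp; norm_cast; omega)),
      D_perm k (List.perm_middle (a := L) (l₁ := List.replicate a L) (l₂ := l)),
      List.replicate_succ, List.cons_append, pow_succ]
    ring

/-- The morphism of a globally generated module onto its image. -/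
theorem exists_image [IsIntegral X] {P : X.Modules} (hP : PicF.IsInvertible P) (hg : Curv2.IsGloballyGenerated P) :
    ∃ (Y : Scheme.{u}) (_ : Y.Over (Spec (CommRingCat.of k))) (_ : IsProper (Y ↘ Spec (CommRingCat.of k)))
      (_ : IsIntegral Y) (g : X ⟶ Y) (A : Y.Modules), g ≫ (Y ↘ Spec (CommRingCat.of k)) = X ↘ Spec (CommRingCat.of k) ∧
      IsProper g ∧ IsSchemeTheoreticallyDominant g ∧ CohB1.IsAmple A ∧
      Nonempty ((Scheme.Modules.pullback g).obj A ≅ P) := by
  classical
  haveI := CurveRR.isNoetherian_of_proper k X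
  choose t ht using Groth.Agent.S1664.gen_of_globallyGenerated hP hg
  obtain ⟨F, hF⟩ := isCompact_univ.elim_finite_subcover (fun x => (CohB1.genLocus _ (t x) : Set X))
    (fun x => (CohB1.genLocus _ (t x)).2) (fun x _ => Set.mem_iUnion.mpr ⟨x, ht x⟩)
  let s : Fin (F.card + 1) → ProjUP.Γm P :=
    Fin.cons (0 : Γ(P, ⊤)) fun j => val (t (F.equivFin.symm j).1) ⊤
  have hs : ProjUP.GeneratedBy P s := ProjMor.generatedBy_of_mem_genLocus s fun x => by
    obtain ⟨p, hp, hxp⟩ := Set.mem_iUnion₂.mp (hF (Set.mem_univ x))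
    refine ⟨(F.equivFin ⟨p, hp⟩).succ, ?_⟩
    have e : s (F.equivFin ⟨p, hp⟩).succ = val (t p) ⊤ := by simp [s]
    rw [e, CohFinite.homOf_val]
    exact hxp
  obtain ⟨r, hr, τ, -⟩ := ProjMor.exists_projSpace (R := k) (X ↘ Spec (CommRingCat.of k)) hP s hs
  haveI := ProjMor.isProper_toSpec F.card k
  haveI : IsProper (r ≫ CohB1.ProjSpace.toSpec F.card k) := hr.symm ▸ inferInstance
  haveI : IsProper r := IsProper.of_comp r (CohB1.ProjSpace.toSpec F.card k)
  letI : r.image.Over (Spec (CommRingCat.of k)) := ⟨r.imageι ≫ CohB1.ProjSpace.toSpec F.card k⟩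
  haveI : IsProper (r.image ↘ Spec (CommRingCat.of k)) :=
    inferInstanceAs (IsProper (r.imageι ≫ CohB1.ProjSpace.toSpec F.card k))
  haveI : IsIntegral r.image := isIntegral_image r
  have h1 : r.toImage ≫ (r.image ↘ Spec (CommRingCat.of k)) = X ↘ Spec (CommRingCat.of k) := by
    show r.toImage ≫ r.imageι ≫ CohB1.ProjSpace.toSpec F.card k = _
    rw [← Category.assoc, r.toImage_imageι, hr]
  haveI : IsProper (r.toImage ≫ (r.image ↘ Spec (CommRingCat.of k))) := h1.symm ▸ inferInstance
  exact ⟨r.image, inferInstance, inferInstance, inferInstance, r.toImage,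
    (Scheme.Modules.pullback r.imageι).obj (Twist.twistProjSpace F.card k 1), h1,
    IsProper.of_comp r.toImage (r.image ↘ Spec (CommRingCat.of k)), isSchemeTheoreticallyDominant_toImage r,
    TMul.isAmple_pullback_of_isAffineHom r.imageι (Intersect.isAmple_twistProj_one F.card k),
    ⟨(Scheme.Modules.pullbackComp r.toImage r.imageι).app _ ≪≫
      (Scheme.Modules.pullbackCongr r.toImage_imageι).app _ ≪≫ τ⟩⟩

theorem nef_of_generated [IsIntegral X] {P : X.Modules} (hP : PicF.IsInvertible P)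
    (hg : Curv2.IsGloballyGenerated P) : Nef k P := by
  obtain ⟨Y, _, _, _, g, A, hgk, hgp, -, hA, ⟨e⟩⟩ := exists_image k hP hg
  haveI := hgp
  have h := nef_pullback k g hgk hA.1 (nef_of_isAmple k hA)
  intro F hF hd
  rw [← CurveRR.euler_eq_of_iso (PicGrp.tensorModIso (Iso.refl F) e)]
  exact h F hF hd

/-- A semi-ample module with `(L^m·V) ≠ 0` has `h⁰(L^(pn))` growing like `n^m` at least. -/
theorem growth_of_ne_zero [IsIntegral X] {L : X.Modules} (hL : PicF.IsInvertible L) {p : ℕ} (hp : 0 < p)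
    (hg : Curv2.IsGloballyGenerated (CohB1.tensorPow L p)) (m : ℕ) (ξ : X)
    (hξ : topologicalKrullDim (closure ({ξ} : Set X)) = (m : WithBot ℕ∞))
    (h : D k (List.replicate m L) (Devissage.A ξ) ≠ 0) :
    ∃ a : ℕ, 0 < a ∧ ∀ n : ℕ, 1 ≤ n → n ^ m ≤ a * Module.finrank k (Coh.HH X (CohB1.tensorPow L (p * n)) 0) := by
  haveI := CurveRR.isNoetherian_of_proper k X
  have hP := TMul.isInvertible_tensorPow hL p
  obtain ⟨Y, _, _, _, g, A, hgk, hgp, hgd, hA, ⟨e⟩⟩ := exists_image k hP hg
  haveI := hgp; haveI := hgd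
  haveI := CurveRR.isNoetherian_of_proper k Y
  obtain ⟨d, hd⟩ := exists_dim_closure k (genericPoint Y)
  rw [genericPoint_spec Y, (Homeomorph.Set.univ Y).isHomeomorph.topologicalKrullDim_eq] at hd
  have hF := Devissage.isCoh_A ξ
  have hFd : topologicalKrullDim (CohB1.support (Devissage.A ξ)) ≤ (m : WithBot ℕ∞) :=
    (dim_mono (Devissage.support_A_subset ξ)).trans hξ.le
  have hmd : m ≤ d := by
    by_contra hc
    push Not at hc
    have h1 := alt_push k g hgk m (fun _ => A) (fun _ => hA.1) _ hF hFd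
    rw [Intersect.χt_congr k (Devissage.A ξ) (L := fun _ : Fin m => (Scheme.Modules.pullback g).obj A)
      (L' := fun _ : Fin m => CohB1.tensorPow L p) fun _ => ⟨e⟩, ← D_replicate, ← D_replicate,
      D_eq_zero k (isCoh_push' g hF) (fun M hM => by rw [List.eq_of_mem_replicate hM]; exact hA.1)
        (lt_of_le_of_lt ((topologicalKrullDim_subspace_le Y _).trans hd.le) (by
          rw [List.length_replicate]; exact_mod_cast hc))] at h1
    have h2 := D_replicate_pow k hF hL p m [] (by simp) (hFd.trans_eq (by simp))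
    simp only [List.append_nil] at h2
    rw [h1] at h2
    exact h ((mul_eq_zero.1 h2.symm).resolve_left (pow_ne_zero _ (by exact_mod_cast hp.ne')))
  obtain ⟨c, hc, n₀, hn₀⟩ := ample_growth k hA (TMul.isInvertible_structureModule (X := Y)) d hd
  obtain ⟨N, hN⟩ := exists_nat_gt (1 / c)
  refine ⟨N + n₀ ^ m + 1, Nat.succ_pos _, fun n hn => ?_⟩
  change _ ≤ _ * CurveRR.h k (CohB1.tensorPow L (p * n)) 0
  by_cases hnn : n < n₀
  · obtain ⟨s, hs⟩ := exists_section_ne_zero (𝟙 X) hP hg
    have hpos : 0 < CurveRR.h k (CohB1.tensorPow L (p * n)) 0 := by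
      refine lt_of_lt_of_le (h0_pos_pow k (PicLoc.isInvertible_pullback (𝟙 X) hP)
        (h0_pos_of_section k (isCoh_inv k (PicLoc.isInvertible_pullback (𝟙 X) hP)) hs) n) (le_of_eq ?_)
      obtain ⟨a⟩ := TMul.nonempty_pullPowIso (𝟙 X) (CohB1.tensorPow L p) n
      rw [CurveRR.h_eq_of_iso (a ≪≫ (Scheme.Modules.pullbackId X).app _) 0]
      exact h_congr k (by simp only [Functor.id_obj, cl_pow, ← pow_mul]) 0
    exact ((Nat.pow_le_pow_left hnn.le m).trans (by omega)).trans (Nat.le_mul_of_pos_right _ hpos)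
  push Not at hnn
  have h1 : CurveRR.h k (CohB1.tensorMod (CohB1.tensorPow A n) (Coh.structureModule Y)) 0 ≤
      CurveRR.h k (CohB1.tensorPow L (p * n)) 0 := by
    rw [h_congr k (show PicF.cl (CohB1.tensorMod (CohB1.tensorPow A n) (Coh.structureModule Y)) =
      PicF.cl (CohB1.tensorPow A n) by rw [cl_tensor, cl_one, mul_one]) 0]
    refine (h0_le_pullback k g hgk (TMul.isInvertible_tensorPow hA.1 n)).trans_eq ?_
    obtain ⟨a⟩ := TMul.nonempty_pullPowIso g A n
    rw [← CurveRR.h_eq_of_iso a 0]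
    refine h_congr k ?_ 0
    rw [cl_pow, cl_pow, pow_mul, ← cl_pow L p, ((PicGrp.cl_eq_cl_iff _ _).2 ⟨e⟩)]
  have h2 := (hn₀ n hnn).1
  rw [← Nat.cast_le (α := ℚ)]
  push_cast
  have h3 : (n : ℚ) ^ m ≤ (n : ℚ) ^ d := pow_le_pow_right₀ (by exact_mod_cast hn) hmd
  rw [div_lt_iff₀ hc] at hN
  have h4 : (n : ℚ) ^ d ≤ (N : ℚ) * CurveRR.h k (CohB1.tensorMod (CohB1.tensorPow A n) (Coh.structureModule Y)) 0 := by
    calc (n : ℚ) ^ d = 1 * (n : ℚ) ^ d := (one_mul _).symm
      _ ≤ (N : ℚ) * c * (n : ℚ) ^ d := mul_le_mul_of_nonneg_right hN.le (by positivity)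
      _ ≤ _ := by rw [mul_assoc]; exact mul_le_mul_of_nonneg_left h2 (Nat.cast_nonneg N)
  refine h3.trans (h4.trans (mul_le_mul ?_ (by exact_mod_cast h1) (Nat.cast_nonneg _) (by positivity)))
  have : (0 : ℚ) ≤ (n₀ : ℚ) ^ m := by positivity
  linarith

end Groth.Agent.Nakai
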