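import Groth.Agent.Nakai.UnifVanish
import Groth.Agent.Nakai.SemiAmple
import Groth.Agent.AmpleEmb.Closed
import Groth.Agent.SerrePn.ClosedTwist
import Groth.Agent.Intersect.ProjSpace
import Groth.Agent.S10965
import Groth.Agent.S4386

/-!
Uniform regularity and uniform very ampleness of numerically trivial twists.
-/

set_option autoImplicit false
set_option backward.isDefEq.respectTransparency false
set_option linter.style.haveILetI false
set_option linter.unusedSectionVars false

universe u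

open CategoryTheory CategoryTheory.Limits AlgebraicGeometry TopologicalSpace
open Groth.Agent.Intersect

noncomputable section

namespace Groth.Agent.Nakai

attribute [local instance] clMonoid

variable {X : Scheme.{u}} (k : Type u) [Field k] [X.Over (Spec (CommRingCat.of k))] [IsProper (X ↘ Spec (CommRingCat.of k))]

theorem isGloballyGenerated_of_cl {A B : X.Modules} (h : PicF.cl A = PicF.cl B)
    (hA : Curv2.IsGloballyGenerated A) : Curv2.IsGloballyGenerated B := by
  obtain ⟨ι, p, hp⟩ := hA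
  haveI := hp
  exact ⟨ι, p ≫ (iso_of_cl h).some.hom, inferInstance⟩

/-- The class of a twist by a power of the hyperplane class. -/
theorem cl_pull_twist {n : ℕ} (i : X ⟶ CohB1.ProjSpace n k) (a : ℕ) :
    PicF.cl ((Scheme.Modules.pullback i).obj (Twist.twistProjSpace n k (a : ℤ))) =
      PicF.cl ((Scheme.Modules.pullback i).obj (Twist.twistProjSpace n k 1)) ^ a := by
  obtain ⟨e1⟩ := Intersect.nonempty_twist_pow k n a
  obtain ⟨e2⟩ := TMul.nonempty_pullPowIso i (Twist.twistProjSpace n k 1) a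
  rw [← cl_pow]
  exact (PicGrp.cl_eq_cl_iff _ _).2 ⟨(Scheme.Modules.pullback i).mapIso e1 ≪≫ e2.symm⟩

theorem cl_twistOn {n : ℕ} (i : X ⟶ CohB1.ProjSpace n k) (F : X.Modules) (a : ℕ) :
    PicF.cl (Pic13.twistOn k i F (a : ℤ)) =
      PicF.cl F * PicF.cl ((Scheme.Modules.pullback i).obj (Twist.twistProjSpace n k 1)) ^ a := by
  rw [Pic13.twistOn, cl_tensor, cl_pull_twist]

/-- Twists by the numerically trivial modules are uniformly regular. -/
theorem exists_regular {n : ℕ} (i : X ⟶ CohB1.ProjSpace n k) [IsClosedImmersion i]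
    (hi : i ≫ CohB1.ProjSpace.toSpec n k = X ↘ Spec (CommRingCat.of k)) {F : X.Modules} (hF : Coh.IsCoh F) :
    ∃ m : ℕ, ∀ N : X.Modules, PicF.IsInvertible N → DegFlat k N →
      Pic13.IsMRegular k i (CohB1.tensorMod F N) (m : ℤ) := by
  letI : (CohB1.ProjSpace n k).Over (Spec (CommRingCat.of k)) := ⟨CohB1.ProjSpace.toSpec n k⟩
  let H := (Scheme.Modules.pullback i).obj (Twist.twistProjSpace n k 1)
  have hH : CohB1.IsAmple H := TMul.isAmple_pullback_of_isAffineHom i (Groth.Agent.Intersect.isAmple_twistProj_one n k)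
  obtain ⟨d, hd⟩ := exists_dim_bound k (X := X)
  obtain ⟨-, n₀, hn₀⟩ := unif k hH d F hF ((topologicalKrullDim_subspace_le X _).trans hd)
  obtain ⟨B, -, hB⟩ := CurveRR.exists_bound k X
  refine ⟨n₀ + B, fun N hN hf q hq => ?_⟩
  by_cases hqB : B ≤ q
  · exact hB _ (isCoh_twist k (isCoh_twist k hF hN) (PicLoc.isInvertible_pullback i
      (CohFinite.isInvertible_twist n k _))).1 q hqB
  obtain ⟨q', rfl⟩ := Nat.exists_eq_add_of_le' hq
  rw [show (((n₀ + B : ℕ) : ℤ) - ((q' + 1 : ℕ) : ℤ)) = ((n₀ + B - (q' + 1) : ℕ) : ℤ) by omega]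
  refine hh_congr ?_ _ (hn₀ (n₀ + B - (q' + 1)) (by omega) N hN hf q')
  rw [cl_twistOn, cl_tensor, cl_tensor, cl_tensor, cl_pow, mul_assoc]

/-- Numerically trivial twists are uniformly generated by their sections. -/
theorem exists_generated_flat {n : ℕ} (i : X ⟶ CohB1.ProjSpace n k) [IsClosedImmersion i]
    (hi : i ≫ CohB1.ProjSpace.toSpec n k = X ↘ Spec (CommRingCat.of k)) {F : X.Modules} (hF : Coh.IsCoh F) :
    ∃ m : ℕ, ∀ a, m ≤ a → ∀ N : X.Modules, PicF.IsInvertible N → DegFlat k N →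
      Curv2.IsGloballyGenerated (Pic13.twistOn k i (CohB1.tensorMod F N) (a : ℤ)) := by
  letI : (CohB1.ProjSpace n k).Over (Spec (CommRingCat.of k)) := ⟨CohB1.ProjSpace.toSpec n k⟩
  haveI : IsNoetherian (CohB1.ProjSpace n k) := CohFinite.isNoetherian_projSpace n k
  obtain ⟨m, hm⟩ := exists_regular k i hi hF
  refine ⟨m, fun a ha N hN hf => ?_⟩
  have hFN := isCoh_twist k hF hN
  haveI := hFN.1
  have hG : Coh.IsCoh ((Scheme.Modules.pushforward i).obj (CohB1.tensorMod F N)) :=
    Groth.Agent.QC.isCoh_pushforward_of_isFinite i hFN.2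
  have hL : ∀ d : ℤ, PicF.IsInvertible (Twist.twistProjSpace n k d) := CohFinite.isInvertible_twist n k
  have hreg : Curv2.IsMRegular k n ((Scheme.Modules.pushforward i).obj (CohB1.tensorMod F N)) m := fun q hq _ => by
    obtain ⟨e⟩ := SerrePn.nonempty_hh_pushTwist k i hi (CohB1.tensorMod F N) (hL ((m : ℤ) - q)) q
    exact e.toEquiv.subsingleton_congr.1 (hm N hN hf q hq)
  refine SerrePn.isGloballyGenerated_of_push i _ ?_
  obtain ⟨e⟩ := SerrePn.nonempty_pushTwist i (CohB1.tensorMod F N) (hL (a : ℤ))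
  obtain ⟨ι, p, hp⟩ := SerrePn.isGloballyGenerated_twist _ hG (a : ℤ)
    (SerrePn.regular_of_le _ hG (m : ℤ) hreg (a : ℤ) (by omega))
  exact ⟨ι, p ≫ e.hom, epi_comp _ _⟩

include k in
/-- Finitely many sections suffice to generate. -/
theorem exists_generatedBy {P : X.Modules} (hP : PicF.IsInvertible P) (hg : Curv2.IsGloballyGenerated P) :
    ∃ (m : ℕ) (s : Fin m → ProjUP.Γm P), ProjUP.GeneratedBy P s := by
  classical
  haveI := CurveRR.isNoetherian_of_proper k X
  choose t ht using Groth.Agent.S1664.gen_of_globallyGenerated hP hg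
  obtain ⟨F, hF⟩ := isCompact_univ.elim_finite_subcover (fun x => (CohB1.genLocus _ (t x) : Set X))
    (fun x => (CohB1.genLocus _ (t x)).2) (fun x _ => Set.mem_iUnion.mpr ⟨x, ht x⟩)
  refine ⟨F.card, fun j => TMul.val (t (F.equivFin.symm j).1) ⊤, ProjMor.generatedBy_of_mem_genLocus _ fun x => ?_⟩
  obtain ⟨p, hp, hxp⟩ := Set.mem_iUnion₂.mp (hF (Set.mem_univ x))
  refine ⟨F.equivFin ⟨p, hp⟩, ?_⟩
  rw [Equiv.symm_apply_apply, CohFinite.homOf_val]
  exact hxp

include k in
theorem isRelVeryAmplePn_of_cl {A B : X.Modules} (h : PicF.cl A = PicF.cl B)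
    (hA : RelAmple.IsRelVeryAmplePn (X ↘ Spec (CommRingCat.of k)) A) :
    RelAmple.IsRelVeryAmplePn (X ↘ Spec (CommRingCat.of k)) B := by
  obtain ⟨n, i, h1, h2, ⟨e⟩⟩ := hA
  exact ⟨n, i, h1, h2, ⟨(iso_of_cl h).some.symm ≪≫ e⟩⟩

/-- One module is very ample together with all its numerically trivial twists. -/
theorem exists_veryAmple_flat {A₀ : X.Modules} (hA₀ : CohB1.IsAmple A₀) :
    ∃ A : X.Modules, PicF.IsInvertible A ∧ RelAmple.IsRelVeryAmplePn (X ↘ Spec (CommRingCat.of k)) A ∧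
      ∀ N : X.Modules, PicF.IsInvertible N → DegFlat k N →
        RelAmple.IsRelVeryAmplePn (X ↘ Spec (CommRingCat.of k)) (CohB1.tensorMod A N) := by
  haveI := CurveRR.isNoetherian_of_proper k X
  obtain ⟨n, d, i, hd, hi, hic, ⟨e⟩⟩ := AmpleEmb.exists_closedImmersion_projSpace (X ↘ Spec (CommRingCat.of k)) hA₀
  haveI := hic
  obtain ⟨m, hm⟩ := exists_generated_flat k i hi (isCoh_one k)
  obtain ⟨v, hv⟩ := Groth.Agent.S4386.result (X ↘ Spec (CommRingCat.of k)) A₀ (Coh.structureModule X) hA₀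
    TMul.isInvertible_structureModule
  have key : ∀ N : X.Modules, PicF.IsInvertible N → DegFlat k N →
      RelAmple.IsRelVeryAmplePn (X ↘ Spec (CommRingCat.of k))
        (CohB1.tensorMod (CohB1.tensorPow A₀ (v + d * m)) N) := fun N hN hf => by
    have hP := TMul.isInvertible_tensorMod (TMul.isInvertible_tensorPow hA₀.1 (d * m)) hN
    have hg : Curv2.IsGloballyGenerated (CohB1.tensorMod (CohB1.tensorPow A₀ (d * m)) N) :=
      isGloballyGenerated_of_cl (by
        rw [cl_twistOn, (PicGrp.cl_eq_cl_iff _ _).2 ⟨e⟩, cl_tensor, cl_tensor, cl_one, one_mul, cl_pow, cl_pow,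
          ← pow_mul, mul_comm]) (hm m le_rfl N hN hf)
    obtain ⟨c, s, hs⟩ := exists_generatedBy k hP hg
    refine isRelVeryAmplePn_of_cl k ?_ (Groth.Agent.S10965.result (X ↘ Spec (CommRingCat.of k)) _ _
      (TMul.isInvertible_tensorMod (TMul.isInvertible_tensorPow hA₀.1 v) TMul.isInvertible_structureModule)
      (hv v le_rfl) hP s hs)
    simp only [cl_tensor, cl_pow, cl_one, mul_one, pow_add, mul_assoc]
  refine ⟨_, TMul.isInvertible_tensorPow hA₀.1 (v + d * m),
    isRelVeryAmplePn_of_cl k ?_ (key _ TMul.isInvertible_structureModule (degFlat_one k)), key⟩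
  rw [cl_tensor, cl_one, mul_one]

end Groth.Agent.Nakai
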