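import Groth.Agent.Nakai.HodgeNef
import Groth.Agent.Nakai.CartierMul
import Groth.Agent.TMul.AmpleComp

/-!
Numerically positive divisors on surfaces are numerically connected.
-/

set_option autoImplicit false
set_option backward.isDefEq.respectTransparency false
set_option linter.style.haveILetI false
set_option linter.unusedSectionVars false

universe u

open CategoryTheory CategoryTheory.Limits AlgebraicGeometry TopologicalSpace
open Groth.Agent.Intersect
open Groth.Agent.CohFinite (tmap shortExact_tmap)

noncomputable section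

namespace Groth.Agent.Nakai

attribute [local instance] clMonoid

variable {X : Scheme.{u}} (k : Type u) [Field k] [X.Over (Spec (CommRingCat.of k))] [IsProper (X ↘ Spec (CommRingCat.of k))]
  [IsIntegral X] (hdim : topologicalKrullDim X = 2)

include hdim

/-- The index inequality without projectivity. -/
theorem self_nonpos_proper {L M : X.Modules} (hL : PicF.IsInvertible L) (hM : PicF.IsInvertible M)
    (hLL : 0 < inter k L L) (horth : inter k L M = 0) : inter k M M ≤ 0 := by
  obtain ⟨Y, f, hfp, hfs, hY, hYd, A, hA⟩ := exists_proj_cover k X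
  haveI := hfp
  haveI := hfs
  haveI := hY
  letI : Y.Over (Spec (CommRingCat.of k)) := ⟨f ≫ (X ↘ Spec (CommRingCat.of k))⟩
  haveI : IsProper (Y ↘ Spec (CommRingCat.of k)) := inferInstanceAs (IsProper (f ≫ _))
  have hYd2 : topologicalKrullDim Y = 2 := hYd.trans hdim
  obtain ⟨c, hc, hfc⟩ := exists_inter_pullback k hdim f rfl hYd2
  have h := self_nonpos_of_orth k hYd2 (PicLoc.isInvertible_pullback f hL) (PicLoc.isInvertible_pullback f hM) hA
    (by rw [hfc L L hL hL]; positivity) (by rw [hfc L M hL hM, horth, mul_zero])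
  rw [hfc M M hM hM] at h
  exact nonpos_of_mul_nonpos_right h hc

/-- A numerically trivial effective divisor is zero. -/
theorem isIso_of_orth {L H : X.Modules} (hL : PicF.IsInvertible L) (hH : PicF.IsInvertible H)
    (hHH : 0 < inter k H H) (hLH : inter k L H = 0) (hLL : 0 ≤ inter k L L)
    (s : Coh.structureModule X ⟶ L) [Mono s] : IsIso s := by
  rcases Intersect.coker_section_cases k hdim hL s with h | hd
  · exact h
  exfalso
  haveI := CurveRR.isNoetherian_of_proper k X
  obtain ⟨Y, f, hfp, hfs, hY, hYd, A, hA⟩ := exists_proj_cover k X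
  haveI := hfp
  haveI := hfs
  haveI := hY
  letI : Y.Over (Spec (CommRingCat.of k)) := ⟨f ≫ (X ↘ Spec (CommRingCat.of k))⟩
  haveI : IsProper (Y ↘ Spec (CommRingCat.of k)) := inferInstanceAs (IsProper (f ≫ _))
  haveI := CurveRR.isNoetherian_of_proper k Y
  have hYd2 : topologicalKrullDim Y = 2 := hYd.trans hdim
  let L' := (Scheme.Modules.pullback f).obj L
  have hL' : PicF.IsInvertible L' := PicLoc.isInvertible_pullback f hL
  obtain ⟨e⟩ := TMul.nonempty_powOneIso L
  obtain ⟨t, ht⟩ := TMul.exists_pullback_section f hL (s ≫ e.inv)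
  obtain ⟨e'⟩ := TMul.nonempty_powOneIso L'
  let σ := t ≫ e'.hom
  have hgen : CohB1.genLocus L' σ = f ⁻¹ᵁ CohB1.genLocus L s := by
    rw [TMul.genLocus_comp, ht, TMul.genLocus_comp]
  rw [support_coker_section hL s] at hd
  have hηY : genericPoint Y ∈ CohB1.genLocus L' σ := by
    rw [hgen]
    show f (genericPoint Y) ∈ CohB1.genLocus L s
    by_contra hn
    have hsub : (CohB1.genLocus L s : Set X)ᶜ = Set.univ := Set.eq_univ_of_forall fun x => by
      obtain ⟨y, rfl⟩ := f.surjective x
      exact ((genericPoint_specializes y).map f.continuous).mem_closed (CohB1.genLocus L s).isOpen.isClosed_compl hn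
    rw [hsub, (Homeomorph.Set.univ X).isHomeomorph.topologicalKrullDim_eq, hdim] at hd
    exact absurd (CartierDim.natCast_le_withBot.1
      (show ((2 : ℕ) : WithBot ℕ∞) ≤ ((1 : ℕ) : WithBot ℕ∞) from hd.le)) (by omega)
  have hσ : σ ≠ 0 := fun h0 => by rw [h0, TMul.genLocus_zero] at hηY; exact hηY
  haveI : Mono σ := CurveRR.mono_of_ne_zero TMul.isInvertible_structureModule hL' σ hσ
  rcases Intersect.coker_section_cases k hYd2 hL' σ with hiso | hd'
  · have he : (CohB1.genLocus L s : Set X)ᶜ = ∅ := by
      refine Set.eq_empty_of_forall_notMem fun x hx => ?_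
      obtain ⟨y, rfl⟩ := f.surjective x
      have h1 : y ∈ CohB1.support (cokernel σ) := by
        rw [support_coker_section hL' σ, hgen]
        exact hx
      rw [Devissage.support_of_isZero (isZero_cokernel_of_epi σ)] at h1
      exact h1
    rw [he] at hd
    haveI : IsEmpty (IrreducibleCloseds (∅ : Set X)) := ⟨fun c => c.isIrreducible.nonempty.elim fun x _ => x.2⟩
    rw [show topologicalKrullDim (∅ : Set X) = ⊥ from Order.krullDim_eq_bot] at hd
    exact (WithBot.bot_ne_coe hd)
  · obtain ⟨q, hq, hA0, hB, τ, hτ⟩ := exists_effective_ample k hYd2 hA (TMul.isInvertible_structureModule (X := Y))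
    haveI : Mono τ := CurveRR.mono_of_ne_zero TMul.isInvertible_structureModule hB.1 τ hτ
    have h1 := alt_pos k 1 _ (fun _ => hB) _ (isCoh_coker k hL' σ) hd'
    rw [← D_replicate, List.replicate_one, pow_one] at h1
    have hP : Coh.IsCoh ((Scheme.Modules.pushforward f).obj (cokernel τ)) :=
      isCoh_push' f (isCoh_coker k hB.1 τ)
    have hcl := Groth.Agent.QC.isClosed_support (isCoh_coker k hB.1 τ).2
    have hP1 : topologicalKrullDim (CohB1.support ((Scheme.Modules.pushforward f).obj (cokernel τ))) ≤
        ((1 : ℕ) : WithBot ℕ∞) :=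
      (dim_mono (support_push_subset f (f.isClosedMap _ hcl) le_rfl)).trans
        ((dim_image_le f hcl).trans (dim_coker_le k hYd2 hB.1 τ))
    have h2 := alt_push k f rfl 1 (fun _ => L) (fun _ => hL) _ (isCoh_coker k hB.1 τ) (dim_coker_le k hYd2 hB.1 τ)
    rw [← D_replicate, ← D_replicate, List.replicate_one, List.replicate_one,
      deg_eq_zero_of_orth k hdim hH hL hHH hLH hLL hP hP1] at h2
    have h3 := alt_coker_section k hL' σ (M := fun _ : Fin 1 => CohB1.tensorPow A q) (fun _ => hB.1)
    have h4 := alt_coker_section k hB.1 τ (M := fun _ : Fin 1 => L') (fun _ => hL')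
    have h5 : inter k L' (CohB1.tensorPow A q) =
        alt (χt k (Coh.structureModule Y) (Fin.cons L' fun _ : Fin 1 => CohB1.tensorPow A q)) := by
      rw [inter, ← D_ofFn]; rfl
    have h6 : inter k (CohB1.tensorPow A q) L' =
        alt (χt k (Coh.structureModule Y) (Fin.cons (CohB1.tensorPow A q) fun _ : Fin 1 => L')) := by
      rw [inter, ← D_ofFn]; rfl
    rw [← D_replicate, List.replicate_one] at h3 h4
    rw [h3, inter_comm, h6, h4, h2] at h5
    linarith

/-- Two effective divisors whose sum is numerically positive meet positively. -/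
theorem inter_pos_of_sum {A B : X.Modules} (hA : PicF.IsInvertible A) (hB : PicF.IsInvertible B)
    (a : Coh.structureModule X ⟶ A) [Mono a] (b : Coh.structureModule X ⟶ B) [Mono b]
    (ha : ¬ IsIso a) (hb : ¬ IsIso b) (hn : Nef k (CohB1.tensorMod A B))
    (hpos : 0 < inter k (CohB1.tensorMod A B) (CohB1.tensorMod A B)) : 0 < inter k A B := by
  have hd := hdim.le
  have hAB := TMul.isInvertible_tensorMod hA hB
  have key : ∀ {P : X.Modules}, PicF.IsInvertible P → ∀ (p : Coh.structureModule X ⟶ P) [Mono p],
      0 ≤ inter k P (CohB1.tensorMod A B) := fun {P} hP p _ => by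
    have h1 := hn _ (isCoh_coker k hP p) (dim_coker_le k hdim hP p)
    have h2 := alt_coker_section k hP p (M := fun _ : Fin 1 => CohB1.tensorMod A B) (fun _ => hAB)
    have h3 : inter k P (CohB1.tensorMod A B) =
        alt (χt k (Coh.structureModule X) (Fin.cons P fun _ : Fin 1 => CohB1.tensorMod A B)) := by
      rw [inter, ← D_ofFn]; rfl
    rw [h2, ← D_replicate, List.replicate_one, D_one] at h3
    have h4 : (Curv2.euler k X (cokernel p) : ℚ) ≤ Curv2.euler k X (CohB1.tensorMod (cokernel p) (CohB1.tensorMod A B)) := by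
      exact_mod_cast h1
    linarith
  have hx := key hA a
  have hy := key hB b
  rw [inter_tensor_right k hd hA hB hA] at hx
  rw [inter_tensor_right k hd hA hB hB, inter_comm k B A] at hy
  rw [inter_tensor k hd hA hB hAB, inter_tensor_right k hd hA hB hA, inter_tensor_right k hd hA hB hB,
    inter_comm k B A] at hpos
  by_contra hc
  push Not at hc
  obtain ⟨za, hza⟩ := exists_int_inter k A (CohB1.tensorMod A B)
  obtain ⟨zb, hzb⟩ := exists_int_inter k B (CohB1.tensorMod A B)
  obtain ⟨P, hP, hPC⟩ := exists_signed k hd hA zb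
  obtain ⟨R, hR, hRC⟩ := exists_signed k hd hB (-za)
  have hPR := TMul.isInvertible_tensorMod hP hR
  have hH : 0 < inter k (CohB1.tensorMod A B) (CohB1.tensorMod A B) := by
    rw [inter_tensor k hd hA hB hAB, inter_tensor_right k hd hA hB hA, inter_tensor_right k hd hA hB hB,
      inter_comm k B A]
    exact hpos
  have hT := self_nonpos_proper k hdim hAB hPR hH (by
    rw [inter_comm, inter_tensor k hd hP hR hAB, hPC _ hAB, hRC _ hAB, hza, hzb]
    push_cast
    ring)
  have e1 : inter k P (CohB1.tensorMod P R) = (zb : ℚ) * ((zb : ℚ) * inter k A A - za * inter k A B) := by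
    rw [hPC _ hPR, inter_tensor_right k hd hP hR hA, inter_comm k A P, inter_comm k A R, hPC A hA, hRC A hA,
      inter_comm k B A]
    push_cast; ring
  have e2 : inter k R (CohB1.tensorMod P R) = -(za : ℚ) * ((zb : ℚ) * inter k A B - za * inter k B B) := by
    rw [hRC _ hPR, inter_tensor_right k hd hP hR hB, inter_comm k B P, inter_comm k B R, hPC B hB, hRC B hB]
    push_cast; ring
  rw [inter_tensor k hd hP hR hPR, e1, e2] at hT
  rw [inter_tensor_right k hd hA hB hA] at hza
  rw [inter_tensor_right k hd hA hB hB, inter_comm k B A] at hzb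
  rw [← hza, ← hzb] at hT
  set x := inter k A A
  set y := inter k B B
  set c := inter k A B
  have hprod : x * y ≤ c * c := by
    have e : (c + y) * ((c + y) * x - (x + c) * c) + -(x + c) * ((c + y) * c - (x + c) * y) =
        (x * y - c * c) * (x + c + (c + y)) := by ring
    have h' : (x * y - c * c) * (x + c + (c + y)) ≤ 0 := by linarith
    by_contra h''
    push Not at h''
    have := mul_pos (sub_pos.2 h'') hpos
    linarith
  have hc0 : c = 0 := by
    by_contra hne
    have hc' : c < 0 := lt_of_le_of_ne hc hne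
    nlinarith
  have hABpos : x * y ≤ 0 := by rw [hc0] at hprod; simpa using hprod
  rcases mul_nonpos_iff.1 hABpos with ⟨-, h0⟩ | ⟨h0, -⟩
  · have hy0 : y = 0 := le_antisymm h0 (by linarith)
    exact hb (isIso_of_orth k hdim hB hAB hH (by
      rw [inter_tensor_right k hd hA hB hB, inter_comm k B A]; linarith) (by linarith) b)
  · have hx0 : x = 0 := le_antisymm h0 (by linarith)
    exact ha (isIso_of_orth k hdim hA hAB hH (by
      rw [inter_tensor_right k hd hA hB hA]; linarith) (by linarith) a)

end Groth.Agent.Nakai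

namespace Groth.Agent.Nakai

variable {X : Scheme.{u}}

/-- The section of the inverse of the ideal module. -/
theorem exists_divisor_section [IsIntegral X] {D : X.IdealSheafData} (hD : BlowUp.IsEffCartierIdeal D) (hne : D ≠ ⊤) :
    ∃ (L : X.Modules) (s : Coh.structureModule X ⟶ L), PicF.IsInvertible L ∧ Mono s ∧ ¬ IsIso s ∧
      Nonempty (CohB1.tensorMod (ClSub.idealMod D) L ≅ Coh.structureModule X) := by
  obtain ⟨L, hL, ⟨e⟩⟩ := W7Hull.exists_tensor_inverse ((Groth.Agent.S8914.result D).2 hD)
  have hS := shortExact_tmap hL (CurveRR.ideal_shortExact D)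
  haveI : Mono (tmap (ClSub.idealModι D) L) := hS.mono_f
  let s : Coh.structureModule X ⟶ L := e.inv ≫ tmap (ClSub.idealModι D) L ≫ (TMul.leftUnitIso L).hom
  refine ⟨L, s, hL, inferInstance, fun hs => hne ?_, ⟨e⟩⟩
  haveI : IsIso (tmap (ClSub.idealModι D) L ≫ (TMul.leftUnitIso L).hom) := IsIso.of_isIso_comp_left e.inv _
  haveI : IsIso (tmap (ClSub.idealModι D) L) := IsIso.of_isIso_comp_right _ (TMul.leftUnitIso L).hom
  have h0 : IsZero (CohB1.tensorMod (ClSub.quotMod D) L) := by
    haveI := hS.epi_g
    have hz : tmap (ClSub.idealModι D) L ≫ tmap (ClSub.toSubscheme D) L = 0 := by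
      rw [← Groth.Agent.CohFinite.tmap_comp, ClSub.idealModι, kernel.condition, Groth.Agent.CohFinite.tmap_zero]
    have h1 : tmap (ClSub.toSubscheme D) L = 0 := by
      rw [← cancel_epi (tmap (ClSub.idealModι D) L), hz, comp_zero]
    exact (IsZero.iff_id_eq_zero _).2 (by
      rw [← cancel_epi (tmap (ClSub.toSubscheme D) L), h1, zero_comp, zero_comp])
  have h2 : IsZero (CohB1.tensorMod (CohB1.tensorMod (ClSub.quotMod D) L) (ClSub.idealMod D)) :=
    (IsZero.iff_id_eq_zero _).2 (by
      rw [← Groth.Agent.CohFinite.tmap_id, h0.eq_of_src (𝟙 _) 0, Groth.Agent.CohFinite.tmap_zero])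
  have h3 : IsZero (ClSub.quotMod D) := h2.of_iso
    ((TMul.leftUnitIso (ClSub.quotMod D)).symm ≪≫ TMul.commIso _ _ ≪≫
      PicGrp.tensorModIso (Iso.refl _) (e.symm ≪≫ TMul.commIso _ _) ≪≫ (TMul.assocIso _ _ _).symm)
  rw [← Scheme.IdealSheafData.support_eq_bot_iff]
  refine Closeds.ext (Set.eq_empty_of_forall_notMem fun x hx => ?_)
  have h4 := Intersect.subset_support_quotMod D hx
  rw [Devissage.support_of_isZero h3] at h4
  exact h4

end Groth.Agent.Nakai
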