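import Groth.Agent.Nakai.SurfSeq
import Groth.Agent.S2329

/-!
Bigness of invertible modules of positive square on integral proper surfaces.
-/

set_option autoImplicit false
set_option backward.isDefEq.respectTransparency false
set_option linter.style.haveILetI false
set_option linter.unusedSectionVars false

universe u

open CategoryTheory CategoryTheory.Limits AlgebraicGeometry TopologicalSpace
open Groth.Agent.Intersect

noncomputable section

namespace Groth.Agent.Nakai

attribute [local instance] clMonoid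

variable {X : Scheme.{u}} (k : Type u) [Field k] [X.Over (Spec (CommRingCat.of k))] [IsProper (X ↘ Spec (CommRingCat.of k))]

theorem euler_growth (hdim : topologicalKrullDim X ≤ ((2 : ℕ) : WithBot ℕ∞)) {L : X.Modules}
    (hL : PicF.IsInvertible L) : ∃ C : ℚ, 0 ≤ C ∧ ∀ n : ℕ,
      inter k L L / 2 * (n : ℚ) ^ 2 - C * ((n : ℚ) + 1) ≤ Curv2.euler k X (CohB1.tensorPow L n) := by
  obtain ⟨M, hM, ⟨e⟩⟩ := W7Hull.exists_tensor_inverse hL
  obtain ⟨C, hC, hb⟩ := binSum_sub_top k M (Coh.structureModule X) 2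
  have hd : topologicalKrullDim (CohB1.support (Coh.structureModule X)) ≤ ((2 : ℕ) : WithBot ℕ∞) :=
    (dim_support_structure (X := X)).trans_le hdim
  have hi := alt_inverse k 2 (fun _ => L) (fun _ => M) (fun _ => hL) (fun _ => hM) (fun _ => ⟨e⟩)
    _ (isCoh_one k) hd
  refine ⟨C, hC, fun n => ?_⟩
  have h1 := (abs_le.1 (hb n)).1
  rw [← euler_pow_eq_binSum k hL hM e 2 n _ (isCoh_one k) (lt_succ_of_le' hd), hi,
    euler_congr k (show PicF.cl (CohB1.tensorMod (CohB1.tensorPow L n) (Coh.structureModule X)) =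
      PicF.cl (CohB1.tensorPow L n) by rw [cl_tensor, cl_one, mul_one]), ← D_replicate] at h1
  norm_num at h1
  change _ ≤ _ at h1
  rw [show D k (List.replicate 2 L) (Coh.structureModule X) = inter k L L from rfl] at h1
  linarith

variable [IsIntegral X] (hdim : topologicalKrullDim X = 2)

include hdim

/-- A power minus an ample class effective kills `h²` of high powers. -/
theorem eventually_euler_le_h0 {L B B' : X.Modules} (hL : PicF.IsInvertible L) (hB : CohB1.IsAmple B)
    (hBB' : Nonempty (CohB1.tensorMod B B' ≅ Coh.structureModule X)) {m : ℕ} (hm : 0 < m)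
    (hG : 0 < CurveRR.h k (CohB1.tensorMod (CohB1.tensorPow L m) B') 0) :
    ∃ n₀ : ℕ, ∀ n, n₀ ≤ n → Curv2.euler k X (CohB1.tensorPow L n) ≤ CurveRR.h k (CohB1.tensorPow L n) 0 := by
  classical
  have hP := TMul.isInvertible_tensorMod (TMul.isInvertible_tensorPow hL m)
    (Intersect.isInvertible_inverse hB.1 hBB')
  obtain ⟨s, hs⟩ := exists_section_of_h0 k hG
  haveI : Mono s := CurveRR.mono_of_ne_zero TMul.isInvertible_structureModule hP s hs
  choose j₀ hj₀ using fun r : ℕ => CohFinite.vanish_ample (X ↘ Spec (CommRingCat.of k)) hB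
    (isCoh_inv k (TMul.isInvertible_tensorPow hL r))
  refine ⟨((Finset.range m).sup j₀ + 1) * m, fun n hn => euler_le_h0 k hdim.le ?_⟩
  have hr : n % m ∈ Finset.range m := Finset.mem_range.mpr (Nat.mod_lt _ hm)
  have hle : j₀ (n % m) ≤ n / m :=
    (Finset.le_sup (f := j₀) hr).trans ((Nat.le_succ _).trans ((Nat.le_div_iff_mul_le hm).mpr hn))
  haveI := subsingleton_h2_pow k hdim hP
    (TMul.isInvertible_tensorMod (TMul.isInvertible_tensorPow hL _) (TMul.isInvertible_tensorPow hB.1 _)) s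
    (hj₀ (n % m) (n / m) hle 1) (n / m)
  obtain ⟨e⟩ := iso_of_cl (show PicF.cl (CohB1.tensorPow L n) = PicF.cl (CohB1.tensorMod
      (CohB1.tensorPow (CohB1.tensorMod (CohB1.tensorPow L m) B') (n / m))
      (CohB1.tensorMod (CohB1.tensorPow L (n % m)) (CohB1.tensorPow B (n / m)))) by
    simp only [cl_tensor, cl_pow, mul_pow, ← pow_mul]
    rw [mul_mul_mul_comm, ← pow_add, ← mul_pow, mul_comm (PicF.cl B') (PicF.cl B), cl_inv hBB', one_pow, mul_one,
      Nat.div_add_mod n m])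
  exact (CohFinite.hhEquiv k e 2).toEquiv.subsingleton

theorem h0_growth {L B B' : X.Modules} (hL : PicF.IsInvertible L) (hB : CohB1.IsAmple B)
    (hBB' : Nonempty (CohB1.tensorMod B B' ≅ Coh.structureModule X)) {m : ℕ} (hm : 0 < m)
    (hG : 0 < CurveRR.h k (CohB1.tensorMod (CohB1.tensorPow L m) B') 0) :
    ∃ C : ℚ, 0 ≤ C ∧ ∃ n₀ : ℕ, ∀ n, n₀ ≤ n →
      inter k L L / 2 * (n : ℚ) ^ 2 - C * ((n : ℚ) + 1) ≤ CurveRR.h k (CohB1.tensorPow L n) 0 := by
  obtain ⟨C, hC, h⟩ := euler_growth k hdim.le hL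
  obtain ⟨n₀, hn⟩ := eventually_euler_le_h0 k hdim hL hB hBB' hm hG
  exact ⟨C, hC, n₀, fun n hn' => (h n).trans (by exact_mod_cast hn n hn')⟩

/-- One step down by an effective ample class. -/
theorem good_step {L A B B' : X.Modules} (hL : PicF.IsInvertible L) (hB : CohB1.IsAmple B)
    (hBB' : Nonempty (CohB1.tensorMod B B' ≅ Coh.structureModule X))
    (s : Coh.structureModule X ⟶ B) [Mono s] {c b : ℚ} (hc : 0 ≤ c) (hb : 0 ≤ b)
    (hbd : ∀ n w : ℕ,
      (CurveRR.h k (CohB1.tensorMod (cokernel s) (CohB1.tensorMod (CohB1.tensorPow A n) (CohB1.tensorPow B' w))) 0 : ℚ) ≤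
        c * n + b)
    {p i : ℕ} (hcl : PicF.cl L = PicF.cl A ^ p * PicF.cl B' ^ i) {ε : ℚ} (hε : 0 < ε)
    (hLL : ε ≤ inter k L L / 2 - c * p) {m : ℕ} (hm : 0 < m)
    (hG : 0 < CurveRR.h k (CohB1.tensorMod (CohB1.tensorPow L m) B') 0) :
    ∃ n : ℕ, 0 < n ∧ 0 < CurveRR.h k (CohB1.tensorMod (CohB1.tensorPow (CohB1.tensorMod L B') n) B') 0 := by
  have hB' := Intersect.isInvertible_inverse hB.1 hBB'
  obtain ⟨C, hC, n₀, hgr⟩ := h0_growth k hdim hL hB hBB' hm hG
  obtain ⟨n, hn⟩ := exists_nat_gt ((2 * C + 2 * b + c * p) / ε + n₀ + 1)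
  have hpos : 0 ≤ (2 * C + 2 * b + c * p) / ε := div_nonneg (by positivity) hε.le
  have hn1 : (1 : ℚ) ≤ n := by linarith [(Nat.cast_nonneg n₀ : (0 : ℚ) ≤ n₀)]
  have hn0 : n₀ ≤ n := by
    have : (n₀ : ℚ) ≤ n := by linarith
    exact_mod_cast this
  refine ⟨n, by exact_mod_cast (lt_of_lt_of_le one_pos hn1), ?_⟩
  have hK : ∀ w : ℕ, (CurveRR.h k (CohB1.tensorMod (cokernel s) (CohB1.tensorMod (CohB1.tensorPow L n)
      (CohB1.tensorPow B' w))) 0 : ℚ) ≤ c * p * n + b := fun w => by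
    rw [h_congr k (show PicF.cl (CohB1.tensorMod (cokernel s) (CohB1.tensorMod (CohB1.tensorPow L n)
        (CohB1.tensorPow B' w))) = PicF.cl (CohB1.tensorMod (cokernel s) (CohB1.tensorMod
          (CohB1.tensorPow A (p * n)) (CohB1.tensorPow B' (i * n + w)))) by
      simp only [cl_tensor, cl_pow, hcl, mul_pow, ← pow_mul, pow_add, mul_assoc]) 0]
    refine (hbd _ _).trans (le_of_eq ?_)
    push_cast
    ring
  have h1 := h0_le_iter k hB.1 hBB' s (TMul.isInvertible_tensorPow hL n) _ hK (n + 1)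
  rw [h_congr k (show PicF.cl (CohB1.tensorMod (CohB1.tensorPow L n) (CohB1.tensorPow B' (n + 1))) =
      PicF.cl (CohB1.tensorMod (CohB1.tensorPow (CohB1.tensorMod L B') n) B') by
    simp only [cl_tensor, cl_pow, mul_pow, pow_succ, mul_assoc]) 0] at h1
  by_contra h0
  rw [Nat.eq_zero_of_not_pos h0] at h1
  have h2 := hgr n hn0
  have h3 : 2 * C + 2 * b + c * p < ε * n := by
    have : (2 * C + 2 * b + c * p) / ε < n := by linarith [(Nat.cast_nonneg n₀ : (0 : ℚ) ≤ n₀)]
    have := (div_lt_iff₀ hε).1 this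
    linarith
  push_cast at h1
  have h4 : (n : ℚ) * (2 * C + 2 * b + c * p) < ε * n * n := by
    nlinarith
  have h5 : ε * n * n ≤ (inter k L L / 2 - c * p) * (n * n) := by
    rw [mul_assoc]
    exact mul_le_mul_of_nonneg_right hLL (by positivity)
  nlinarith [mul_nonneg hC (sub_nonneg.2 hn1), mul_nonneg hb (sub_nonneg.2 hn1)]

/-- The base of the induction. -/
theorem good_ample {A B B' : X.Modules} (hA : CohB1.IsAmple A) (hB : CohB1.IsAmple B)
    (hBB' : Nonempty (CohB1.tensorMod B B' ≅ Coh.structureModule X))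
    (s : Coh.structureModule X ⟶ B) [Mono s] :
    ∃ m : ℕ, 0 < m ∧ 0 < CurveRR.h k (CohB1.tensorMod (CohB1.tensorPow A m) B') 0 := by
  haveI := CurveRR.isNoetherian_of_proper k X
  haveI : X.IsSeparated := ⟨by
    rw [show terminal.from X = (X ↘ Spec (CommRingCat.of k)) ≫ terminal.from _ from terminal.hom_ext _ _]
    infer_instance⟩
  have hB' := Intersect.isInvertible_inverse hB.1 hBB'
  obtain ⟨n₀, hn₀, h⟩ := Groth.Agent.S2329.result X A B' hA hB'
  obtain ⟨d, t, ht, -⟩ := (h n₀ le_rfl).1.2.2 (genericPoint X)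
  have htne : t ≠ 0 := fun h => by rw [h, TMul.genLocus_zero] at ht; exact ht
  have h1 := h0_pos_of_section k (isCoh_inv k (TMul.isInvertible_tensorPow (h n₀ le_rfl).1.1 (d + 1))) htne
  refine ⟨n₀ * (d + 1), by positivity, lt_of_lt_of_le h1 ?_⟩
  have hmono : ∀ t : ℕ, CurveRR.h k (CohB1.tensorMod (CohB1.tensorPow A (n₀ * (d + 1))) (CohB1.tensorPow B' (t + 1))) 0 ≤
      CurveRR.h k (CohB1.tensorMod (CohB1.tensorPow A (n₀ * (d + 1))) B') 0 := fun t => by
    induction t with
    | zero =>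
      exact le_of_eq (h_congr k (by simp only [cl_tensor, cl_pow, Nat.zero_add, pow_one]) 0)
    | succ t ih => exact (h0_twist_antitone k hB.1 hBB' s (TMul.isInvertible_tensorPow hA.1 _) (t + 1)).trans ih
  refine le_trans (le_of_eq (h_congr k ?_ 0)) (hmono d)
  simp only [cl_tensor, cl_pow, mul_pow, pow_mul]

include k in
theorem exists_effective_ample {H N : X.Modules} (hH : CohB1.IsAmple H) (hN : PicF.IsInvertible N) :
    ∃ e : ℕ, 0 < e ∧ CohB1.IsAmple (CohB1.tensorMod (CohB1.tensorPow H e) N) ∧ CohB1.IsAmple (CohB1.tensorPow H e) ∧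
      ∃ s : Coh.structureModule X ⟶ CohB1.tensorPow H e, s ≠ 0 := by
  haveI := CurveRR.isNoetherian_of_proper k X
  haveI : X.IsSeparated := ⟨by
    rw [show terminal.from X = (X ↘ Spec (CommRingCat.of k)) ≫ terminal.from _ from terminal.hom_ext _ _]
    infer_instance⟩
  obtain ⟨n₁, -, h₁⟩ := Groth.Agent.S2329.result X H N hH hN
  obtain ⟨n₂, -, h₂⟩ := Groth.Agent.S2329.result X H (Coh.structureModule X) hH TMul.isInvertible_structureModule
  obtain ⟨a, t, ht, -⟩ := hH.2.2 (genericPoint X)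
  obtain ⟨N₀, hN₀⟩ : ∃ N₀, N₀ + 1 = (a + 1) * (max n₁ n₂ + 1) := ⟨a * max n₁ n₂ + a + max n₁ n₂, by ring⟩
  obtain ⟨t', ht'⟩ := TMul.exists_genLocus_pow hH.1 (N := N₀) ⟨max n₁ n₂ + 1, hN₀⟩ t
  have hle : max n₁ n₂ ≤ N₀ + 1 := by
    rw [hN₀]
    exact (Nat.le_succ _).trans (Nat.le_mul_of_pos_left _ (Nat.succ_pos a))
  refine ⟨N₀ + 1, Nat.succ_pos _, (h₁ _ ((le_max_left _ _).trans hle)).1,
    TMul.isAmple_congr (TMul.commIso _ _ ≪≫ TMul.leftUnitIso _) (h₂ _ ((le_max_right _ _).trans hle)).1, t', fun h => ?_⟩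
  rw [h, TMul.genLocus_zero] at ht'
  exact (ht'.ge ht : _)

/-- Positive square and positive degree give quadratic growth of sections. -/
theorem eventually_growth {N H : X.Modules} (hN : PicF.IsInvertible N) (hH : CohB1.IsAmple H)
    (hNN : 0 < inter k N N) (hNH : 0 < inter k N H) :
    ∃ C : ℚ, 0 ≤ C ∧ ∃ n₀ : ℕ, ∀ n, n₀ ≤ n →
      inter k N N / 2 * (n : ℚ) ^ 2 - C * ((n : ℚ) + 1) ≤ CurveRR.h k (CohB1.tensorPow N n) 0 := by
  obtain ⟨e, he, hA0, hB, s, hs⟩ := exists_effective_ample k hdim hH hN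
  let B := CohB1.tensorPow H e
  let A := CohB1.tensorMod (CohB1.tensorPow H e) N
  haveI : Mono s := CurveRR.mono_of_ne_zero TMul.isInvertible_structureModule hB.1 s hs
  obtain ⟨B', hB', hBB'⟩ := W7Hull.exists_tensor_inverse hB.1
  obtain ⟨c, b, hc, hb, hbd⟩ := exists_uniform_bound k (isCoh_coker k hB.1 s) (dim_coker_le k hdim hB.1 s)
    hA0 hB hBB'
  obtain ⟨p, hp⟩ := exists_nat_gt (4 * c / inter k N N + 1)
  have hp1 : (1 : ℚ) ≤ p := by linarith [div_nonneg (mul_nonneg (by norm_num : (0 : ℚ) ≤ 4) hc) hNN.le]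
  have hpN : 4 * c < p * inter k N N := by
    rw [← div_lt_iff₀ hNN]
    linarith
  let L : ℕ → X.Modules := fun i => CohB1.tensorMod (CohB1.tensorPow A p) (CohB1.tensorPow B' i)
  have hL : ∀ i, PicF.IsInvertible (L i) := fun i =>
    TMul.isInvertible_tensorMod (TMul.isInvertible_tensorPow hA0.1 p) (TMul.isInvertible_tensorPow hB' i)
  have hd := hdim.le
  have hBi := hB.1
  have hB0 : 0 < inter k B B := inter_self_pos k hdim.le hB hdim
  have hNB : 0 < inter k N B := by
    rw [inter_pow_right k hd hH.1 hN]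
    exact mul_pos (by exact_mod_cast he) hNH
  have hcalc : ∀ i, inter k (L i) (L i) = (p : ℚ) ^ 2 * inter k N N + 2 * p * ((p : ℚ) - i) * inter k N B +
      ((p : ℚ) - i) ^ 2 * inter k B B := fun i => by
    have hX : ∀ {C : X.Modules}, PicF.IsInvertible C →
        inter k (L i) C = (p : ℚ) * inter k N C + ((p : ℚ) - i) * inter k B C := fun {C} hC => by
      rw [inter_tensor k hd (TMul.isInvertible_tensorPow hA0.1 p) (TMul.isInvertible_tensorPow hB' i) hC,
        inter_pow k hd hA0.1 hC, inter_pow k hd hB' hC, inter_tensor k hd hBi hN hC,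
        inter_inv k hd hBi hBB' hC]
      ring
    rw [hX (hL i), inter_comm k N, inter_comm k B, hX hN, hX hBi, inter_comm k B N]
    ring
  have hgood : ∀ i, i ≤ p → ∃ m : ℕ, 0 < m ∧ 0 < CurveRR.h k (CohB1.tensorMod (CohB1.tensorPow (L i) m) B') 0 := by
    intro i
    induction i with
    | zero =>
      intro _
      obtain ⟨m, hm, h⟩ := good_ample k hdim hA0 hB hBB' s
      obtain ⟨q, rfl⟩ : ∃ q, p = q + 1 := ⟨p - 1, by
        have : 1 ≤ p := by exact_mod_cast hp1
        omega⟩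
      refine ⟨m, hm, lt_of_lt_of_le h ?_⟩
      have hmono : ∀ t : ℕ, CurveRR.h k (CohB1.tensorMod (CohB1.tensorPow A m) B') 0 ≤
          CurveRR.h k (CohB1.tensorMod (CohB1.tensorPow A (m * (t + 1))) B') 0 := fun t => by
        obtain ⟨σ, hσ⟩ := exists_section_of_h0 k h
        have hP := TMul.isInvertible_tensorMod (TMul.isInvertible_tensorPow hA0.1 m) hB'
        have hAmB : 0 < CurveRR.h k (CohB1.tensorPow A m) 0 := by
          haveI : Mono σ := CurveRR.mono_of_ne_zero TMul.isInvertible_structureModule hP σ hσ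
          refine lt_of_lt_of_le (h0_pos_of_section k (isCoh_inv k hBi) hs)
            (((seq_facts k hP hBi σ).1).trans_eq (h_congr k ?_ 0))
          rw [cl_tensor, cl_tensor, mul_assoc, mul_comm (PicF.cl B'), cl_inv hBB', mul_one]
        obtain ⟨π, hπ⟩ := exists_section_of_h0 k hAmB
        haveI : Mono π := CurveRR.mono_of_ne_zero TMul.isInvertible_structureModule
          (TMul.isInvertible_tensorPow hA0.1 m) π hπ
        induction t with
        | zero => exact le_of_eq (h_congr k (by simp only [Nat.zero_add, mul_one]) 0)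
        | succ t ih =>
          refine ih.trans (((seq_facts k (TMul.isInvertible_tensorPow hA0.1 m)
            (TMul.isInvertible_tensorMod (TMul.isInvertible_tensorPow hA0.1 _) hB') π).1).trans_eq (h_congr k ?_ 0))
          rw [cl_tensor, cl_tensor, cl_tensor, cl_pow, cl_pow, cl_pow, ← mul_assoc, ← pow_add]
          congr 2
          ring
      refine (hmono q).trans_eq (h_congr k ?_ 0)
      simp only [L, cl_tensor, cl_pow, pow_zero, mul_one, ← pow_mul]
      rw [mul_comm m]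
    | succ i ih =>
      intro hi
      obtain ⟨m, hm, h⟩ := ih (by omega)
      have hi' : (i : ℚ) + 1 ≤ p := by exact_mod_cast hi
      have hpi : (0 : ℚ) ≤ (p : ℚ) - i := by linarith
      obtain ⟨n, hn, hn'⟩ := good_step k hdim (hL i) hB hBB' s hc hb hbd
        (show PicF.cl (L i) = PicF.cl A ^ p * PicF.cl B' ^ i by simp only [L, cl_tensor, cl_pow])
        (ε := (p : ℚ) * (p * inter k N N / 2 - c)) (mul_pos (by linarith) (by linarith)) (by
          rw [hcalc i]
          nlinarith [mul_nonneg (mul_nonneg (by linarith : (0 : ℚ) ≤ 2 * p) hpi) hNB.le,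
            mul_nonneg (sq_nonneg ((p : ℚ) - i)) hB0.le, mul_lt_mul_of_pos_left hpN (by linarith : (0 : ℚ) < p)])
        hm h
      refine ⟨n, hn, lt_of_lt_of_le hn' (le_of_eq (h_congr k ?_ 0))⟩
      simp only [L, cl_tensor, cl_pow, pow_succ, mul_assoc]
  obtain ⟨m, hm, h⟩ := hgood p le_rfl
  have hNp : 0 < CurveRR.h k (CohB1.tensorMod (CohB1.tensorPow N (p * m)) B') 0 := by
    refine lt_of_lt_of_le h (le_of_eq (h_congr k ?_ 0))
    simp only [L, A, cl_tensor, cl_pow]
    rw [← mul_pow, mul_right_comm, show PicF.cl H ^ e * PicF.cl B' = 1 by rw [← cl_pow]; exact cl_inv hBB',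
      one_mul, ← pow_mul]
  have hpm : 0 < p * m := Nat.mul_pos (by exact_mod_cast (lt_of_lt_of_le one_pos hp1)) hm
  exact h0_growth k hdim hN hB hBB' hpm hNp

theorem eventually_quadratic {N H : X.Modules} (hN : PicF.IsInvertible N) (hH : CohB1.IsAmple H)
    (hNN : 0 < inter k N N) (hNH : 0 < inter k N H) :
    ∃ n₀ : ℕ, ∀ n, n₀ ≤ n → inter k N N / 8 * (n : ℚ) ^ 2 < CurveRR.h k (CohB1.tensorPow N n) 0 := by
  obtain ⟨C, hC, n₀, hgr⟩ := eventually_growth k hdim hN hH hNN hNH
  obtain ⟨n₁, hn₁⟩ := exists_nat_gt (8 * C / inter k N N)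
  refine ⟨max (max n₀ n₁) 1, fun n hn => ?_⟩
  have h2 := hgr n (by omega)
  have h3 : 8 * C < n * inter k N N := by
    rw [← div_lt_iff₀ hNN]
    refine lt_of_lt_of_le hn₁ ?_
    exact_mod_cast (show n₁ ≤ n by omega)
  have h4 : (1 : ℚ) ≤ n := by exact_mod_cast (show 1 ≤ n by omega)
  nlinarith

/-- Positive square and positive degree give sections of all high powers. -/
theorem eventually_sections {N H : X.Modules} (hN : PicF.IsInvertible N) (hH : CohB1.IsAmple H)
    (hNN : 0 < inter k N N) (hNH : 0 < inter k N H) :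
    ∃ n₀ : ℕ, ∀ n, n₀ ≤ n → 0 < CurveRR.h k (CohB1.tensorPow N n) 0 := by
  obtain ⟨n₀, h⟩ := eventually_quadratic k hdim hN hH hNN hNH
  refine ⟨n₀, fun n hn => ?_⟩
  have h1 : (0 : ℚ) ≤ inter k N N / 8 * (n : ℚ) ^ 2 := by positivity
  exact_mod_cast lt_of_le_of_lt h1 (h n hn)

end Groth.Agent.Nakai
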