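import Groth.Agent.Nakai.RealCone
import Groth.Agent.Nakai.SurfBig

/-!
Big classes, finiteness of curves of negative degree, and the ample cone by inequalities.
-/

set_option autoImplicit false
set_option backward.isDefEq.respectTransparency false
set_option linter.style.haveILetI false
set_option linter.unusedSectionVars false

universe u

open CategoryTheory CategoryTheory.Limits AlgebraicGeometry TopologicalSpace
open Groth.Agent.Intersect
open scoped Topology

noncomputable section

namespace Groth.Agent.Nakai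

variable {X : Scheme.{u}}

theorem closure_genericPoint_subscheme (Γc : X.IdealSheafData) [IsIntegral Γc.subscheme] :
    closure ({Γc.subschemeι (genericPoint Γc.subscheme)} : Set X) = Γc.support := by
  rw [← image_closure Γc.subschemeι, genericPoint_closure, Set.image_univ, Γc.range_subschemeι]

theorem eq_of_genericPoint {Γc Γc' : X.IdealSheafData} [IsIntegral Γc.subscheme] [IsIntegral Γc'.subscheme]
    (h : Γc.subschemeι (genericPoint Γc.subscheme) = Γc'.subschemeι (genericPoint Γc'.subscheme)) : Γc = Γc' := by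
  have h1 := ker_eq_vanishingIdeal Γc.subschemeι
  have h2 := ker_eq_vanishingIdeal Γc'.subschemeι
  rw [Scheme.IdealSheafData.ker_subschemeι] at h1 h2
  rw [h1, h2]
  refine congrArg _ (Closeds.ext ?_)
  show (Γc.support : Set X) = Γc'.support
  rw [← closure_genericPoint_subscheme Γc, ← closure_genericPoint_subscheme Γc', h]

variable (k : Type u) [Field k] [X.Over (Spec (CommRingCat.of k))] [IsProper (X ↘ Spec (CommRingCat.of k))]

/-- Only finitely many curves have negative degree on a module with sections in some power. -/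
theorem finite_neg_curves [IsIntegral X] (hdim : topologicalKrullDim X = 2) {L : X.Modules}
    (hL : PicF.IsInvertible L) {n : ℕ} (hn : 0 < n) (h0 : 0 < CurveRR.h k (CohB1.tensorPow L n) 0) :
    {Γc : X.IdealSheafData | IsIntegral Γc.subscheme ∧ topologicalKrullDim (Γc.support : Set X) = 1 ∧
      degOn k Γc L < 0}.Finite := by
  classical
  obtain ⟨s, hs⟩ := exists_section_of_h0 k h0
  have hP := TMul.isInvertible_tensorPow hL n
  haveI : Mono s := CurveRR.mono_of_ne_zero TMul.isInvertible_structureModule hP s hs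
  obtain ⟨T, hT⟩ := exists_top_finset k (isCoh_coker k hP s) (dim_coker_le k hdim hP s)
  let φ : X.IdealSheafData → Option X := fun Γc =>
    if h : IsIntegral Γc.subscheme then some (haveI := h; Γc.subschemeι (genericPoint Γc.subscheme)) else none
  refine Set.Finite.of_finite_image (f := φ) ((T.image some).finite_toSet.subset ?_) ?_
  · rintro _ ⟨Γc, ⟨hint, h1, hneg⟩, rfl⟩
    haveI := hint
    simp only [φ, dif_pos hint, Finset.coe_image, Set.mem_image, Finset.mem_coe]
    refine ⟨_, (hT _).2 ⟨?_, by rw [closure_genericPoint_subscheme, h1]; rfl⟩, rfl⟩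
    rw [support_coker_section hP s]
    intro hg
    letI : Γc.subscheme.Over (Spec (CommRingCat.of k)) := ⟨Γc.subschemeι ≫ (X ↘ Spec (CommRingCat.of k))⟩
    haveI : IsProper (Γc.subscheme ↘ Spec (CommRingCat.of k)) := inferInstanceAs (IsProper (Γc.subschemeι ≫ _))
    obtain ⟨t, ht⟩ := TMul.exists_pullback_section Γc.subschemeι hL s
    obtain ⟨e⟩ := TMul.nonempty_pullPowIso Γc.subschemeι L n
    have hne : t ≠ 0 := fun h => by
      have hm : genericPoint Γc.subscheme ∈ CohB1.genLocus _ t := by
        rw [ht]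
        exact hg
      rw [h, TMul.genLocus_zero] at hm
      exact hm
    obtain ⟨hd, he⟩ := deg_quot_eq k Γc h1 hP
    have h2 := (CurveRR.deg_le_and_isIso (k := k) hd TMul.isInvertible_structureModule
      (PicLoc.isInvertible_pullback Γc.subschemeι hP) (t ≫ e.hom) fun h => hne (by
        simpa using congrArg (fun ψ => ψ ≫ e.inv) h)).1
    rw [CurveRR.deg_structure, he] at h2
    have h3 : 0 ≤ degOn k Γc (CohB1.tensorPow L n) := by
      simp only [degOn]
      exact_mod_cast h2
    rw [degOn_pow k Γc h1 hL] at h3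
    have hn' : (0 : ℚ) < n := by exact_mod_cast hn
    nlinarith
  · rintro a ⟨ha, -, -⟩ b ⟨hb, -, -⟩ hab
    haveI := ha
    haveI := hb
    simp only [φ, dif_pos ha, dif_pos hb, Option.some.injEq] at hab
    exact eq_of_genericPoint hab

variable [Smooth (X ↘ Spec (CommRingCat.of k))] [IsIntegral X]
  (hdim : topologicalKrullDim X = 2) [PicGrp.Law X] (B : NumR.N1R k X →ₗ[ℝ] NumR.N1R k X →ₗ[ℝ] ℝ)
  (hB : NumR.IsIntForm₂ k X B)

include hdim hB

/-- Distinct curves meet non-negatively. -/
theorem B_curve_curve_nonneg {Γc Γc' : X.IdealSheafData} [IsIntegral Γc.subscheme] [IsIntegral Γc'.subscheme]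
    (h1 : topologicalKrullDim (Γc.support : Set X) = 1) (h1' : topologicalKrullDim (Γc'.support : Set X) = 1)
    (hne : Γc ≠ Γc') (hI : PicF.IsInvertible (ClSub.idealMod Γc)) (hI' : PicF.IsInvertible (ClSub.idealMod Γc')) :
    0 ≤ B (NumR.curveCl k X Γc hI) (NumR.curveCl k X Γc' hI') := by
  rw [show NumR.curveCl k X Γc hI = -NumR.clR k X (ClSub.idealMod Γc) hI from rfl, map_neg, LinearMap.neg_apply,
    B_curve k hdim B hB Γc' h1' hI' hI]
  have hg : Γc'.subschemeι (genericPoint Γc'.subscheme) ∉ Γc.support := fun hm => hne (eq_of_genericPoint ?_)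
  · have h : degOn k Γc' (ClSub.idealMod Γc) ≤ 0 := by
      simp only [degOn]
      exact_mod_cast deg_ideal_nonpos k (cartier_of_curve k hdim Γc h1) Γc' h1' hg
    have h' : (degOn k Γc' (ClSub.idealMod Γc) : ℝ) ≤ 0 := by exact_mod_cast h
    linarith
  · refine eq_of_dim (d := 1) ?_ ?_ ?_
    · rw [specializes_iff_mem_closure, closure_genericPoint_subscheme]
      exact hm
    · rw [closure_genericPoint_subscheme, h1]
      exact le_rfl
    · rw [closure_genericPoint_subscheme, h1']
      rfl

variable [Module.Finite ℝ (NumR.N1R k X)] {H : X.Modules} (hH : CohB1.IsAmple H)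

include hH

theorem mem_ampleCone_of_pos {x : NumR.N1R k X} (hxx : 0 < B x x)
    (hpos : ∀ (I : X.IdealSheafData), IsIntegral I.subscheme → topologicalKrullDim (I.support : Set X) = 1 →
      ∀ hI : PicF.IsInvertible (ClSub.idealMod I), 0 < B x (NumR.curveCl k X I hI)) :
    x ∈ NumR.ampleCone k X := by
  classical
  have hnef : x ∈ NumR.nefCone₂ k X B := fun I hI h1 hinv => (hpos I hI h1 hinv).le
  set h := NumR.clR k X H hH.1
  have hA := clR_mem_ampleCone k hH
  have hxh : 0 < B x h :=
    lt_of_le_of_ne (B_nonneg_ample k hdim B hB hH hnef hA) (B_ne_zero_of_pos k hdim B hB hH hxx).symm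
  have hV : IsOpen ({z : NumR.N1R k X | 0 < B z z} ∩ {z | 0 < B z h}) :=
    (isOpen_lt continuous_const (continuous_B_self k B)).inter (isOpen_lt continuous_const (continuous_B_left k B h))
  obtain ⟨δ, hδ, hmem⟩ := exists_smul_mem_of_open k hV ⟨hxx, hxh⟩ h
  obtain ⟨z, ⟨⟨hz1, hz2⟩, hzA⟩, hz⟩ := (dense_ratPts k).inter_open_nonempty
    (({z : NumR.N1R k X | 0 < B z z} ∩ {z | 0 < B z h}) ∩
      (fun z => x + (-1 : ℝ) • z) ⁻¹' (NumR.ampleCone k X : Set (NumR.N1R k X)))
    (hV.inter ((isOpen_ampleCone k).preimage (continuous_const.add (continuous_const_smul _))))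
    ⟨x + (-(δ / 2)) • h, hmem _ (by rw [abs_neg, abs_of_pos (half_pos hδ)]; exact half_lt_self hδ), by
      show x + (-1 : ℝ) • (x + (-(δ / 2)) • h) ∈ NumR.ampleCone k X
      rw [show x + (-1 : ℝ) • (x + (-(δ / 2)) • h) = (δ / 2) • h by module]
      exact (NumR.ampleCone k X).smul_mem' (half_pos hδ) hA⟩
  obtain ⟨L, hL, m, hm, rfl⟩ := hz
  have hm' : (0 : ℝ) < (m : ℝ)⁻¹ := inv_pos.2 (by exact_mod_cast hm)
  simp only [Set.mem_setOf_eq, map_smul, LinearMap.smul_apply, smul_eq_mul, h, B_clR k hdim B hB] at hz1 hz2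
  have hLL : 0 < inter k L L := by exact_mod_cast pos_of_mul_pos_right (pos_of_mul_pos_right hz1 hm'.le) hm'.le
  have hLH : 0 < inter k L H := by exact_mod_cast pos_of_mul_pos_right hz2 hm'.le
  obtain ⟨n₀, hn₀⟩ := eventually_sections k hdim hL hH hLL hLH
  have hfin := finite_neg_curves k hdim hL (Nat.succ_pos n₀) (hn₀ _ (Nat.le_succ n₀))
  obtain ⟨ρ, hρ, hρmem⟩ := exists_smul_mem_of_open k (isOpen_ampleCone k) hzA h
  let g : X.IdealSheafData → ℝ := fun I =>
    if hI : PicF.IsInvertible (ClSub.idealMod I) then B x (NumR.curveCl k X I hI) / B h (NumR.curveCl k X I hI) else 1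
  have hgpos : ∀ I ∈ hfin.toFinset, 0 < g I := fun I hI => by
    obtain ⟨hint, h1, -⟩ := hfin.mem_toFinset.1 hI
    haveI := hint
    have hinv := inv_of_curve k hdim I h1
    simp only [g, dif_pos hinv]
    exact div_pos (hpos I hint h1 hinv) (B_pos_curve k hdim B hB hA I h1 hinv)
  obtain ⟨ε, hε, hερ, hεg⟩ : ∃ ε : ℝ, 0 < ε ∧ ε < ρ ∧ ∀ I ∈ hfin.toFinset, ε ≤ g I := by
    have hne : (insert (ρ / 2) (hfin.toFinset.image g)).Nonempty := Finset.insert_nonempty _ _
    refine ⟨(insert (ρ / 2) (hfin.toFinset.image g)).min' hne, ?_, ?_, fun I hI =>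
      Finset.min'_le _ _ (Finset.mem_insert_of_mem (Finset.mem_image_of_mem _ hI))⟩
    · rw [Finset.lt_min'_iff]
      intro y hy
      rcases Finset.mem_insert.1 hy with rfl | hy
      · exact half_pos hρ
      · obtain ⟨I, hI, rfl⟩ := Finset.mem_image.1 hy
        exact hgpos I hI
    · exact lt_of_le_of_lt (Finset.min'_le _ _ (Finset.mem_insert_self _ _)) (half_lt_self hρ)
  have hn : x + (-ε) • h ∈ NumR.nefCone₂ k X B := fun I hint h1 hinv => by
    haveI := hint
    rw [map_add, map_smul, LinearMap.add_apply, LinearMap.smul_apply, smul_eq_mul]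
    by_cases hneg : degOn k I L < 0
    · have hg := hεg I (hfin.mem_toFinset.2 ⟨hint, h1, hneg⟩)
      simp only [g, dif_pos hinv] at hg
      rw [le_div_iff₀ (B_pos_curve k hdim B hB hA I h1 hinv)] at hg
      linarith
    · have ha := B_pos_curve k hdim B hB (hρmem (-ε) (by rwa [abs_neg, abs_of_pos hε])) I h1 hinv
      have hd : (0 : ℝ) ≤ degOn k I L := by exact_mod_cast not_lt.1 hneg
      simp only [map_add, map_smul, LinearMap.add_apply, LinearMap.smul_apply, smul_eq_mul,
        B_curve k hdim B hB I h1 hinv hL] at ha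
      nlinarith [mul_nonneg hm'.le hd]
  have h' := add_mem_ampleCone k hdim B hB hH hn ((NumR.ampleCone k X).smul_mem' hε hA)
  rwa [neg_smul, neg_add_cancel_right] at h'

theorem mem_ampleCone_iff (x : NumR.N1R k X) : x ∈ NumR.ampleCone k X ↔
    0 < B x x ∧ ∀ (I : X.IdealSheafData), IsIntegral I.subscheme → topologicalKrullDim (I.support : Set X) = 1 →
      ∀ hI : PicF.IsInvertible (ClSub.idealMod I), 0 < B x (NumR.curveCl k X I hI) :=
  ⟨fun hx => ⟨B_pos_ample k hdim B hB hx hx, fun I hI h1 hinv =>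
    haveI := hI
    B_pos_curve k hdim B hB hx I h1 hinv⟩, fun hx => mem_ampleCone_of_pos k hdim B hB hH hx.1 hx.2⟩

theorem pos_of_nef {x : NumR.N1R k X} (hx : x ∈ NumR.nefCone₂ k X B) (hxx : 0 < B x x) :
    0 < B x (NumR.clR k X H hH.1) :=
  lt_of_le_of_ne (B_nonneg_ample k hdim B hB hH hx (clR_mem_ampleCone k hH))
    (B_ne_zero_of_pos k hdim B hB hH hxx).symm

end Groth.Agent.Nakai
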