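import Groth.Agent.Nakai.RealClass
import Groth.Agent.Nakai.RealBig
import Groth.Agent.Nakai.NumConnected

/-!
Configurations of curves on surfaces, by integers.
-/

set_option autoImplicit false
set_option backward.isDefEq.respectTransparency false
set_option linter.style.haveILetI false
set_option linter.unusedSectionVars false

universe u

open CategoryTheory CategoryTheory.Limits AlgebraicGeometry TopologicalSpace
open Groth.Agent.Intersect

noncomputable section

namespace Groth.Agent.Nakai

/-- A negative definite integer matrix with non-negative off-diagonal entries reverses signs. -/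
theorem nonneg_of_negDef {r : ℕ} (G : Fin r → Fin r → ℤ) (hoff : ∀ i j, i ≠ j → 0 ≤ G i j)
    (hneg : ∀ a : Fin r → ℤ, a ≠ 0 → ∑ i, ∑ j, a i * a j * G i j < 0) (s : Fin r → ℤ)
    (hs : ∀ j, ∑ i, s i * G i j ≤ 0) : ∀ i, 0 ≤ s i := by
  intro i
  by_contra hi
  push Not at hi
  let p : Fin r → ℤ := fun j => max (-s j) 0
  have hp : p ≠ 0 := fun h => by
    have h2 : max (-s i) 0 = 0 := congrFun h i
    linarith [le_max_left (-s i) 0]
  have h1 := hneg p hp
  have h2 : ∑ j, ∑ i, p j * (s i * G i j) ≤ 0 := Finset.sum_nonpos fun j _ => by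
    rw [← Finset.mul_sum]
    exact mul_nonpos_of_nonneg_of_nonpos (le_max_right _ _) (hs j)
  rw [Finset.sum_comm] at h2
  have e : ∀ i j, p j * (s i * G i j) = max (s i) 0 * p j * G i j - p i * p j * G i j := fun i j => by
    have hsi : s i = max (s i) 0 - p i := by
      simp only [p]
      rcases le_total 0 (s i) with h | h
      · rw [max_eq_left h, max_eq_right (neg_nonpos.2 h), sub_zero]
      · rw [max_eq_right h, max_eq_left (neg_nonneg.2 h), zero_sub, neg_neg]
    conv_lhs => rw [hsi]
    ring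
  have h3 : 0 ≤ ∑ i, ∑ j, max (s i) 0 * p j * G i j := Finset.sum_nonneg fun i _ => Finset.sum_nonneg fun j _ => by
    by_cases hij : i = j
    · subst hij
      simp only [p]
      rcases le_total 0 (s i) with h | h
      · rw [max_eq_right (neg_nonpos.2 h), mul_zero, zero_mul]
      · rw [max_eq_right h, zero_mul, zero_mul]
    · exact mul_nonneg (mul_nonneg (le_max_right _ _) (le_max_right _ _)) (hoff i j hij)
  simp only [e, Finset.sum_sub_distrib] at h2
  linarith

variable {X : Scheme.{u}} (k : Type u) [Field k] [X.Over (Spec (CommRingCat.of k))] [IsProper (X ↘ Spec (CommRingCat.of k))]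
  [Smooth (X ↘ Spec (CommRingCat.of k))] [IsIntegral X] (hdim : topologicalKrullDim X = 2)

include hdim

theorem intNum_ideal_right (Γc : X.IdealSheafData) [IsIntegral Γc.subscheme]
    (h1 : topologicalKrullDim (Γc.support : Set X) = 1) {L : X.Modules} (hL : PicF.IsInvertible L) :
    FGA.intNum k X 2 ![L, ClSub.idealMod Γc] (Coh.structureModule X) =
      -(Curv2.euler k X (CohB1.tensorMod (ClSub.quotMod Γc) L) - Curv2.euler k X (ClSub.quotMod Γc)) := by
  have h := inter_idealMod k hdim Γc h1 hL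
  rw [← intNum_eq_inter k hdim.le, degOn] at h
  exact_mod_cast h

theorem intNum_comm' (A B : X.Modules) :
    FGA.intNum k X 2 ![A, B] (Coh.structureModule X) = FGA.intNum k X 2 ![B, A] (Coh.structureModule X) := by
  have h := inter_comm k A B
  rw [← intNum_eq_inter k hdim.le, ← intNum_eq_inter k hdim.le] at h
  exact_mod_cast h

theorem intNum_off_nonneg {Γc Γc' : X.IdealSheafData} [IsIntegral Γc.subscheme] [IsIntegral Γc'.subscheme]
    (h1 : topologicalKrullDim (Γc.support : Set X) = 1) (h1' : topologicalKrullDim (Γc'.support : Set X) = 1)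
    (hne : Γc ≠ Γc') :
    0 ≤ FGA.intNum k X 2 ![ClSub.idealMod Γc, ClSub.idealMod Γc'] (Coh.structureModule X) := by
  rw [intNum_ideal_right k hdim Γc' h1' (inv_of_curve k hdim Γc h1), neg_nonneg]
  refine deg_ideal_nonpos k (cartier_of_curve k hdim Γc h1) Γc' h1' fun hm => hne (eq_of_genericPoint ?_)
  refine eq_of_dim (d := 1) ?_ ?_ ?_
  · rw [specializes_iff_mem_closure, closure_genericPoint_subscheme]
    exact hm
  · rw [closure_genericPoint_subscheme, h1]
    exact le_rfl
  · rw [closure_genericPoint_subscheme, h1']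
    rfl

theorem intNum_ample_neg (Γc : X.IdealSheafData) [IsIntegral Γc.subscheme]
    (h1 : topologicalKrullDim (Γc.support : Set X) = 1) {H : X.Modules} (hH : CohB1.IsAmple H) :
    FGA.intNum k X 2 ![ClSub.idealMod Γc, H] (Coh.structureModule X) < 0 := by
  rw [intNum_comm' k hdim, intNum_ideal_right k hdim Γc h1 hH.1, neg_lt_zero]
  exact strictNef_of_isAmple k hH Γc inferInstance h1

theorem negDef_of_negDef_classes {H : X.Modules} (hH : CohB1.IsAmple H) (r : ℕ) (C : Fin r → X.IdealSheafData)
    (hC : Function.Injective C) (hCi : ∀ i, IsIntegral (C i).subscheme)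
    (hCd : ∀ i, topologicalKrullDim ((C i).support : Set X) = 1)
    (hneg : ∀ a : Fin r → ℤ,
      (∃ M : X.Modules, PicF.IsInvertible M ∧
        ∑ i, a i * FGA.intNum k X 2 ![(ClSub.idealMod (C i)), M] (Coh.structureModule X) ≠ 0) →
      ∑ i, ∑ j, a i * a j * FGA.intNum k X 2 ![(ClSub.idealMod (C i)), (ClSub.idealMod (C j))] (Coh.structureModule X) < 0) :
    ∀ a : Fin r → ℤ, a ≠ 0 →
      ∑ i, ∑ j, a i * a j * FGA.intNum k X 2 ![(ClSub.idealMod (C i)), (ClSub.idealMod (C j))] (Coh.structureModule X) < 0 := by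
  intro a ha
  by_contra hcon
  have htriv : ∀ M : X.Modules, PicF.IsInvertible M →
      ∑ i, a i * FGA.intNum k X 2 ![(ClSub.idealMod (C i)), M] (Coh.structureModule X) = 0 := fun M hM => by
    by_contra hne
    exact hcon (hneg a ⟨M, hM, hne⟩)
  have hinv : ∀ i, PicF.IsInvertible (ClSub.idealMod (C i)) := fun i => haveI := hCi i; inv_of_curve k hdim _ (hCd i)
  let G : Fin r → Fin r → ℤ := fun i j =>
    FGA.intNum k X 2 ![(ClSub.idealMod (C i)), (ClSub.idealMod (C j))] (Coh.structureModule X)
  have hoff : ∀ i j, i ≠ j → 0 ≤ G i j := fun i j hij => by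
    haveI := hCi i
    haveI := hCi j
    exact intNum_off_nonneg k hdim (hCd i) (hCd j) fun h => hij (hC h)
  have hHneg : ∀ i, FGA.intNum k X 2 ![ClSub.idealMod (C i), H] (Coh.structureModule X) < 0 := fun i =>
    haveI := hCi i
    intNum_ample_neg k hdim _ (hCd i) hH
  have key : ∀ P : Fin r → ℤ, (∀ i, 0 ≤ P i) → 0 ≤ ∑ i, ∑ j, P i * P j * G i j → P = 0 := fun P hP hPP => by
    by_contra hne
    obtain ⟨i₀, hi₀⟩ : ∃ i, P i ≠ 0 := not_forall.1 fun h => hne (funext h)
    refine absurd (hneg P ⟨H, hH.1, ne_of_lt ?_⟩) (not_lt.2 hPP)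
    refine Finset.sum_neg' (fun i _ => mul_nonpos_of_nonneg_of_nonpos (hP i) (hHneg i).le)
      ⟨i₀, Finset.mem_univ _, mul_neg_of_pos_of_neg (lt_of_le_of_ne (hP i₀) (Ne.symm hi₀)) (hHneg i₀)⟩
  let P : Fin r → ℤ := fun i => max (a i) 0
  let N : Fin r → ℤ := fun i => max (-a i) 0
  have hPN : ∀ i, a i = P i - N i := fun i => by
    simp only [P, N]
    rcases le_total 0 (a i) with h | h
    · rw [max_eq_left h, max_eq_right (neg_nonpos.2 h), sub_zero]
    · rw [max_eq_right h, max_eq_left (neg_nonneg.2 h), zero_sub, neg_neg]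
  have hz : ∀ j, ∑ i, P i * G i j = ∑ i, N i * G i j := fun j => by
    have h : ∑ i, a i * G i j = 0 := htriv _ (hinv j)
    simp only [hPN, sub_mul, Finset.sum_sub_distrib] at h
    linarith
  have hPNn : 0 ≤ ∑ i, ∑ j, P i * N j * G i j := Finset.sum_nonneg fun i _ => Finset.sum_nonneg fun j _ => by
    by_cases hij : i = j
    · subst hij
      simp only [P, N]
      rcases le_total 0 (a i) with h | h
      · rw [max_eq_right (neg_nonpos.2 h), mul_zero, zero_mul]
      · rw [max_eq_right h, zero_mul, zero_mul]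
    · exact mul_nonneg (mul_nonneg (le_max_right _ _) (le_max_right _ _)) (hoff i j hij)
  have hswap : ∀ (U V : Fin r → ℤ), ∑ i, ∑ j, U i * V j * G i j = ∑ j, V j * ∑ i, U i * G i j := fun U V => by
    rw [Finset.sum_comm]
    refine Finset.sum_congr rfl fun j _ => ?_
    rw [Finset.mul_sum]
    exact Finset.sum_congr rfl fun i _ => by ring
  have hNN : 0 ≤ ∑ i, ∑ j, N i * N j * G i j := by
    rw [hswap]
    simp only [← hz]
    rw [← hswap]
    exact hPNn
  have hPP : 0 ≤ ∑ i, ∑ j, P i * P j * G i j := by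
    rw [hswap]
    simp only [hz]
    rw [← hswap]
    refine le_of_le_of_eq hPNn ?_
    rw [Finset.sum_comm]
    refine Finset.sum_congr rfl fun i _ => Finset.sum_congr rfl fun j _ => ?_
    rw [show G j i = G i j from intNum_comm' k hdim _ _]
    ring
  have h1 := key P (fun i => le_max_right _ _) hPP
  have h2 := key N (fun i => le_max_right _ _) hNN
  refine ha (funext fun i => ?_)
  rw [hPN, h1, h2]
  simp

theorem coeff_nonneg_of_orth (r : ℕ) (C : Fin r → X.IdealSheafData)
    (hC : Function.Injective C) (hCi : ∀ i, IsIntegral (C i).subscheme)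
    (hCd : ∀ i, topologicalKrullDim ((C i).support : Set X) = 1)
    (hneg : ∀ a : Fin r → ℤ, a ≠ 0 →
      ∑ i, ∑ j, a i * a j * FGA.intNum k X 2 ![(ClSub.idealMod (C i)), (ClSub.idealMod (C j))] (Coh.structureModule X) < 0)
    {F : X.IdealSheafData} (hF : FGA.IsEffCartier F) (hFC : ∀ i, ¬ ((C i).support : Set X) ⊆ (F.support : Set X))
    (s : Fin r → ℤ)
    (horth : ∀ j, Curv2.euler k X (CohB1.tensorMod (ClSub.quotMod (C j)) (ClSub.idealMod F)) - Curv2.euler k X (ClSub.quotMod (C j)) =
      ∑ i, s i * FGA.intNum k X 2 ![(ClSub.idealMod (C i)), (ClSub.idealMod (C j))] (Coh.structureModule X)) :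
    ∀ i, 0 ≤ s i := by
  refine nonneg_of_negDef (fun i j => FGA.intNum k X 2 ![(ClSub.idealMod (C i)), (ClSub.idealMod (C j))] (Coh.structureModule X))
    (fun i j hij => ?_) hneg s fun j => ?_
  · haveI := hCi i
    haveI := hCi j
    exact intNum_off_nonneg k hdim (hCd i) (hCd j) fun h => hij (hC h)
  · haveI := hCi j
    refine (horth j).symm.trans_le (deg_ideal_nonpos k hF (C j) (hCd j) fun hm => hFC j ?_)
    rw [← closure_genericPoint_subscheme]
    exact closure_minimal (Set.singleton_subset_iff.2 hm) F.support.isClosed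

theorem intNum_ideal_neg {H : X.Modules} (hH : CohB1.IsAmple H) {F : X.IdealSheafData} (hF : BlowUp.IsEffCartierIdeal F)
    (hne : F ≠ ⊤) : FGA.intNum k X 2 ![ClSub.idealMod F, H] (Coh.structureModule X) < 0 := by
  obtain ⟨L, s, hL, hm, hs, he⟩ := exists_divisor_section hF hne
  haveI := hm
  rcases Intersect.coker_section_cases k hdim hL s with h | hd
  · exact absurd h hs
  have h1 := alt_pos k 1 _ (fun _ => hH) _ (isCoh_coker k hL s) hd
  have h2 := alt_coker_section k hL s (M := fun _ : Fin 1 => H) (fun _ => hH.1)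
  have h3 : inter k L H = alt (χt k (Coh.structureModule X) (Fin.cons L fun _ : Fin 1 => H)) := by
    rw [inter, ← D_ofFn]
    rfl
  rw [h2] at h3
  rw [pow_one] at h1
  have h4 := inter_inv k hdim.le ((Groth.Agent.S8914.result F).2 hF) he hH.1
  have h5 : inter k (ClSub.idealMod F) H < 0 := by linarith
  rw [← intNum_eq_inter k hdim.le] at h5
  exact_mod_cast h5

theorem eq_top_of_numTrivial {H : X.Modules} (hH : CohB1.IsAmple H) (r : ℕ) (C : Fin r → X.IdealSheafData)
    (hC : Function.Injective C) (hCi : ∀ i, IsIntegral (C i).subscheme)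
    (hCd : ∀ i, topologicalKrullDim ((C i).support : Set X) = 1)
    (hneg : ∀ a : Fin r → ℤ, a ≠ 0 →
      ∑ i, ∑ j, a i * a j * FGA.intNum k X 2 ![(ClSub.idealMod (C i)), (ClSub.idealMod (C j))] (Coh.structureModule X) < 0)
    {F : X.IdealSheafData} (hF : FGA.IsEffCartier F) (hFC : ∀ i, ¬ ((C i).support : Set X) ⊆ (F.support : Set X))
    (s : Fin r → ℤ)
    (hnum : ∀ M : X.Modules, PicF.IsInvertible M →
      FGA.intNum k X 2 ![(ClSub.idealMod F), M] (Coh.structureModule X) =
        ∑ i, s i * FGA.intNum k X 2 ![(ClSub.idealMod (C i)), M] (Coh.structureModule X)) :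
    F = ⊤ ∧ ∀ i, s i = 0 := by
  have hs := coeff_nonneg_of_orth k hdim r C hC hCi hCd hneg hF hFC (fun i => -s i) fun j => by
    haveI := hCi j
    have h := hnum _ (inv_of_curve k hdim (C j) (hCd j))
    rw [intNum_ideal_right k hdim (C j) (hCd j) ((Groth.Agent.S8914.result F).2 hF)] at h
    simp only [neg_mul, Finset.sum_neg_distrib]
    linarith
  have hterm : ∀ i ∈ Finset.univ, 0 ≤ s i * FGA.intNum k X 2 ![(ClSub.idealMod (C i)), H] (Coh.structureModule X) := fun i _ =>
    haveI := hCi i
    mul_nonneg_of_nonpos_of_nonpos (neg_nonneg.1 (hs i)) (intNum_ample_neg k hdim (C i) (hCd i) hH).le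
  have h := hnum H hH.1
  have h0 : 0 ≤ FGA.intNum k X 2 ![(ClSub.idealMod F), H] (Coh.structureModule X) := h ▸ Finset.sum_nonneg hterm
  have hFt : F = ⊤ := by
    by_contra hne
    exact absurd (intNum_ideal_neg k hdim hH hF hne) (not_lt.2 h0)
  refine ⟨hFt, fun i => ?_⟩
  haveI := hCi i
  have hz : ∀ M : X.Modules, PicF.IsInvertible M → FGA.intNum k X 2 ![(ClSub.idealMod F), M] (Coh.structureModule X) = 0 →
      ∑ i, s i * FGA.intNum k X 2 ![(ClSub.idealMod (C i)), M] (Coh.structureModule X) = 0 := fun M hM h => (hnum M hM) ▸ h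
  by_contra hne
  have hsG : ∀ j, ∑ i, s i * FGA.intNum k X 2 ![(ClSub.idealMod (C i)), (ClSub.idealMod (C j))] (Coh.structureModule X) ≤ 0 :=
    fun j => by
      haveI := hCi j
      refine (hnum _ (inv_of_curve k hdim (C j) (hCd j))).symm.trans_le ?_
      rw [hFt, intNum_ideal_right k hdim (C j) (hCd j) ((Groth.Agent.S8914.result ⊤).2 (hFt ▸ hF)), neg_nonpos]
      have h4 : degOn k (C j) (ClSub.idealMod (⊤ : X.IdealSheafData)) = 0 := by
        have hc : BlowUp.IsEffCartierIdeal (⊤ : X.IdealSheafData) := hFt ▸ hF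
        obtain ⟨e⟩ := nonempty_idealMod_mul hc hc
        have hi := (Groth.Agent.S8914.result (⊤ : X.IdealSheafData)).2 hc
        rw [show (⊤ : X.IdealSheafData) * ⊤ = ⊤ by ext1; funext U; simp] at e
        have h' := degOn_tensor k (C j) (hCd j) hi hi
        rw [degOn_iso k (C j) e] at h'
        linarith
      simp only [degOn] at h4
      have h5 : (Curv2.euler k X (CohB1.tensorMod (ClSub.quotMod (C j)) (ClSub.idealMod (⊤ : X.IdealSheafData))) : ℚ) =
          Curv2.euler k X (ClSub.quotMod (C j)) := by linarith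
      have h6 : Curv2.euler k X (CohB1.tensorMod (ClSub.quotMod (C j)) (ClSub.idealMod (⊤ : X.IdealSheafData))) =
          Curv2.euler k X (ClSub.quotMod (C j)) := by exact_mod_cast h5
      omega
  have h1 := nonneg_of_negDef _ (fun i j hij => by
    haveI := hCi i
    haveI := hCi j
    exact intNum_off_nonneg k hdim (hCd i) (hCd j) fun h => hij (hC h)) hneg s hsG i
  exact hne (le_antisymm (neg_nonneg.1 (hs i)) h1)

end Groth.Agent.Nakai
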