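import Groth.Agent.W7Hull.AmpleSurj
import Groth.Agent.Intersect.IsoOff
import Groth.Agent.CurveRR.Euler
import Groth.Agent.Devissage.Core

/-!
Eventual vanishing of the cohomology of modules supported on a closed set on whose integral closed
subschemes an invertible module is ample, and stabilisation of `h^i` for the powers of that module.
-/

set_option autoImplicit false
set_option backward.isDefEq.respectTransparency false
set_option linter.style.haveILetI false
set_option linter.unusedSectionVars false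

universe u

open CategoryTheory CategoryTheory.Limits AlgebraicGeometry TopologicalSpace Opposite
open Groth.Agent.CohFinite (tmap tmap_comp tmap_id tmap_zero tmap_tm shortExact_tmap hhMap hhMap_comp hhEquiv)

noncomputable section

namespace Groth.Agent.Nakai

variable {X : Scheme.{u}}

/-- Twists of a coherent module supported on `B` eventually have no higher cohomology. -/
def Vanishes (L : X.Modules) (B : Set X) : Prop :=
  ∀ M : X.Modules, Coh.IsCoh M → CohB1.support M ⊆ B → ∃ n₀ : ℕ, ∀ n, n₀ ≤ n → ∀ q : ℕ,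
    Subsingleton (Coh.HH X (CohB1.tensorMod M (CohB1.tensorPow L n)) (q + 1))

theorem vanishes [IsNoetherian X] {R : Type u} [CommRing R] [IsNoetherianRing R]
    (gX : X ⟶ Spec (CommRingCat.of R)) [IsProper gX] {L : X.Modules} (hL : PicF.IsInvertible L) (B : Closeds X)
    (hY : ∀ ξ ∈ B, CohB1.IsAmple ((Scheme.Modules.pullback (Devissage.Zi ξ)).obj L)) : Vanishes L (B : Set X) := by
  intro M hM hMB
  have ret : ∀ (A B : X.Modules) (p : A ⟶ B) (q : B ⟶ A), q ≫ p = 𝟙 B →
      (∃ n₀ : ℕ, ∀ n, n₀ ≤ n → ∀ q : ℕ,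
        Subsingleton (Coh.HH X (CohB1.tensorMod A (CohB1.tensorPow L n)) (q + 1))) →
      ∃ n₀ : ℕ, ∀ n, n₀ ≤ n → ∀ q : ℕ,
        Subsingleton (Coh.HH X (CohB1.tensorMod B (CohB1.tensorPow L n)) (q + 1)) :=
    fun A B p q h ⟨n₀, h₀⟩ => ⟨n₀, fun n hn j =>
      W7Hull.hh_subsingleton_of_retract (tmap p _) (tmap q _)
        (by rw [← tmap_comp, h, tmap_id]) _ (h₀ n hn j)⟩
  refine Devissage.extension_roots
    (fun A : X.Modules => ∃ n₀ : ℕ, ∀ n, n₀ ≤ n → ∀ q : ℕ,
      Subsingleton (Coh.HH X (CohB1.tensorMod A (CohB1.tensorPow L n)) (q + 1)))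
    (fun A B ⟨e⟩ h => ret A B e.hom e.inv e.inv_hom_id h)
    (fun A hA => ⟨0, fun n _ q => W7Hull.hh_subsingleton_of_isZero ((IsZero.iff_id_eq_zero _).2
      (by rw [← tmap_id, hA.eq_of_src (𝟙 A) 0, tmap_zero])) _⟩)
    B (fun S hS _ _ _ ⟨n₁, h₁⟩ ⟨n₃, h₃⟩ => ⟨max n₁ n₃, fun n hn q => W7Hull.hh_subsingleton_middle
      (shortExact_tmap (TMul.isInvertible_tensorPow hL n) hS) _
      (h₁ n ((le_max_left _ _).trans hn) q) (h₃ n ((le_max_right _ _).trans hn) q)⟩)
    (fun A r _ hr h => ret _ A (Sigma.desc fun _ : Fin r => 𝟙 A)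
      (Sigma.ι (fun _ : Fin r => A) ⟨0, hr⟩) (Sigma.ι_desc _ _) h)
    (fun ξ hξB => Or.inr ?_) M hM hMB
  let f := Devissage.Zi ξ
  obtain ⟨η', hη'⟩ : ξ ∈ Set.range f := by rw [Devissage.range_Zi]; exact subset_closure rfl
  haveI : IsLocallyNoetherian (Scheme.IdealSheafData.vanishingIdeal (Devissage.Zc ξ)).subscheme :=
    LocallyOfFiniteType.isLocallyNoetherian f
  obtain ⟨N, hN, hs, hk⟩ := W7Hull.exists_coh_push_point f η' ξ hη'
  haveI : N.IsQuasicoherent := hN.1
  refine ⟨(Coh.push f).obj N, QC.isCoh_pushforward_of_isFinite f hN.2, hs.le, hs ▸ subset_closure rfl, hk,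
    fun J hJ => ?_⟩
  obtain ⟨M', m, hm, hM', h0, hsurj⟩ := W7Hull.exists_push_sub f J N hN.1
  haveI := hm
  haveI : M'.IsQuasicoherent := hM'
  let ι' : (Coh.push f).obj M' ⟶ (Dual3.idealMul J).obj ((Coh.push f).obj N) :=
    kernel.lift _ ((Coh.push f).map m) h0
  have hι : ι' ≫ Dual3.idealMulι J ((Coh.push f).obj N) = (Coh.push f).map m := kernel.lift_ι _ _ _
  haveI : Mono (ι' ≫ Dual3.idealMulι J ((Coh.push f).obj N)) := by rw [hι]; infer_instance
  refine ⟨(Coh.push f).obj M', ι', mono_of_mono ι' (Dual3.idealMulι J ((Coh.push f).obj N)),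
    QC.isQCoh_pushforward f, ?_, ?_⟩
  · rw [hι]; exact hsurj ξ hJ
  · obtain ⟨n₀, h₀⟩ := CohFinite.vanish_ample (f ≫ gX) (hY ξ hξB) (QC.isCoh_of_mono m hN hM')
    refine ⟨n₀, fun n hn q => ?_⟩
    obtain ⟨i⟩ := TMul.nonempty_pullPowIso f L n
    haveI := W7Hull.isIso_projMap_of_invertible f M' (TMul.isInvertible_tensorPow hL n)
    haveI : Coh.IsQCoh (CohB1.tensorMod M' ((Scheme.Modules.pullback f).obj (CohB1.tensorPow L n))) :=
      TMul.isQCoh_tensor (PicLoc.isInvertible_pullback f (TMul.isInvertible_tensorPow hL n))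
    have h1 : Subsingleton (Coh.HH _
        (CohB1.tensorMod M' ((Scheme.Modules.pullback f).obj (CohB1.tensorPow L n))) (q + 1)) :=
      W7Hull.hh_subsingleton_of_retract (PicGrp.tensorModIso (Iso.refl M') i).hom
        (PicGrp.tensorModIso (Iso.refl M') i).inv (Iso.inv_hom_id _) _ (h₀ n hn q)
    obtain ⟨e⟩ := S0012.result f
      (CohB1.tensorMod M' ((Scheme.Modules.pullback f).obj (CohB1.tensorPow L n))) (q + 1)
    exact W7Hull.hh_subsingleton_of_retract (inv (CohFinite.projMap f M' (CohB1.tensorPow L n)))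
      (CohFinite.projMap f M' (CohB1.tensorPow L n)) (IsIso.hom_inv_id _) _
      e.symm.toEquiv.subsingleton

/-- Associativity is natural in the first variable. -/
theorem tmap_assoc {A B : X.Modules} (φ : A ⟶ B) (M N : X.Modules) :
    tmap (tmap φ M) N ≫ (TMul.assocIso B M N).hom = (TMul.assocIso A M N).hom ≫ tmap φ (CohB1.tensorMod M N) :=
  TMul.hom_ext₃ fun U a m n => by
    change (TMul.assocHom B M N).app U ((tmap (tmap φ M) N).app U (TMul.tm (TMul.tm a m) n)) =
      (tmap φ (CohB1.tensorMod M N)).app U ((TMul.assocHom A M N).app U (TMul.tm (TMul.tm a m) n))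
    rw [tmap_tm, tmap_tm, TMul.assocHom_tm, TMul.assocHom_tm, tmap_tm]

variable (k : Type u) [Field k] [X.Over (Spec (CommRingCat.of k))] [IsProper (X ↘ Spec (CommRingCat.of k))]

theorem bijective_f_of_subsingleton {S : ShortComplex X.Modules} (hS : S.ShortExact) (i : ℕ)
    (h0 : Subsingleton (Coh.HH X S.X₃ i)) (h1 : Subsingleton (Coh.HH X S.X₃ (i + 1))) :
    Function.Bijective (hhMap k S.f (i + 1)) := by
  refine ⟨LinearMap.ker_eq_bot.1 ?_, LinearMap.range_eq_top.1 ?_⟩
  · rw [← CurveRR.range_δ_eq_ker_f hS i]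
    exact LinearMap.range_eq_bot.2 (LinearMap.ext fun x => by rw [Subsingleton.elim x 0, map_zero]; rfl)
  · rw [CurveRR.range_f_eq_ker_g hS (i + 1)]
    exact LinearMap.ker_eq_top.2 (LinearMap.ext fun x => Subsingleton.elim _ _)

theorem surjective_f_of_subsingleton {S : ShortComplex X.Modules} (hS : S.ShortExact) (i : ℕ)
    (h1 : Subsingleton (Coh.HH X S.X₃ i)) : Function.Surjective (hhMap k S.f i) := by
  refine LinearMap.range_eq_top.1 ?_
  rw [CurveRR.range_f_eq_ker_g hS i]
  exact LinearMap.ker_eq_top.2 (LinearMap.ext fun x => Subsingleton.elim _ _)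

/-- A nonempty open on which a given invertible module is trivial. -/
theorem exists_open_trivial [Nonempty X] {L : X.Modules} (hL : PicF.IsInvertible L) :
    ∃ U : X.Opens, (U : Set X).Nonempty ∧ Nonempty ((Coh.structureModule X).restrict U.ι ≅ L.restrict U.ι) := by
  obtain ⟨U, hx, ⟨φ⟩⟩ := hL (Classical.arbitrary X)
  exact ⟨U, ⟨_, hx⟩, ⟨Scheme.Modules.restrictUnitIso U.ι ≪≫ φ.symm⟩⟩

/-- On an integral scheme, `h^i(L^n)` is eventually constant in degrees `≥ 2` if `L` has vanishing on the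
proper closed subsets. -/
theorem eventually_const [IsIntegral X] {L : X.Modules} (hL : PicF.IsInvertible L)
    (hv : ∀ B : Set X, IsClosed B → genericPoint X ∉ B → Vanishes L B) :
    ∃ n₀ : ℕ, ∀ n, n₀ ≤ n → ∀ i : ℕ,
      CurveRR.h k (CohB1.tensorPow L (n + 1)) (i + 2) = CurveRR.h k (CohB1.tensorPow L n) (i + 2) := by
  haveI := CurveRR.isNoetherian_of_proper k X
  have hO : Coh.IsCoh (Coh.structureModule X) := RefStalk.isCoh_structureModule
  have hLc := CurveRR.isCoh_of_inv hL
  obtain ⟨U, hU, ⟨e⟩⟩ := exists_open_trivial hL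
  have hη : genericPoint X ∈ U := by
    obtain ⟨x, hx⟩ := hU
    exact (genericPoint_specializes x).mem_open U.2 hx
  have hmono : ∀ N : X.Modules, PicF.IsInvertible N → Mono (Devissage.unitE U N) := fun N hN => by
    refine (Groth.Agent.QC.mono_iff_app_injective _).2 fun W => (injective_iff_map_eq_zero _).2 fun t ht => ?_
    by_cases hW : (W : Set X).Nonempty
    · obtain ⟨w, hw⟩ := hW
      have hηW : genericPoint X ∈ W := (genericPoint_specializes w).mem_open W.2 hw
      exact CurveRR.eq_zero_of_germ_generic hN t hηW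
        ((Devissage.unitE_eq_zero_iff U N t).1 ht _ hηW hη)
    · exact Groth.Agent.QC.section_eq_of_locally (M := N) (fun x hx => (hW ⟨x, hx⟩).elim)
  haveI := hmono _ TMul.isInvertible_structureModule
  haveI := hmono _ hL
  obtain ⟨P, a, b, ha, hb, hP, hca, hcb⟩ := Intersect.exists_comparison_off hO hLc U e
  haveI := ha
  haveI := hb
  have hva := hv (U : Set X)ᶜ U.2.isClosed_compl (fun h => h hη)
  obtain ⟨n₁, h₁⟩ := hva (cokernel a) (Groth.Agent.QC.isCoh_cokernel hP.1 hO a) (hca.trans Set.inter_subset_left)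
  obtain ⟨n₂, h₂⟩ := hva (cokernel b) (Groth.Agent.QC.isCoh_cokernel hP.1 hLc b) (hcb.trans Set.inter_subset_left)
  refine ⟨max n₁ n₂, fun n hn i => ?_⟩
  have hPn := TMul.isInvertible_tensorPow hL n
  have ea := LinearEquiv.finrank_eq (LinearEquiv.ofBijective _ (bijective_f_of_subsingleton k
    (shortExact_tmap hPn (Devissage.cokSeq_shortExact a)) (i + 1)
    (h₁ n ((le_max_left _ _).trans hn) i) (h₁ n ((le_max_left _ _).trans hn) (i + 1))))
  have eb := LinearEquiv.finrank_eq (LinearEquiv.ofBijective _ (bijective_f_of_subsingleton k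
    (shortExact_tmap hPn (Devissage.cokSeq_shortExact b)) (i + 1)
    (h₂ n ((le_max_right _ _).trans hn) i) (h₂ n ((le_max_right _ _).trans hn) (i + 1))))
  calc CurveRR.h k (CohB1.tensorPow L (n + 1)) (i + 2)
      = CurveRR.h k (CohB1.tensorMod L (CohB1.tensorPow L n)) (i + 2) := CurveRR.h_eq_of_iso (TMul.commIso _ _) _
    _ = CurveRR.h k (CohB1.tensorMod P (CohB1.tensorPow L n)) (i + 2) := eb.symm
    _ = CurveRR.h k (CohB1.tensorMod (Coh.structureModule X) (CohB1.tensorPow L n)) (i + 2) := ea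
    _ = _ := CurveRR.h_eq_of_iso (TMul.leftUnitIso _) _

end Groth.Agent.Nakai
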