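import Groth.Agent.Nakai.FibreDeg
import Groth.Agent.SmLocalST.SmoothField
import Groth.Agent.Nakai.ClMul

/-!
Degrees of twisted structure sheaves of curves, additively.
-/

set_option autoImplicit false
set_option backward.isDefEq.respectTransparency false
set_option linter.style.haveILetI false
set_option linter.unusedSectionVars false

universe u

open CategoryTheory CategoryTheory.Limits AlgebraicGeometry TopologicalSpace
open Groth.Agent.Intersect

noncomputable section

namespace Groth.Agent.Nakai

variable {X : Scheme.{u}} (k : Type u) [Field k] [X.Over (Spec (CommRingCat.of k))] [IsProper (X ↘ Spec (CommRingCat.of k))]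

/-- Degree of a module on a closed subscheme, as a difference of Euler characteristics. -/
def degOn (Γc : X.IdealSheafData) (A : X.Modules) : ℚ :=
  (Curv2.euler k X (CohB1.tensorMod (ClSub.quotMod Γc) A) : ℚ) - Curv2.euler k X (ClSub.quotMod Γc)

theorem degOn_eq (Γc : X.IdealSheafData) (A : X.Modules) :
    degOn k Γc A = - D k [A] (ClSub.quotMod Γc) := by
  simp only [degOn, D]
  ring

theorem degOn_iso (Γc : X.IdealSheafData) {A B : X.Modules} (e : A ≅ B) : degOn k Γc A = degOn k Γc B := by
  simp only [degOn]
  rw [CurveRR.euler_eq_of_iso (PicGrp.tensorModIso (Iso.refl (ClSub.quotMod Γc)) e)]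

theorem degOn_one (Γc : X.IdealSheafData) : degOn k Γc (Coh.structureModule X) = 0 := by
  simp only [degOn]
  rw [CurveRR.euler_eq_of_iso (TMul.commIso (ClSub.quotMod Γc) (Coh.structureModule X) ≪≫ TMul.leftUnitIso _),
    sub_self]

theorem degOn_tensor (Γc : X.IdealSheafData) (h1 : topologicalKrullDim (Γc.support : Set X) = 1)
    {A B : X.Modules} (hA : PicF.IsInvertible A) (hB : PicF.IsInvertible B) :
    degOn k Γc (CohB1.tensorMod A B) = degOn k Γc A + degOn k Γc B := by
  haveI := CurveRR.isNoetherian_of_proper k X
  rw [degOn_eq, degOn_eq, degOn_eq, D_tensor k (CurveRR.isCoh_idealMod Γc).2 hA hB (l := []) (by simp) (e := 1) rfl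
    ((dim_support_quotMod Γc).trans h1).le]
  ring

theorem degOn_inv (Γc : X.IdealSheafData) (h1 : topologicalKrullDim (Γc.support : Set X) = 1)
    {A B : X.Modules} (hA : PicF.IsInvertible A) (h : Nonempty (CohB1.tensorMod A B ≅ Coh.structureModule X)) :
    degOn k Γc B = - degOn k Γc A := by
  have h2 := degOn_tensor k Γc h1 hA (Intersect.isInvertible_inverse hA h)
  rw [degOn_iso k Γc h.some, degOn_one] at h2
  linarith

include k in
theorem dim_le_zero_of_finite (Γc : X.IdealSheafData) [IrreducibleSpace Γc.subscheme]
    (h : ((Γc.support : Set X)).Finite) : topologicalKrullDim (Γc.support : Set X) ≤ 0 := by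
  haveI : LocallyOfFiniteType (Γc.subschemeι ≫ (X ↘ Spec (CommRingCat.of k))) := inferInstance
  haveI : JacobsonSpace Γc.subscheme := LocallyOfFiniteType.jacobsonSpace (Γc.subschemeι ≫ (X ↘ Spec (CommRingCat.of k)))
  haveI : Finite Γc.subscheme := by
    haveI : Finite (Set.range Γc.subschemeι) := (h.subset Γc.range_subschemeι.le).to_subtype
    exact Finite.of_injective (fun a : Γc.subscheme => (⟨Γc.subschemeι a, a, rfl⟩ : Set.range Γc.subschemeι))
      (fun a b hab => by apply (Γc.subschemeι.isClosedEmbedding).injective; exact Subtype.mk.inj hab)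
  rw [← Γc.range_subschemeι, ← IsHomeomorph.topologicalKrullDim_eq _
    Γc.subschemeι.isClosedEmbedding.isEmbedding.toHomeomorph.isHomeomorph]
  exact topologicalKrullDim_zero_of_discreteTopology _

end Groth.Agent.Nakai
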