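import Groth.Agent.Nakai.ClMul
import Groth.Agent.Nakai.Vanish
import Groth.Agent.NegTwist.Main
import Groth.Agent.Intersect.Surface

/-!
Sections and top cohomology along multiplication by a section of an invertible module.
-/

set_option autoImplicit false
set_option backward.isDefEq.respectTransparency false
set_option linter.style.haveILetI false
set_option linter.unusedSectionVars false

universe u

open CategoryTheory CategoryTheory.Limits AlgebraicGeometry TopologicalSpace
open Groth.Agent.Intersect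
open Groth.Agent.CohFinite (tmap shortExact_tmap hhMap)

noncomputable section

namespace Groth.Agent.Nakai

attribute [local instance] clMonoid

variable {X : Scheme.{u}} (k : Type u) [Field k] [X.Over (Spec (CommRingCat.of k))] [IsProper (X ↘ Spec (CommRingCat.of k))]

theorem h0_middle {S : ShortComplex X.Modules} (hS : S.ShortExact) (h₁ : Coh.IsCoh S.X₁) (h₂ : Coh.IsCoh S.X₂)
    (h₃ : Coh.IsCoh S.X₃) : CurveRR.h k S.X₂ 0 ≤ CurveRR.h k S.X₁ 0 + CurveRR.h k S.X₃ 0 := by
  haveI : Module.Finite k (Coh.HH X S.X₁ 0) := CohFinite.finite_proper k X _ h₁ 0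
  haveI : Module.Finite k (Coh.HH X S.X₂ 0) := CohFinite.finite_proper k X _ h₂ 0
  haveI : Module.Finite k (Coh.HH X S.X₃ 0) := CohFinite.finite_proper k X _ h₃ 0
  have h := LinearMap.finrank_range_add_finrank_ker (hhMap k S.g 0)
  rw [← CurveRR.range_f_eq_ker_g hS 0] at h
  have a := LinearMap.finrank_range_le (hhMap k S.f 0)
  have b := Submodule.finrank_le (LinearMap.range (hhMap k S.g 0))
  change Module.finrank k (Coh.HH X S.X₂ 0) ≤ Module.finrank k (Coh.HH X S.X₁ 0) + Module.finrank k (Coh.HH X S.X₃ 0)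
  omega

theorem h0_le_of_mono {S : ShortComplex X.Modules} (hS : S.ShortExact) (h₂ : Coh.IsCoh S.X₂) :
    CurveRR.h k S.X₁ 0 ≤ CurveRR.h k S.X₂ 0 := by
  haveI : Module.Finite k (Coh.HH X S.X₂ 0) := CohFinite.finite_proper k X _ h₂ 0
  exact LinearMap.finrank_le_finrank_of_injective (CurveRR.injective_f (k := k) hS)

theorem h0_pos_of_section {G : X.Modules} (hG : Coh.IsCoh G) {s : Coh.structureModule X ⟶ G} (hs : s ≠ 0) :
    0 < CurveRR.h k G 0 := by
  letI := CurveRR.secMod k G ⊤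
  haveI : Module.Finite k (Coh.HH X G 0) := CohFinite.finite_proper k X _ hG 0
  have h0 : TMul.homOf (L := G) (0 : Γ(G, ⊤)) = 0 := by
    rw [← CohFinite.homOf_val (0 : Coh.structureModule X ⟶ G)]
    rfl
  have hne : TMul.val s ⊤ ≠ 0 := fun h => hs (by rw [← CohFinite.homOf_val s, h, h0])
  refine Module.finrank_pos_iff.2 ⟨CurveRR.secH0 (k := k) G (TMul.val s ⊤), 0, fun h => hne ?_⟩
  exact (CurveRR.secH0 (k := k) G).injective (h.trans (map_zero _).symm)

theorem exists_section_of_h0 {G : X.Modules} (h : 0 < CurveRR.h k G 0) :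
    ∃ s : Coh.structureModule X ⟶ G, s ≠ 0 := by
  haveI : Nontrivial (Coh.HH X G 0) := Module.nontrivial_of_finrank_pos h
  letI := CurveRR.secMod k G ⊤
  haveI : Nontrivial Γ(G, ⊤) := (CurveRR.secH0 (k := k) G).toEquiv.nontrivial
  obtain ⟨t, ht⟩ := exists_ne (0 : Γ(G, ⊤))
  refine ⟨TMul.homOf t, fun h => ht ?_⟩
  have h9 := congrArg (fun ψ => TMul.val ψ ⊤) h
  simp only [TMul.val_homOf, Groth.Agent.QC.res_self] at h9
  exact h9

include k in
theorem subsingleton_of_support_le (e : ℕ) {F : X.Modules} (hF : Coh.IsCoh F)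
    (hdim : topologicalKrullDim (CohB1.support F) ≤ (e : WithBot ℕ∞)) (p : ℕ) (hp : e < p) :
    Subsingleton (Coh.HH X F p) := by
  haveI := CurveRR.isNoetherian_of_proper k X
  let U : X.Opens := ⟨(CohB1.support F)ᶜ, (Groth.Agent.QC.isClosed_support hF.2).isOpen_compl⟩
  refine Groth.Agent.FreeJ.subsingleton_H_of_support (X := X.toPresheafedSpace.carrier) (G := Coh.toAb F) U
    (fun x hx => not_not.1 hx) p fun N => ?_
  refine Groth.Agent.S0458.result (X := TopCat.of ((U : Set X)ᶜ : Set X)) e ?_ N p hp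
  exact (IsHomeomorph.topologicalKrullDim_eq _ (Homeomorph.setCongr (compl_compl _)).isHomeomorph).le.trans hdim

/-- `h⁰` bounds `χ` without `h²`, in dimension two. -/
theorem euler_le_h0 (hdim : topologicalKrullDim X ≤ ((2 : ℕ) : WithBot ℕ∞)) {F : X.Modules}
    (h2 : Subsingleton (Coh.HH X F 2)) : Curv2.euler k X F ≤ CurveRR.h k F 0 := by
  haveI := CurveRR.isNoetherian_of_proper k X
  rw [CurveRR.euler_eq_sum F 3 fun i hi =>
    Groth.Agent.S0458.result (X := X.toPresheafedSpace.carrier) 2 hdim (Coh.toAb F) i (by omega)]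
  simp only [Finset.sum_range_succ, Finset.sum_range_zero, CurveRR.h_eq_zero h2]
  have h1 : (0 : ℤ) ≤ (CurveRR.h k F 1 : ℤ) := Int.natCast_nonneg _
  simp only [pow_zero, one_mul, pow_one, neg_mul, Nat.cast_zero, mul_zero, zero_add, add_zero]
  linarith

include k in
theorem isCoh_inv {L : X.Modules} (hL : PicF.IsInvertible L) : Coh.IsCoh L :=
  haveI := CurveRR.isNoetherian_of_proper k X
  CurveRR.isCoh_of_inv hL

include k in
theorem isCoh_coker {P : X.Modules} (hP : PicF.IsInvertible P) (s : Coh.structureModule X ⟶ P) :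
    Coh.IsCoh (cokernel s) :=
  Groth.Agent.QC.isCoh_cokernel (isCoh_one k).1 (isCoh_inv k hP) s

variable [IsIntegral X]

include k in
theorem dim_coker_le (hdim : topologicalKrullDim X = 2) {P : X.Modules} (hP : PicF.IsInvertible P)
    (s : Coh.structureModule X ⟶ P) [Mono s] :
    topologicalKrullDim (CohB1.support (cokernel s)) ≤ ((1 : ℕ) : WithBot ℕ∞) := by
  rcases Intersect.coker_section_cases k hdim hP s with h | h
  · rw [Devissage.support_of_isZero (isZero_cokernel_of_epi s)]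
    haveI : IsEmpty (IrreducibleCloseds (∅ : Set X)) := ⟨fun c => c.isIrreducible.nonempty.elim fun x _ => x.2⟩
    exact le_of_eq_of_le Order.krullDim_eq_bot bot_le
  · exact h.le

/-- The sequence of a section twisted by an invertible module. -/
theorem seq_facts {P T : X.Modules} (hP : PicF.IsInvertible P) (hT : PicF.IsInvertible T)
    (s : Coh.structureModule X ⟶ P) [Mono s] :
    CurveRR.h k T 0 ≤ CurveRR.h k (CohB1.tensorMod P T) 0 ∧
    CurveRR.h k (CohB1.tensorMod P T) 0 ≤ CurveRR.h k T 0 + CurveRR.h k (CohB1.tensorMod (cokernel s) T) 0 := by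
  have hS := shortExact_tmap hT (Devissage.cokSeq_shortExact s)
  have h₁ := isCoh_twist k (isCoh_one k) hT
  have h₂ := isCoh_twist k (isCoh_inv k hP) hT
  have e : CurveRR.h k (CohB1.tensorMod (Coh.structureModule X) T) 0 = CurveRR.h k T 0 :=
    CurveRR.h_eq_of_iso (TMul.leftUnitIso T) 0
  have a := h0_le_of_mono k hS h₂
  have b := h0_middle k hS h₁ h₂ (isCoh_twist k (isCoh_coker k hP s) hT)
  change CurveRR.h k (CohB1.tensorMod (Coh.structureModule X) T) 0 ≤ CurveRR.h k (CohB1.tensorMod P T) 0 at a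
  change CurveRR.h k (CohB1.tensorMod P T) 0 ≤ CurveRR.h k (CohB1.tensorMod (Coh.structureModule X) T) 0 +
    CurveRR.h k (CohB1.tensorMod (cokernel s) T) 0 at b
  rw [e] at a b
  exact ⟨a, b⟩

theorem h0_twist_antitone {B B' : X.Modules} (hB : PicF.IsInvertible B)
    (hBB' : Nonempty (CohB1.tensorMod B B' ≅ Coh.structureModule X))
    (s : Coh.structureModule X ⟶ B) [Mono s] {G : X.Modules} (hG : PicF.IsInvertible G) (t : ℕ) :
    CurveRR.h k (CohB1.tensorMod G (CohB1.tensorPow B' (t + 1))) 0 ≤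
      CurveRR.h k (CohB1.tensorMod G (CohB1.tensorPow B' t)) 0 := by
  have hB' := Intersect.isInvertible_inverse hB hBB'
  refine ((seq_facts k hB (TMul.isInvertible_tensorMod hG (TMul.isInvertible_tensorPow hB' (t + 1))) s).1).trans_eq ?_
  refine h_congr k ?_ 0
  simp only [cl_tensor, cl_pow, pow_succ]
  rw [show PicF.cl B * (PicF.cl G * (PicF.cl B' ^ t * PicF.cl B')) =
    PicF.cl G * PicF.cl B' ^ t * (PicF.cl B * PicF.cl B') from by ac_rfl, cl_inv hBB', mul_one]

theorem h0_le_iter {B B' : X.Modules} (hB : PicF.IsInvertible B)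
    (hBB' : Nonempty (CohB1.tensorMod B B' ≅ Coh.structureModule X))
    (s : Coh.structureModule X ⟶ B) [Mono s] {G : X.Modules} (hG : PicF.IsInvertible G) (K : ℚ)
    (hK : ∀ w : ℕ, (CurveRR.h k (CohB1.tensorMod (cokernel s) (CohB1.tensorMod G (CohB1.tensorPow B' w))) 0 : ℚ) ≤ K) :
    ∀ t : ℕ, (CurveRR.h k G 0 : ℚ) ≤ CurveRR.h k (CohB1.tensorMod G (CohB1.tensorPow B' t)) 0 + t * K
  | 0 => by
    rw [h_congr k (show PicF.cl G = PicF.cl (CohB1.tensorMod G (CohB1.tensorPow B' 0)) by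
      rw [cl_tensor, cl_pow, pow_zero, mul_one]) 0]
    simp
  | t + 1 => by
    have hB' := Intersect.isInvertible_inverse hB hBB'
    have h := (seq_facts k hB (TMul.isInvertible_tensorMod hG (TMul.isInvertible_tensorPow hB' (t + 1))) s).2
    rw [h_congr k (show PicF.cl (CohB1.tensorMod B (CohB1.tensorMod G (CohB1.tensorPow B' (t + 1)))) =
        PicF.cl (CohB1.tensorMod G (CohB1.tensorPow B' t)) by
      simp only [cl_tensor, cl_pow, pow_succ]
      rw [show PicF.cl B * (PicF.cl G * (PicF.cl B' ^ t * PicF.cl B')) =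
        PicF.cl G * PicF.cl B' ^ t * (PicF.cl B * PicF.cl B') from by ac_rfl, cl_inv hBB', mul_one]) 0] at h
    have h' : (CurveRR.h k (CohB1.tensorMod G (CohB1.tensorPow B' t)) 0 : ℚ) ≤
        CurveRR.h k (CohB1.tensorMod G (CohB1.tensorPow B' (t + 1))) 0 +
          CurveRR.h k (CohB1.tensorMod (cokernel s) (CohB1.tensorMod G (CohB1.tensorPow B' (t + 1)))) 0 := by
      exact_mod_cast h
    push_cast
    linarith [h0_le_iter hB hBB' s hG K hK t, hK (t + 1)]

/-- Twisting down along an inverse power is injective on sections, if it avoids the associated points. -/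
theorem h0_down_le {Q R P : X.Modules} (hQ : Coh.IsCoh Q) (hR : PicF.IsInvertible R) (hP : PicF.IsInvertible P)
    {τ : P ⟶ Coh.structureModule X} {U : X.Opens} (hτ : NegTwist.IsLocusOf τ U)
    (hU : ∀ y : X, Curv2.IsAssPoint Q y → y ∈ U) :
    CurveRR.h k (CohB1.tensorMod Q (CohB1.tensorMod R P)) 0 ≤ CurveRR.h k (CohB1.tensorMod Q R) 0 := by
  haveI := CurveRR.isNoetherian_of_proper k X
  let ψ : CohB1.tensorMod R P ≅ CohB1.tensorMod R P := Iso.refl _
  let V := fun M : X.Modules => (CohIII.globalSectionsA k).obj M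
  let φ : V (CohB1.tensorMod Q (CohB1.tensorMod R P)) →ₗ[k] V (CohB1.tensorMod Q R) :=
    ((CohIII.globalSectionsA k).map (NegTwist.down Q ψ τ)).hom
  have hinj : Function.Injective φ :=
    NegTwist.down_app_injective hQ.1 hR (TMul.isInvertible_tensorMod hR hP) hP ψ hτ hU ⊤
  haveI : Module.Finite k (V (CohB1.tensorMod Q R)) :=
    haveI := CohFinite.finite_proper k X _ (isCoh_twist k hQ hR) 0
    Module.Finite.equiv (W7Cech.gsH0L k (CohB1.tensorMod Q R)).symm
  exact ((W7Cech.gsH0L k _).finrank_eq.ge.trans (LinearMap.finrank_le_finrank_of_injective hinj)).trans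
    (W7Cech.gsH0L k _).finrank_eq.le

/-- Sections of a module with support of dimension one, uniformly in negative twists. -/
theorem exists_uniform_bound {Q A B B' : X.Modules} (hQ : Coh.IsCoh Q)
    (hd : topologicalKrullDim (CohB1.support Q) ≤ ((1 : ℕ) : WithBot ℕ∞)) (hA : CohB1.IsAmple A)
    (hB : CohB1.IsAmple B) (hBB' : Nonempty (CohB1.tensorMod B B' ≅ Coh.structureModule X)) :
    ∃ c b : ℚ, 0 ≤ c ∧ 0 ≤ b ∧ ∀ n w : ℕ,
      (CurveRR.h k (CohB1.tensorMod Q (CohB1.tensorMod (CohB1.tensorPow A n) (CohB1.tensorPow B' w))) 0 : ℚ) ≤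
        c * n + b := by
  classical
  haveI := CurveRR.isNoetherian_of_proper k X
  have hB' := Intersect.isInvertible_inverse hB.1 hBB'
  have hfin : {x : X | x ∈ (⊤ : X.Opens) ∧ Curv2.IsAssPoint Q x}.Finite :=
    Groth.Agent.S1576.result X Q hQ ⊤ isCompact_univ
  obtain ⟨m, σ, hσass, -, -⟩ := TMul.exists_finite_le hB hfin (U := ⊤) (fun x hx => hx.1)
  obtain ⟨eB⟩ := hBB'
  obtain ⟨e⟩ := NegTwist.nonempty_pow_tensor_pow eB (m + 1)
  obtain ⟨τ, hτ⟩ := NegTwist.exists_locus_map (TMul.isInvertible_tensorPow hB.1 (m + 1)) e σ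
  have hF : ∀ ρ : ℕ, Coh.IsCoh (CohB1.tensorMod Q (CohB1.tensorPow B' ρ)) := fun ρ =>
    isCoh_twist k hQ (TMul.isInvertible_tensorPow hB' ρ)
  choose C hC using fun ρ : ℕ => Intersect.exists_h0_bound k hA 1 (hF ρ)
    ((dim_support_twist hQ _).trans hd)
  let c : ℕ → ℚ := fun ρ => |(-1 : ℚ) ^ 1 *
    alt (χt k (CohB1.tensorMod Q (CohB1.tensorPow B' ρ)) fun _ : Fin 1 => A) / ((Nat.factorial 1 : ℕ) : ℚ)|
  refine ⟨∑ ρ ∈ Finset.range (m + 1), c ρ, ∑ ρ ∈ Finset.range (m + 1), |C ρ|,
    Finset.sum_nonneg fun _ _ => abs_nonneg _, Finset.sum_nonneg fun _ _ => abs_nonneg _, fun n w => ?_⟩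
  let f : ℕ → ℕ := fun w =>
    CurveRR.h k (CohB1.tensorMod Q (CohB1.tensorMod (CohB1.tensorPow A n) (CohB1.tensorPow B' w))) 0
  have hstep : ∀ ρ j, f (ρ + j * (m + 1)) ≤ f ρ := fun ρ j => by
    induction j with
    | zero => rw [Nat.zero_mul, Nat.add_zero]
    | succ j ih =>
      refine le_trans (le_trans (le_of_eq (h_congr k ?_ 0)) (h0_down_le k hQ
        (R := CohB1.tensorMod (CohB1.tensorPow A n) (CohB1.tensorPow B' (ρ + j * (m + 1))))
        (TMul.isInvertible_tensorMod (TMul.isInvertible_tensorPow hA.1 n) (TMul.isInvertible_tensorPow hB' _))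
        (TMul.isInvertible_tensorPow hB' (m + 1)) hτ fun y hy => hσass ⟨trivial, hy⟩)) ih
      simp only [cl_tensor, cl_pow, mul_assoc, ← pow_add]
      congr 3
      ring
  have hw : (f w : ℚ) ≤ f (w % (m + 1)) := by
    have h := hstep (w % (m + 1)) (w / (m + 1))
    rw [Nat.mod_add_div' w (m + 1)] at h
    exact_mod_cast h
  refine hw.trans ?_
  set ρ := w % (m + 1)
  have hρ : ρ ∈ Finset.range (m + 1) := Finset.mem_range.mpr (Nat.mod_lt _ (Nat.succ_pos m))
  have h1 := (abs_le.1 (hC ρ n)).2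
  simp only [pow_one, Nat.sub_self, pow_zero, mul_one] at h1
  rw [show (f ρ : ℚ) = (Module.finrank k (Coh.HH X (CohB1.tensorMod (CohB1.tensorPow A n)
      (CohB1.tensorMod Q (CohB1.tensorPow B' ρ))) 0) : ℚ) from congrArg Nat.cast (h_congr k (by
        simp only [cl_tensor]; ac_rfl) 0)]
  have h2 : c ρ ≤ ∑ ρ ∈ Finset.range (m + 1), c ρ := Finset.single_le_sum (fun _ _ => abs_nonneg _) hρ
  have h3 : |C ρ| ≤ ∑ ρ ∈ Finset.range (m + 1), |C ρ| :=
    Finset.single_le_sum (f := fun ρ => |C ρ|) (fun _ _ => abs_nonneg _) hρ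
  have h4 : (-1 : ℚ) * alt (χt k (CohB1.tensorMod Q (CohB1.tensorPow B' ρ)) fun _ : Fin 1 => A) / ((Nat.factorial 1 : ℕ) : ℚ) ≤ c ρ := by
    simp only [c, pow_one]
    exact le_abs_self _
  have hn : (0 : ℚ) ≤ n := Nat.cast_nonneg n
  nlinarith [le_abs_self (C ρ), mul_le_mul_of_nonneg_right (h4.trans h2) hn]

include k in
theorem subsingleton_h2_tensor (hdim : topologicalKrullDim X = 2) {P T : X.Modules} (hP : PicF.IsInvertible P)
    (hT : PicF.IsInvertible T) (s : Coh.structureModule X ⟶ P) [Mono s] (h : Subsingleton (Coh.HH X T 2)) :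
    Subsingleton (Coh.HH X (CohB1.tensorMod P T) 2) := by
  have hQ := isCoh_coker k hP s
  refine W7Hull.hh_subsingleton_middle (shortExact_tmap hT (Devissage.cokSeq_shortExact s)) 2 ?_ ?_
  · exact (CohFinite.hhEquiv k (TMul.leftUnitIso T) 2).toEquiv.subsingleton
  · exact subsingleton_of_support_le k 1 (isCoh_twist k hQ hT) ((dim_support_twist hQ T).trans (dim_coker_le k hdim hP s)) 2
      (by omega)

include k in
theorem subsingleton_h2_pow (hdim : topologicalKrullDim X = 2) {P T : X.Modules} (hP : PicF.IsInvertible P)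
    (hT : PicF.IsInvertible T) (s : Coh.structureModule X ⟶ P) [Mono s] (h : Subsingleton (Coh.HH X T 2)) :
    ∀ j : ℕ, Subsingleton (Coh.HH X (CohB1.tensorMod (CohB1.tensorPow P j) T) 2)
  | 0 => (CohFinite.hhEquiv k (TMul.leftUnitIso T) 2).toEquiv.subsingleton
  | j + 1 => by
    haveI := subsingleton_h2_tensor k hdim hP
      (TMul.isInvertible_tensorMod (TMul.isInvertible_tensorPow hP j) hT) s (subsingleton_h2_pow hdim hP hT s h j)
    obtain ⟨e⟩ := iso_of_cl (show PicF.cl (CohB1.tensorMod (CohB1.tensorPow P (j + 1)) T) =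
        PicF.cl (CohB1.tensorMod P (CohB1.tensorMod (CohB1.tensorPow P j) T)) by
      simp only [cl_tensor, cl_pow, pow_succ]; ac_rfl)
    exact (CohFinite.hhEquiv k e 2).toEquiv.subsingleton

end Groth.Agent.Nakai
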