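import Groth.Agent.Nakai.UnifVanish
import Groth.Agent.CohFinite.Proper
import Groth.Agent.SerrePn.ClosedTwist
import Groth.Agent.EulerMult.Basic
import Groth.Agent.Nakai.AlgEquiv

/-!
Invariance of Euler characteristics under twists of degree zero on curves, on proper schemes (Chow's lemma).
-/

set_option autoImplicit false
set_option backward.isDefEq.respectTransparency false
set_option linter.style.haveILetI false
set_option linter.unusedSectionVars false

universe u

open CategoryTheory CategoryTheory.Limits AlgebraicGeometry TopologicalSpace Opposite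
open Groth.Agent.Intersect
open Groth.Agent.SiteCoh (DirectAcyclic)
open Groth.Agent.CohFinite (tmap shortExact_tmap)

noncomputable section

namespace Groth.Agent.Nakai

variable {X Y : Scheme.{u}} (k : Type u) [Field k]

/-- Twisting by high powers of an ample module kills the higher direct images of a coherent module. -/
theorem exists_directAcyclic_twist [CompactSpace X] [IsLocallyNoetherian X] (π : Y ⟶ X) [IsProper π]
    {L : Y.Modules} (hL : CohB1.IsAmple L) {M : Y.Modules} (hM : Coh.IsCoh M) :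
    ∃ n₀ : ℕ, ∀ n, n₀ ≤ n → DirectAcyclic (Opens.grothendieckTopology X) (Opens.map π.base)
      (Coh.toAb (CohB1.tensorMod M (CohB1.tensorPow L n))) := by
  obtain ⟨ι, hι, V, hV, -, hcov⟩ := QC.exists_finite_affine_cover (X := X) (W := ⊤) (by simpa using isCompact_univ)
  have key : ∀ i, ∃ n₀ : ℕ, ∀ n, n₀ ≤ n → ∀ p : ℕ, Subsingleton (Coh.HH (π ⁻¹ᵁ V i).toScheme
      ((CohB1.tensorMod M (CohB1.tensorPow L n)).restrict (π ⁻¹ᵁ V i).ι) (p + 1)) := fun i => by
    have : IsNoetherianRing Γ(X, V i) := IsLocallyNoetherian.component_noetherian ⟨V i, hV i⟩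
    have hp : IsProper (π ∣_ V i) := IsZariskiLocalAtTarget.restrict (P := @IsProper) ‹_› (V i)
    have : CompactSpace (π ⁻¹ᵁ V i).toScheme :=
      isCompact_iff_compactSpace.mp (π.isCompact_preimage (hV i).isCompact)
    have hLi : CohB1.IsAmple (L.restrict (π ⁻¹ᵁ V i).ι) := TMul.isAmple_restrict _ hL
    obtain ⟨n₀, hn₀⟩ := CohFinite.vanish_ample ((π ∣_ V i) ≫ (hV i).isoSpec.hom) hLi
      (M := M.restrict (π ⁻¹ᵁ V i).ι) (CohFinite.isCoh_of_iso ((Scheme.Modules.restrictFunctorIsoPullback (π ⁻¹ᵁ V i).ι).app M).symm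
        (Groth.Agent.QC.isCoh_pullback _ hM))
    refine ⟨n₀, fun n hn p => ?_⟩
    obtain ⟨e⟩ := TMul.nonempty_restrictPowIso (π ⁻¹ᵁ V i).ι L n
    obtain ⟨t⟩ := TMul.nonempty_restrictTensorIso (π ⁻¹ᵁ V i).ι M (CohB1.tensorPow L n)
    exact CohQC.hh_subsingleton_of_iso (PicGrp.tensorModIso (Iso.refl _) e ≪≫ t) _ (hn₀ n hn p)
  choose n₀ hn₀ using key
  refine ⟨Finset.univ.sup n₀, fun n hn => CohFinite.directAcyclic_of_hh_vanish π _
    (haveI : M.IsQuasicoherent := hM.1; TMul.isQCoh_tensor (TMul.isInvertible_tensorPow hL.1 _)) V hV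
    (fun s => hcov s trivial) fun i p => hn₀ i _ ((Finset.le_sup (Finset.mem_univ i)).trans hn) p⟩

variable [X.Over (Spec (CommRingCat.of k))] [IsProper (X ↘ Spec (CommRingCat.of k))]

/-- Acyclic direct images preserve Euler characteristics. -/
theorem euler_push_acyclic [Y.Over (Spec (CommRingCat.of k))] (g : Y ⟶ X)
    (hg : g ≫ (X ↘ Spec (CommRingCat.of k)) = Y ↘ Spec (CommRingCat.of k)) (M : Y.Modules)
    (hM : DirectAcyclic (Opens.grothendieckTopology X) (Opens.map g.base) (Coh.toAb M)) :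
    Curv2.euler k Y M = Curv2.euler k X ((Scheme.Modules.pushforward g).obj M) :=
  finsum_congr fun i => by
    obtain ⟨e⟩ := CohFinite.hh_push_linear k g hg M hM i
    rw [e.finrank_eq]

/-- Degree zero on curves implies invariance of all Euler characteristics. -/
theorem inv_of_degFlat {N : X.Modules} (hN : PicF.IsInvertible N) (hf : DegFlat k N) {F : X.Modules}
    (hF : Coh.IsCoh F) : Curv2.euler k X (CohB1.tensorMod F N) = Curv2.euler k X F := by
  haveI := CurveRR.isNoetherian_of_proper k X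
  rcases isEmpty_or_nonempty X with hX | hX
  · exact CurveRR.euler_eq_of_iso ((GrT.isZero_modules_of_subsingleton fun U s =>
      Groth.Agent.QC.section_eq_of_locally fun x _ => (IsEmpty.false x).elim).iso
        (GrT.isZero_modules_of_subsingleton fun U s =>
      Groth.Agent.QC.section_eq_of_locally fun x _ => (IsEmpty.false x).elim))
  refine Devissage.roots (fun M => Curv2.euler k X (CohB1.tensorMod M N) = Curv2.euler k X M)
    (fun M M' ⟨e⟩ h => ?_) (fun S hS h₁ h₂ h₃ => ?_) (fun G d hd hG h => ?_) (fun Z i _ _ => ?_) F hF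
  · rw [← CurveRR.euler_eq_of_iso (PicGrp.tensorModIso e (Iso.refl N)), h, CurveRR.euler_eq_of_iso e]
  · have a := CurveRR.euler_add (k := k) (shortExact_tmap hN hS) (isCoh_twist k h₁ hN) (isCoh_twist k h₂ hN)
      (isCoh_twist k h₃ hN)
    have b := CurveRR.euler_add (k := k) hS h₁ h₂ h₃
    change Curv2.euler k X (CohB1.tensorMod S.X₂ N) =
      Curv2.euler k X (CohB1.tensorMod S.X₁ N) + Curv2.euler k X (CohB1.tensorMod S.X₃ N) at a
    constructor <;> intro p q <;> linarith
  · rw [EulerMult.euler_coprod_tensor (k := k) G N d (isCoh_twist k hG hN) (isCoh_twist k (EulerMult.isCoh_power G hG d) hN),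
      EulerMult.euler_coprod (k := k) G hG d] at h
    exact mul_left_cancel₀ (by exact_mod_cast (show d ≠ 0 by omega)) h
  letI : Z.Over (Spec (CommRingCat.of k)) := ⟨i ≫ (X ↘ Spec (CommRingCat.of k))⟩
  haveI : IsProper (Z ↘ Spec (CommRingCat.of k)) := inferInstanceAs (IsProper (i ≫ _))
  haveI := CurveRR.isNoetherian_of_proper k Z
  obtain ⟨n', Z', π, j, hj, hjf, hπ, -, U, hU, hiso, -⟩ := Chow.exists_chow (Z ↘ Spec (CommRingCat.of k))
    TopologicalSpace.NoetherianSpace.finite_irreducibleComponents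
  letI : Z'.Over (Spec (CommRingCat.of k)) := ⟨π ≫ (Z ↘ Spec (CommRingCat.of k))⟩
  haveI : IsProper (Z' ↘ Spec (CommRingCat.of k)) := inferInstanceAs (IsProper (π ≫ _))
  haveI := CurveRR.isNoetherian_of_proper k Z'
  let L := (Scheme.Modules.pullback j).obj (Twist.twistOver n' (Spec (CommRingCat.of k)) 1)
  have hL : CohB1.IsAmple L := ProjMor.isAmple_of_isRelVeryAmplePn (π ≫ (Z ↘ Spec (CommRingCat.of k)))
    ⟨n', j, hj, hjf, ⟨Iso.refl _⟩⟩
  let N₁ := (Scheme.Modules.pullback i).obj N
  have hN₁ : PicF.IsInvertible N₁ := PicLoc.isInvertible_pullback i hN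
  let N' := (Scheme.Modules.pullback π).obj N₁
  have hN' : PicF.IsInvertible N' := PicLoc.isInvertible_pullback π hN₁
  obtain ⟨a, ha⟩ := exists_directAcyclic_twist π hL (CurveRR.isCoh_of_inv (TMul.isInvertible_structureModule (X := Z')))
  obtain ⟨b, hb⟩ := exists_directAcyclic_twist π hL (CurveRR.isCoh_of_inv hN')
  let G := CohB1.tensorMod (Coh.structureModule Z') (CohB1.tensorPow L (max a b))
  have hGi : PicF.IsInvertible G :=
    TMul.isInvertible_tensorMod TMul.isInvertible_structureModule (TMul.isInvertible_tensorPow hL.1 _)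
  have hG : Coh.IsCoh G := CurveRR.isCoh_of_inv hGi
  let H := (Scheme.Modules.pushforward π).obj G
  have hH : Coh.IsCoh H := isCoh_push' π hG
  haveI : H.IsQuasicoherent := hH.1
  refine ⟨H, hH, CohFinite.nontrivial_stalk_push π hGi hU.nonempty, ?_⟩
  haveI : Coh.IsQCoh (CohB1.tensorMod H N₁) := TMul.isQCoh_tensor hN₁
  have key : Curv2.euler k Z (CohB1.tensorMod H N₁) = Curv2.euler k Z H := by
    obtain ⟨p⟩ := SerrePn.nonempty_pushTwist π G hN₁
    have h1 : DegFlat k (X := Z') N' := fun M hM hd => by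
      refine D_one_pullback k π rfl hN₁ (fun M₁ hM₁ hd₁ => ?_) hM hd
      exact D_one_pullback k i rfl hN hf hM₁ hd₁
    obtain ⟨dZ, hdZ⟩ := exists_dim_bound k (X := Z')
    have hinv : Curv2.euler k Z' (CohB1.tensorMod G N') = Curv2.euler k Z' G :=
      (unif k hL dZ G hG ((topologicalKrullDim_subspace_le Z' _).trans hdZ)).1 N' hN' h1
    let e : CohB1.tensorMod G N' ≅ CohB1.tensorMod N' (CohB1.tensorPow L (max a b)) :=
      PicGrp.tensorModIso (TMul.leftUnitIso _) (Iso.refl _) ≪≫ TMul.commIso _ _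
    rw [CurveRR.euler_eq_of_iso p,
      ← CurveRR.euler_eq_of_iso ((Scheme.Modules.pushforward π).mapIso e.symm),
      ← euler_push_acyclic k π rfl _ (hb _ (le_max_right a b)), CurveRR.euler_eq_of_iso e.symm, hinv]
    exact euler_push_acyclic k π rfl _ (ha _ (le_max_left a b))
  obtain ⟨e2⟩ := SerrePn.nonempty_pushTwist i H hN
  rw [CurveRR.euler_eq_of_iso e2, CurveRR.Multi.euler_push k i _ (TMul.isQCoh_tensor hN₁),
    CurveRR.Multi.euler_push k i _ hH.1]
  exact key

end Groth.Agent.Nakai
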