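import Groth.Agent.Intersect.Numer
import Groth.Agent.Intersect.Misc

/-!
Intersection numbers indexed by lists: symmetry and linearity.
-/

set_option autoImplicit false
set_option backward.isDefEq.respectTransparency false
set_option linter.style.haveILetI false
set_option linter.unusedSectionVars false

universe u

open CategoryTheory CategoryTheory.Limits AlgebraicGeometry TopologicalSpace
open Groth.Agent.Intersect

noncomputable section

namespace Groth.Agent.Nakai

variable {X : Scheme.{u}} (k : Type u) [Field k] [X.Over (Spec (CommRingCat.of k))] [IsProper (X ↘ Spec (CommRingCat.of k))]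

/-- Iterated differences of Euler characteristics. -/
def D : List X.Modules → X.Modules → ℚ
  | [], F => (Curv2.euler k X F : ℚ)
  | A :: l, F => D l F - D l (CohB1.tensorMod F A)

theorem D_ofFn : ∀ {r : ℕ} (M : Fin r → X.Modules) (F : X.Modules), D k (List.ofFn M) F = alt (χt k F M)
  | 0, M, F => by rw [alt_zero]; rfl
  | r + 1, M, F => by
    rw [List.ofFn_succ, D, D_ofFn, D_ofFn]
    conv_rhs => rw [← Fin.cons_self_tail M, alt_cons]
    rfl

theorem D_get (l : List X.Modules) (F : X.Modules) : D k l F = alt (χt k F l.get) := by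
  conv_lhs => rw [← List.ofFn_get l]
  exact D_ofFn k l.get F

theorem D_replicate (A : X.Modules) (r : ℕ) (F : X.Modules) :
    D k (List.replicate r A) F = alt (χt k F fun _ : Fin r => A) := by
  rw [← List.ofFn_const, D_ofFn]

theorem D_iso : ∀ (l : List X.Modules) {F G : X.Modules}, (F ≅ G) → D k l F = D k l G
  | [], F, G, e => by rw [D, D, CurveRR.euler_eq_of_iso e]
  | A :: l, F, G, e => by rw [D, D, D_iso l e, D_iso l (PicGrp.tensorModIso e (Iso.refl A))]

theorem D_perm {l l' : List X.Modules} (h : l.Perm l') : ∀ F : X.Modules, D k l F = D k l' F := by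
  induction h with
  | nil => exact fun F => rfl
  | cons A _ ih => exact fun F => by rw [D, D, ih, ih]
  | swap A B l =>
    intro F
    simp only [D]
    rw [D_iso k l (TMul.assocIso F A B ≪≫ PicGrp.tensorModIso (Iso.refl F) (TMul.commIso A B) ≪≫
      (TMul.assocIso F B A).symm)]
    ring
  | trans _ _ ih ih' => exact fun F => (ih F).trans (ih' F)

theorem forall_get {l : List X.Modules} (hl : ∀ A ∈ l, PicF.IsInvertible A) :
    ∀ i, PicF.IsInvertible (l.get i) := fun i => hl _ (List.get_mem l i)

theorem D_cons_get (A : X.Modules) (l : List X.Modules) (F : X.Modules) :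
    D k (A :: l) F = alt (χt k F (Fin.cons A l.get)) := by
  rw [D, D_get, D_get, alt_cons]

theorem D_tensor {F A B : X.Modules} (hF : Coh.IsCoh F) (hA : PicF.IsInvertible A) (hB : PicF.IsInvertible B)
    {l : List X.Modules} (hl : ∀ M ∈ l, PicF.IsInvertible M) {e : ℕ} (he : e = l.length + 1)
    (hd : topologicalKrullDim (CohB1.support F) ≤ (e : WithBot ℕ∞)) :
    D k (CohB1.tensorMod A B :: l) F = D k (A :: l) F + D k (B :: l) F := by
  rw [D_cons_get, D_cons_get, D_cons_get,
    alt_additive k hF hA hB (forall_get hl) (lt_succ_of_le' (hd.trans_eq (by rw [he])))]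

theorem D_pow {F A : X.Modules} (hF : Coh.IsCoh F) (hA : PicF.IsInvertible A)
    {l : List X.Modules} (hl : ∀ M ∈ l, PicF.IsInvertible M) {e : ℕ} (he : e = l.length + 1)
    (hd : topologicalKrullDim (CohB1.support F) ≤ (e : WithBot ℕ∞)) (n : ℕ) :
    D k (CohB1.tensorPow A n :: l) F = (n : ℚ) * D k (A :: l) F := by
  rw [D_cons_get, D_cons_get, alt_cons_pow k hF hA (forall_get hl) (hd.trans_eq (by rw [he])) n]

theorem D_eq_zero {F : X.Modules} (hF : Coh.IsCoh F) {l : List X.Modules} (hl : ∀ M ∈ l, PicF.IsInvertible M)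
    (hd : topologicalKrullDim (CohB1.support F) < (l.length : WithBot ℕ∞)) : D k l F = 0 := by
  rw [D_get, alt_eq_zero_of_dim k hF (forall_get hl) hd]

end Groth.Agent.Nakai
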