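import Groth.Agent.Nakai.RootBound
import Groth.Agent.Nakai.SymList
import Groth.Agent.Nakai.ProjCover
import Groth.Agent.Nakai.Main

/-!
Kleiman's theorem: intersection numbers of nef modules are non-negative.
-/

set_option autoImplicit false
set_option backward.isDefEq.respectTransparency false
set_option linter.style.haveILetI false
set_option linter.unusedSectionVars false

universe u

open CategoryTheory CategoryTheory.Limits AlgebraicGeometry TopologicalSpace
open Groth.Agent.Intersect
open Groth.Agent.CurveRR.Multi (lenAt)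
open Groth.Agent.CohFinite (hhEquiv)

noncomputable section

namespace Groth.Agent.Nakai

variable {X : Scheme.{u}} (k : Type u) [Field k] [X.Over (Spec (CommRingCat.of k))] [IsProper (X ↘ Spec (CommRingCat.of k))]

/-- Non-negative degree on everything of dimension at most one. -/
def Nef (L : X.Modules) : Prop :=
  ∀ F : X.Modules, Coh.IsCoh F → topologicalKrullDim (CohB1.support F) ≤ ((1 : ℕ) : WithBot ℕ∞) →
    Curv2.euler k X F ≤ Curv2.euler k X (CohB1.tensorMod F L)

theorem D_one (L F : X.Modules) :
    D k [L] F = (Curv2.euler k X F : ℚ) - Curv2.euler k X (CohB1.tensorMod F L) := rfl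

theorem lenAt_nonneg (F : X.Modules) (ξ : X) : 0 ≤ lenAt F ξ := by rw [lenAt]; exact Int.natCast_nonneg _

/-- Nefness is tested on integral curves. -/
theorem nef_of_pieces {L : X.Modules} (hL : PicF.IsInvertible L)
    (h : ∀ ξ : X, topologicalKrullDim (closure ({ξ} : Set X)) = ((1 : ℕ) : WithBot ℕ∞) →
      Curv2.euler k X (Devissage.A ξ) ≤ Curv2.euler k X (CohB1.tensorMod (Devissage.A ξ) L)) : Nef k L := by
  intro F hF hd
  obtain ⟨T, hT⟩ := exists_top_finset k hF hd
  have h1 := alt_comp k F hF hd (L := fun _ : Fin 1 => L) (fun _ => hL) T hT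
  simp only [← D_replicate] at h1
  have h2 : ∀ G : X.Modules, D k (List.replicate 1 L) G =
      (Curv2.euler k X G : ℚ) - Curv2.euler k X (CohB1.tensorMod G L) := fun G => rfl
  simp only [h2] at h1
  have h3 : (∑ ξ ∈ T, (lenAt F ξ : ℚ) * ((Curv2.euler k X (Devissage.A ξ) : ℚ) -
      Curv2.euler k X (CohB1.tensorMod (Devissage.A ξ) L))) ≤ 0 :=
    Finset.sum_nonpos fun ξ hξ => mul_nonpos_of_nonneg_of_nonpos
      (by exact_mod_cast lenAt_nonneg F ξ) (sub_nonpos.2 (by exact_mod_cast h ξ ((hT ξ).1 hξ).2))
  rw [← h1, sub_nonpos] at h3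
  exact_mod_cast h3

theorem nef_pullback {Y : Scheme.{u}} [Y.Over (Spec (CommRingCat.of k))] [IsProper (Y ↘ Spec (CommRingCat.of k))]
    (g : Y ⟶ X) [IsProper g] (hg : g ≫ (X ↘ Spec (CommRingCat.of k)) = Y ↘ Spec (CommRingCat.of k))
    {L : X.Modules} (hL : PicF.IsInvertible L) (h : Nef k L) : Nef k ((Scheme.Modules.pullback g).obj L) := by
  haveI := CurveRR.isNoetherian_of_proper k X
  intro G hG hd
  have hP := isCoh_push' g hG
  have hcl := g.isClosedMap _ (Groth.Agent.QC.isClosed_support hG.2)
  have hdim : topologicalKrullDim (CohB1.support ((Scheme.Modules.pushforward g).obj G)) ≤ ((1 : ℕ) : WithBot ℕ∞) :=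
    (dim_mono (support_push_subset g hcl le_rfl)).trans ((dim_image_le g (Groth.Agent.QC.isClosed_support hG.2)).trans hd)
  have h1 := alt_push k g hg 1 (fun _ => L) (fun _ => hL) G hG hd
  rw [← D_replicate, ← D_replicate] at h1
  have h2 := h _ hP hdim
  simp only [List.replicate_one, D_one] at h1
  have h3 : ((Curv2.euler k X ((Scheme.Modules.pushforward g).obj G) : ℚ)) ≤
      Curv2.euler k X (CohB1.tensorMod ((Scheme.Modules.pushforward g).obj G) L) := by exact_mod_cast h2
  have h4 : ((Curv2.euler k Y G : ℚ)) ≤ Curv2.euler k Y (CohB1.tensorMod G ((Scheme.Modules.pullback g).obj L)) := by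
    linarith
  exact_mod_cast h4

include k in
theorem isCoh_A_twist {ξ : X} {P : X.Modules} (hP : PicF.IsInvertible P) :
    Coh.IsCoh (((KFlat.schB X).obj (Devissage.A ξ)).obj P) :=
  haveI := CurveRR.isNoetherian_of_proper k X
  isCoh_twist k (Devissage.isCoh_A ξ) hP

/-- Cutting by an ample module. -/
theorem cons_ample_nonneg {H : X.Modules} (hH : CohB1.IsAmple H) {l : List X.Modules}
    (hl : ∀ M ∈ l, PicF.IsInvertible M) {r : ℕ} (hr : r = l.length)
    (h : ∀ G : X.Modules, Coh.IsCoh G → topologicalKrullDim (CohB1.support G) ≤ (r : WithBot ℕ∞) →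
      0 ≤ (-1 : ℚ) ^ r * D k l G)
    {F : X.Modules} (hF : Coh.IsCoh F) (hd : topologicalKrullDim (CohB1.support F) ≤ ((r + 1 : ℕ) : WithBot ℕ∞)) :
    0 ≤ (-1 : ℚ) ^ (r + 1) * D k (H :: l) F := by
  subst hr
  haveI := CurveRR.isNoetherian_of_proper k X
  have hM : ∀ i, PicF.IsInvertible ((Fin.cons H l.get : Fin (l.length + 1) → X.Modules) i) :=
    isInvertible_cons hH.1 (forall_get hl)
  obtain ⟨T, hT⟩ := exists_top_finset k hF hd
  rw [D_cons_get, alt_comp k F hF hd hM T hT, Finset.mul_sum]
  refine Finset.sum_nonneg fun ξ hξ => ?_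
  rw [mul_left_comm, ← D_cons_get]
  refine mul_nonneg (by exact_mod_cast lenAt_nonneg F ξ) ?_
  have hξd := ((hT ξ).1 hξ).2
  obtain ⟨n, s, hξs, -, -⟩ := TMul.exists_mem_le hH (x := ξ) (U := ⊤) trivial
  let P := CohB1.tensorPow H (n + 1)
  have hP : PicF.IsInvertible P := TMul.isInvertible_tensorPow hH.1 _
  let φ := ((KFlat.schB X).obj (Devissage.A ξ)).map s
  haveI : Mono φ := mono_A_tensor_section ξ hP s hξs
  have hA := Devissage.isCoh_A ξ
  have hAO : Coh.IsCoh (((KFlat.schB X).obj (Devissage.A ξ)).obj (Coh.structureModule X)) :=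
    isCoh_A_twist k TMul.isInvertible_structureModule
  have hAP : Coh.IsCoh (((KFlat.schB X).obj (Devissage.A ξ)).obj P) := isCoh_A_twist k hP
  have hQ : Coh.IsCoh (cokernel φ) := Groth.Agent.QC.isCoh_cokernel hAO.1 hAP φ
  have hS := Devissage.cokSeq_shortExact φ
  have hQsub : CohB1.support (cokernel φ) ⊆ closure {ξ} := fun x hx =>
    support_tensor_subset isClosed_closure (Devissage.support_A_subset ξ) P
      ((ClSubLib.support_shortExact _ hS).symm ▸ Or.inr hx)
  have hQξ : ξ ∉ CohB1.support (cokernel φ) := by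
    haveI := isIso_stalk_of_mem_genLocus s hξs
    refine Devissage.notMem_support_of_surjective _ hS _ fun m => ?_
    exact (@ConcreteCategory.bijective_of_isIso _ _ _ _ _ _ _ _ ((DerSch.stalkFunctor X ξ).map φ) (by
        haveI : IsIso ((KFlat.stTensorIso (Devissage.A ξ) (Coh.structureModule X) ξ).hom ≫
            (DerSch.stalkFunctor X ξ).map (((KFlat.schB X).map (𝟙 (Devissage.A ξ))).app _ ≫ φ)) := by
          rw [← KFlat.stTensorIso_natural (𝟙 (Devissage.A ξ)) s ξ]
          infer_instance
        have h1 := IsIso.of_isIso_comp_left (KFlat.stTensorIso (Devissage.A ξ) (Coh.structureModule X) ξ).hom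
          ((DerSch.stalkFunctor X ξ).map (((KFlat.schB X).map (𝟙 (Devissage.A ξ))).app _ ≫ φ))
        rwa [CategoryTheory.Functor.map_id, NatTrans.id_app, Category.id_comp] at h1)).2 m
  have hQd : topologicalKrullDim (CohB1.support (cokernel φ)) ≤ (l.length : WithBot ℕ∞) :=
    le_of_lt_succ' (dim_proper_lt (lt_succ_of_le' hξd.le) (Groth.Agent.QC.isClosed_support hQ.2) hQsub hQξ)
  have hadd := congrArg alt (χt_add k (forall_get hl) hS hAO hAP hQ)
  rw [alt_add] at hadd
  change alt (χt k (CohB1.tensorMod (Devissage.A ξ) P) l.get) =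
    alt (χt k (CohB1.tensorMod (Devissage.A ξ) (Coh.structureModule X)) l.get) + alt (χt k (cokernel φ) l.get) at hadd
  rw [χt_iso k (TMul.commIso (Devissage.A ξ) (Coh.structureModule X) ≪≫ TMul.leftUnitIso _) l.get,
    ← D_get, ← D_get, ← D_get] at hadd
  have hAd : topologicalKrullDim (CohB1.support (Devissage.A ξ)) ≤ ((l.length + 1 : ℕ) : WithBot ℕ∞) :=
    (dim_mono (Devissage.support_A_subset ξ)).trans hξd.le
  have h1 := D_pow k hA hH.1 hl rfl hAd (n + 1)
  rw [D, hadd, sub_add_cancel_left] at h1
  have h2 := h _ hQ hQd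
  have hn : (0 : ℚ) < ((n + 1 : ℕ) : ℚ) := by exact_mod_cast Nat.succ_pos n
  by_contra hc
  push Not at hc
  have h3 := mul_neg_of_pos_of_neg hn hc
  rw [mul_left_comm, ← h1, pow_succ] at h3
  linarith

theorem mem_mix {H L : X.Modules} (hH : PicF.IsInvertible H) (hL : PicF.IsInvertible L) (a m : ℕ) :
    ∀ M ∈ List.replicate a H ++ List.replicate m L, PicF.IsInvertible M := fun M hM => by
  rcases List.mem_append.mp hM with h | h <;> rw [List.eq_of_mem_replicate h] <;> assumption

/-- Mixed numbers from the pure ones, by cutting with the ample module. -/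
theorem mix_nonneg {H L : X.Modules} (hH : CohB1.IsAmple H) (hL : PicF.IsInvertible L) (m : ℕ)
    (hm : ∀ F : X.Modules, Coh.IsCoh F → topologicalKrullDim (CohB1.support F) ≤ (m : WithBot ℕ∞) →
      0 ≤ (-1 : ℚ) ^ m * D k (List.replicate m L) F) :
    ∀ (a : ℕ) (F : X.Modules), Coh.IsCoh F → topologicalKrullDim (CohB1.support F) ≤ ((a + m : ℕ) : WithBot ℕ∞) →
      0 ≤ (-1 : ℚ) ^ (a + m) * D k (List.replicate a H ++ List.replicate m L) F
  | 0, F, hF, hd => by simpa using hm F hF (by simpa using hd)
  | a + 1, F, hF, hd => by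
    rw [show a + 1 + m = a + m + 1 by omega] at hd ⊢
    exact cons_ample_nonneg k hH (mem_mix hH.1 hL a m) (by simp) (mix_nonneg hH hL m hm a) hF hd

/-- Expansion of the self-intersection of `L^p ⊗ H^q`. -/
theorem D_expand {H L : X.Modules} (hH : PicF.IsInvertible H) (hL : PicF.IsInvertible L) {p : ℕ} (hp : 0 < p) (q : ℕ)
    {F : X.Modules} (hF : Coh.IsCoh F) (e : ℕ) (hd : topologicalKrullDim (CohB1.support F) ≤ (e : WithBot ℕ∞)) :
    ∀ j a m : ℕ, j + a + m = e →
      (-1 : ℚ) ^ e * D k (List.replicate j (CohB1.tensorMod (CohB1.tensorPow L p) (CohB1.tensorPow H q)) ++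
          (List.replicate a H ++ List.replicate m L)) F =
        (p : ℚ) ^ j * g (fun i => (-1 : ℚ) ^ e * D k (List.replicate i H ++ List.replicate (e - i) L) F)
          ((q : ℚ) / p) j a
  | 0, a, m, he => by
    rw [pow_zero, one_mul, g, show e - a = m by omega]
    rfl
  | j + 1, a, m, he => by
    have hA : PicF.IsInvertible (CohB1.tensorMod (CohB1.tensorPow L p) (CohB1.tensorPow H q)) :=
      TMul.isInvertible_tensorMod (TMul.isInvertible_tensorPow hL p) (TMul.isInvertible_tensorPow hH q)
    set A := CohB1.tensorMod (CohB1.tensorPow L p) (CohB1.tensorPow H q) with hAdef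
    have hl : ∀ M ∈ List.replicate j A ++ (List.replicate a H ++ List.replicate m L), PicF.IsInvertible M := fun M hM => by
      rcases List.mem_append.mp hM with h | h
      · rw [List.eq_of_mem_replicate h]; exact hA
      · exact mem_mix hH hL a m M h
    have hlen : e = (List.replicate j A ++ (List.replicate a H ++ List.replicate m L)).length + 1 := by
      simp; omega
    have h1 := D_tensor k hF (TMul.isInvertible_tensorPow hL p) (TMul.isInvertible_tensorPow hH q) hl hlen hd
    rw [D_pow k hF hL hl hlen hd p, D_pow k hF hH hl hlen hd q] at h1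
    have pL : (L :: (List.replicate j A ++ (List.replicate a H ++ List.replicate m L))).Perm
        (List.replicate j A ++ (List.replicate a H ++ List.replicate (m + 1) L)) := by
      refine List.perm_middle.symm.trans (List.Perm.append_left _ ?_)
      rw [List.replicate_succ]
      exact List.perm_middle.symm
    have pH : (H :: (List.replicate j A ++ (List.replicate a H ++ List.replicate m L))).Perm
        (List.replicate j A ++ (List.replicate (a + 1) H ++ List.replicate m L)) := by
      refine List.perm_middle.symm.trans (List.Perm.append_left _ ?_)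
      rw [List.replicate_succ]
      exact List.Perm.refl _
    rw [D_perm k pL, D_perm k pH] at h1
    rw [List.replicate_succ, List.cons_append, h1, g, mul_add,
      show (-1 : ℚ) ^ e * ((p : ℚ) * D k (List.replicate j A ++ (List.replicate a H ++ List.replicate (m + 1) L)) F) =
        (p : ℚ) * ((-1 : ℚ) ^ e * D k (List.replicate j A ++ (List.replicate a H ++ List.replicate (m + 1) L)) F) by ring,
      show (-1 : ℚ) ^ e * ((q : ℚ) * D k (List.replicate j A ++ (List.replicate (a + 1) H ++ List.replicate m L)) F) =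
        (q : ℚ) * ((-1 : ℚ) ^ e * D k (List.replicate j A ++ (List.replicate (a + 1) H ++ List.replicate m L)) F) by ring,
      D_expand hH hL hp q hF e hd j a (m + 1) (by omega), D_expand hH hL hp q hF e hd j (a + 1) m (by omega)]
    have : (p : ℚ) ≠ 0 := by exact_mod_cast hp.ne'
    field_simp
    ring

omit [IsProper (X ↘ Spec (CommRingCat.of k))] in
theorem isIso_of_dim {n : ℕ} [IsIntegral X] (hX : topologicalKrullDim X = (n : WithBot ℕ∞)) {Y : Scheme.{u}}
    (ι : Y ⟶ X) [IsClosedImmersion ι] (hY : (n : WithBot ℕ∞) ≤ topologicalKrullDim Y) : IsIso ι := by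
  haveI : Surjective ι := ⟨fun x => by
    have hη : genericPoint X ∈ Set.range ι := by
      by_contra h
      have hu : closure ({genericPoint X} : Set X) = Set.univ := genericPoint_spec X
      have h1 := dim_proper_lt (X := X) (ξ := genericPoint X) (n := n)
        (lt_succ_of_le' ((topologicalKrullDim_subspace_le X _).trans hX.le))
        ι.isClosedEmbedding.isClosed_range (hu ▸ Set.subset_univ _) h
      rw [← IsHomeomorph.topologicalKrullDim_eq _ ι.isClosedEmbedding.isEmbedding.toHomeomorph.isHomeomorph] at h1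
      exact absurd hY (not_le.2 h1)
    exact (genericPoint_specializes x).mem_closed ι.isClosedEmbedding.isClosed_range hη⟩
  exact isIso_of_isClosedImmersion_of_surjective ι

end Groth.Agent.Nakai
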