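import Groth.Agent.Nakai.SurfBig
import Groth.Agent.Intersect.Hyper
import Groth.Agent.CurveRR.Easy

/-!
The Hodge index theorem on integral proper surfaces.
-/

set_option autoImplicit false
set_option backward.isDefEq.respectTransparency false
set_option linter.style.haveILetI false
set_option linter.unusedSectionVars false

universe u

open CategoryTheory CategoryTheory.Limits AlgebraicGeometry TopologicalSpace
open Groth.Agent.Intersect

noncomputable section

namespace Groth.Agent.Nakai

attribute [local instance] clMonoid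

variable {X : Scheme.{u}} (k : Type u) [Field k] [X.Over (Spec (CommRingCat.of k))] [IsProper (X ↘ Spec (CommRingCat.of k))]

include k in
theorem isIntegral_of_smooth_connected [Smooth (X ↘ Spec (CommRingCat.of k))] [ConnectedSpace X] : IsIntegral X := by
  haveI := CurveRR.isNoetherian_of_proper k X
  haveI : IsReduced X := Groth.Agent.SmoothRed.isReduced_of_smooth_scheme (X ↘ Spec (CommRingCat.of k))
  have hdom : ∀ x : X, IsDomain (X.presheaf.stalk x) := fun x => by
    haveI := SmLocalST.isRegularLocalRing_stalk_of_smooth_field (X ↘ Spec (CommRingCat.of k)) x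
    exact Groth.Agent.S0558.result _
  haveI : IrreducibleSpace X := Groth.Agent.CurveRR.Easy.irreducibleSpace_of_domain_stalks hdom
  exact isIntegral_of_irreducibleSpace_of_isReduced X

variable [IsIntegral X] (hdim : topologicalKrullDim X = 2)

include hdim

/-- A module of positive square with a section has positive degree. -/
theorem degree_pos_of_section {L H : X.Modules} (hL : PicF.IsInvertible L) (hH : CohB1.IsAmple H)
    (hLL : 0 < inter k L L) {n : ℕ} (hn : 0 < n) (h : 0 < CurveRR.h k (CohB1.tensorPow L n) 0) :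
    0 < inter k L H := by
  have hP := TMul.isInvertible_tensorPow hL n
  obtain ⟨s, hs⟩ := exists_section_of_h0 k h
  haveI : Mono s := CurveRR.mono_of_ne_zero TMul.isInvertible_structureModule hP s hs
  have hn' : (0 : ℚ) < n := by exact_mod_cast hn
  rcases Intersect.coker_section_cases k hdim hP s with hiso | hd
  · exfalso
    have h0 : inter k (CohB1.tensorPow L n) L = 0 := by
      rw [inter_iso k (A' := Coh.structureModule X) ((PicGrp.cl_eq_cl_iff _ _).2 ⟨(asIso s).symm⟩), inter_one]
    rw [inter_pow k hdim.le hL hL] at h0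
    nlinarith
  · have h1 := alt_pos k 1 _ (fun _ => hH) _ (isCoh_coker k hP s) hd
    have h2 := alt_coker_section k hP s (M := fun _ : Fin 1 => H) (fun _ => hH.1)
    have h3 : inter k (CohB1.tensorPow L n) H =
        alt (χt k (Coh.structureModule X) (Fin.cons (CohB1.tensorPow L n) fun _ : Fin 1 => H)) := by
      rw [inter, ← D_ofFn]
      rfl
    rw [inter_pow k hdim.le hL hH.1, h2] at h3
    rw [pow_one] at h1
    nlinarith

/-- Degree against one ample decides the sign against all. -/
theorem degree_pos {L H H₀ : X.Modules} (hL : PicF.IsInvertible L) (hH : CohB1.IsAmple H) (hH₀ : CohB1.IsAmple H₀)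
    (hLL : 0 < inter k L L) (hLH₀ : 0 < inter k L H₀) : 0 < inter k L H := by
  obtain ⟨n₀, h⟩ := eventually_sections k hdim hL hH₀ hLL hLH₀
  exact degree_pos_of_section k hdim hL hH hLL (Nat.succ_pos n₀) (h _ (Nat.le_succ n₀))

/-- Hodge index: the orthogonal complement of an ample class has nonpositive squares. -/
theorem self_nonpos {L H : X.Modules} (hL : PicF.IsInvertible L) (hH : CohB1.IsAmple H)
    (horth : inter k L H = 0) : inter k L L ≤ 0 := by
  by_contra hlt
  push Not at hlt
  haveI := CurveRR.isNoetherian_of_proper k X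
  haveI : X.IsSeparated := ⟨by
    rw [show terminal.from X = (X ↘ Spec (CommRingCat.of k)) ≫ terminal.from _ from terminal.hom_ext _ _]
    infer_instance⟩
  obtain ⟨b, -, hb⟩ := Groth.Agent.S2329.result X H L hH hL
  have h : 0 < inter k L (CohB1.tensorMod (CohB1.tensorPow H b) L) := by
    rw [inter_tensor_right k hdim.le (TMul.isInvertible_tensorPow hH.1 b) hL hL,
      inter_pow_right k hdim.le hH.1 hL, horth, mul_zero, zero_add]
    exact hlt
  exact absurd horth (degree_pos k hdim hL hH (hb b le_rfl).1 hlt h).ne'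

/-- Hodge index: the orthogonal complement of a class of positive square has nonpositive squares. -/
theorem self_nonpos_of_orth {L M H : X.Modules} (hL : PicF.IsInvertible L) (hM : PicF.IsInvertible M)
    (hH : CohB1.IsAmple H) (hLL : 0 < inter k L L) (horth : inter k L M = 0) : inter k M M ≤ 0 := by
  obtain ⟨L', hL', hLL'⟩ := W7Hull.exists_tensor_inverse hL
  obtain ⟨M', hM', hMM'⟩ := W7Hull.exists_tensor_inverse hM
  have hd := hdim.le
  obtain ⟨za, hza⟩ := alt_int k (Coh.structureModule X) ![L, H]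
  obtain ⟨zb, hzb⟩ := alt_int k (Coh.structureModule X) ![M, H]
  rw [← D_ofFn, show D k (List.ofFn ![L, H]) (Coh.structureModule X) = inter k L H from rfl] at hza
  rw [← D_ofFn, show D k (List.ofFn ![M, H]) (Coh.structureModule X) = inter k M H from rfl] at hzb
  have ha0 : inter k L H ≠ 0 := fun h0 => absurd (self_nonpos k hdim hL hH h0) (not_le.2 hLL)
  obtain ⟨L₁, hL₁, hLL₁, hor₁, a, ha, hpa⟩ : ∃ L₁ : X.Modules, PicF.IsInvertible L₁ ∧ 0 < inter k L₁ L₁ ∧
      inter k L₁ M = 0 ∧ ∃ a : ℕ, 0 < a ∧ inter k L₁ H = a := by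
    rcases Int.eq_nat_or_neg za with ⟨a, h | h⟩
    · refine ⟨L, hL, hLL, horth, a, Nat.pos_of_ne_zero fun h0 => ha0 ?_, ?_⟩
      · rw [hza, h, h0]; simp
      · rw [hza, h]; simp
    · refine ⟨L', hL', ?_, ?_, a, Nat.pos_of_ne_zero fun h0 => ha0 ?_, ?_⟩
      · rw [inter_inv k hd hL hLL' hL', inter_inv_right k hd hL hLL' hL, neg_neg]; exact hLL
      · rw [inter_inv k hd hL hLL' hM, horth, neg_zero]
      · rw [hza, h, h0]; simp
      · rw [inter_inv k hd hL hLL' hH.1, hza, h]; simp
  obtain ⟨L₁', hL₁', hLL₁'⟩ := W7Hull.exists_tensor_inverse hL₁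
  obtain ⟨M₁, hM₁, hMM₁, hor, b, hpb⟩ : ∃ M₁ : X.Modules, PicF.IsInvertible M₁ ∧
      inter k M₁ M₁ = inter k M M ∧ inter k L₁ M₁ = 0 ∧ ∃ b : ℕ, inter k M₁ H = b := by
    rcases Int.eq_nat_or_neg zb with ⟨b, h | h⟩
    · exact ⟨M, hM, rfl, hor₁, b, by rw [hzb, h]; simp⟩
    · refine ⟨M', hM', ?_, ?_, b, ?_⟩
      · rw [inter_inv k hd hM hMM' hM', inter_inv_right k hd hM hMM' hM, neg_neg]
      · rw [inter_inv_right k hd hM hMM' hL₁, hor₁, neg_zero]
      · rw [inter_inv k hd hM hMM' hH.1, hzb, h]; simp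
  let T := CohB1.tensorMod (CohB1.tensorPow M₁ a) (CohB1.tensorPow L₁' b)
  have h1 := TMul.isInvertible_tensorPow hM₁ a
  have h2 := TMul.isInvertible_tensorPow hL₁' b
  have hT : ∀ {C : X.Modules}, PicF.IsInvertible C →
      inter k T C = (a : ℚ) * inter k M₁ C - b * inter k L₁ C := fun {C} hC => by
    rw [inter_tensor k hd h1 h2 hC, inter_pow k hd hM₁ hC, inter_pow k hd hL₁' hC, inter_inv k hd hL₁ hLL₁' hC]
    ring
  have hTi : PicF.IsInvertible T := TMul.isInvertible_tensorMod h1 h2
  have hT0 := self_nonpos k hdim hTi hH (by rw [hT hH.1, hpa, hpb]; ring)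
  rw [hT hTi, inter_comm k M₁ T, inter_comm k L₁ T, hT hM₁, hT hL₁, hor, inter_comm k M₁ L₁, hor] at hT0
  have ha' : (0 : ℚ) < a := by exact_mod_cast ha
  rw [← hMM₁]
  by_contra hc
  push Not at hc
  nlinarith [mul_pos (mul_pos ha' ha') hc, mul_nonneg (mul_self_nonneg (b : ℚ)) hLL₁.le]

end Groth.Agent.Nakai
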