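import Groth.Agent.Nakai.NumDim
import Groth.Agent.Nakai.NefAmple
import Mathlib.RingTheory.KrullDimension.Regular

/-!
Zero loci of sections of invertible modules on integral proper schemes: dimension and degree.
-/

set_option autoImplicit false
set_option backward.isDefEq.respectTransparency false
set_option linter.style.haveILetI false
set_option linter.unusedSectionVars false

universe u

open CategoryTheory CategoryTheory.Limits AlgebraicGeometry TopologicalSpace
open Groth.Agent.Intersect

noncomputable section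

namespace Groth.Agent.Nakai

variable {X : Scheme.{u}} (k : Type u) [Field k] [X.Over (Spec (CommRingCat.of k))] [IsProper (X ↘ Spec (CommRingCat.of k))]
  [IsIntegral X]

include k in
/-- The zero locus of a nonzero section which vanishes somewhere has codimension one. -/
theorem dim_support_coker_eq {L : X.Modules} (hL : PicF.IsInvertible L) (s : Coh.structureModule X ⟶ L) [Mono s]
    (hs : s ≠ 0) {e : ℕ} (hX : topologicalKrullDim X = ((e + 1 : ℕ) : WithBot ℕ∞))
    (hne : (CohB1.support (cokernel s)).Nonempty) :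
    topologicalKrullDim (CohB1.support (cokernel s)) = (e : WithBot ℕ∞) := by
  haveI := CurveRR.isNoetherian_of_proper k X
  have hcl := Groth.Agent.QC.isClosed_support (isCoh_coker k hL s).2
  have hη : genericPoint X ∉ CohB1.support (cokernel s) :=
    CurveRR.notMem_support_coker s _ (CurveRR.surjective_stalk_generic hL s hs)
  refine le_antisymm (le_of_lt_succ' ?_) ?_
  · refine dim_proper_lt (X := X) (ξ := genericPoint X) (n := e + 1) ?_ hcl (fun x _ => ?_) hη
    · rw [genericPoint_closure]
      exact lt_succ_of_le' ((topologicalKrullDim_subspace_le X _).trans hX.le)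
    · rw [genericPoint_closure]
      trivial
  obtain ⟨P, hP, hPc⟩ := hcl.exists_closed_singleton hne
  rw [support_coker_section hL s] at hP hη ⊢
  obtain ⟨U, g, hPU, hg⟩ := TMul.exists_isGen hL P
  obtain ⟨c, hc⟩ := (hg U le_rfl).2 (TMul.val s U)
  simp only [Groth.Agent.QC.res_self] at hc
  let f := (X.presheaf.germ U P hPU).hom c
  have hf : ¬ IsUnit f := fun h => hP ((TMul.mem_genLocus_iff_isUnit s hg hc.symm hPU).2 h)
  have hηU : genericPoint X ∈ U := (genericPoint_specializes P).mem_open U.isOpen hPU
  have hf0 : f ≠ 0 := fun h => by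
    have h1 : IsUnit ((X.presheaf.germ U (genericPoint X) hηU).hom c) :=
      (TMul.mem_genLocus_iff_isUnit s hg hc.symm hηU).1 (by_contra hη)
    have h2 := TopCat.Presheaf.germ_stalkSpecializes_apply (F := X.presheaf) (U := U) hPU (genericPoint_specializes P) c
    change (X.presheaf.stalkSpecializes (genericPoint_specializes P)).hom f = _ at h2
    rw [h, map_zero] at h2
    erw [← h2] at h1
    exact not_isUnit_zero h1
  have hdim : ringKrullDim (X.presheaf.stalk P) = ((e + 1 : ℕ) : WithBot ℕ∞) := by
    rw [dim_stalk_closed k hPc, hX]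
  have h2 := ringKrullDim_quotient_span_singleton_succ_eq_ringKrullDim_of_mem_nonZeroDivisors
    (mem_nonZeroDivisors_of_ne_zero hf0) ((IsLocalRing.mem_maximalIdeal f).2 hf)
  rw [hdim, ringKrullDim_quotient] at h2
  have h3 : (e : WithBot ℕ∞) ≤ Order.krullDim (PrimeSpectrum.zeroLocus (R := X.presheaf.stalk P) (Ideal.span {f} : Ideal _)) := by
    refine le_of_not_gt fun hlt => ?_
    revert hlt h2
    generalize Order.krullDim (PrimeSpectrum.zeroLocus (R := X.presheaf.stalk P) (Ideal.span {f} : Ideal _)) = d
    intro h2 hlt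
    match d with
    | ⊥ => exact absurd (h2.symm.trans (WithBot.bot_add _)) (WithBot.natCast_ne_bot _)
    | ((⊤ : ℕ∞) : WithBot ℕ∞) => exact absurd hlt (not_lt.2 le_top)
    | ((n : ℕ) : ℕ∞) =>
      have h5 : n + 1 = e + 1 := by exact_mod_cast h2
      have h6 : n < e := by exact_mod_cast hlt
      omega
  obtain ⟨l, hl⟩ := Order.le_krullDim_iff.1 h3
  subst hl
  let c' : Fin (l.length + 1) → X := fun i => X.fromSpecStalk P (l.toFun i.rev).1
  refine le_dim_closed_of_chain (CohB1.genLocus L s).isOpen.isClosed_compl c' (fun i => ?_) (fun i j hij => ?_)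
  · intro hmem
    have hspec : c' i ⤳ P := by
      have : c' i ∈ Set.range (X.fromSpecStalk P) := ⟨_, rfl⟩
      rwa [Scheme.range_fromSpecStalk] at this
    have hyU : c' i ∈ U := hspec.mem_open U.isOpen hPU
    have hb : c' i ∈ X.basicOpen c :=
      (X.mem_basicOpen c (c' i) hyU).2 ((TMul.mem_genLocus_iff_isUnit s hg hc.symm hyU).1 hmem)
    exact (Groth.Agent.S5093.fromSpecStalk_mem_basicOpen_iff P U hPU c (l.toFun i.rev).1).1 hb
      ((l.toFun i.rev).2 (Ideal.mem_span_singleton_self f))
  · have hlt : l.toFun j.rev < l.toFun i.rev := l.strictMono (Fin.rev_lt_rev.2 hij)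
    refine ⟨?_, fun h => hlt.ne' (Subtype.ext ((X.fromSpecStalk P).isEmbedding.injective h))⟩
    exact ((PrimeSpectrum.le_iff_specializes _ _).1 hlt.le).map (X.fromSpecStalk P).continuous

/-- A nonzero section vanishing somewhere forces positive degree. -/
theorem deg_pos_of_section {H L : X.Modules} (hH : CohB1.IsAmple H) (hL : PicF.IsInvertible L)
    (s : Coh.structureModule X ⟶ L) (hs : s ≠ 0) (hi : ¬ IsIso s) {e : ℕ}
    (hX : topologicalKrullDim X = ((e + 1 : ℕ) : WithBot ℕ∞)) :
    0 < (-1 : ℚ) ^ (e + 1) * D k (L :: List.replicate e H) (Coh.structureModule X) := by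
  haveI := CurveRR.isNoetherian_of_proper k X
  haveI : Mono s := CurveRR.mono_of_ne_zero TMul.isInvertible_structureModule hL s hs
  have hne : (CohB1.support (cokernel s)).Nonempty := Set.nonempty_iff_ne_empty.2 fun h => hi (by
    haveI : Epi s := Preadditive.epi_of_isZero_cokernel s (Devissage.isZero_of_support h)
    exact isIso_of_mono_of_epi s)
  rw [sign_alt_coker k hL s (fun M hM => by rw [List.eq_of_mem_replicate hM]; exact hH.1), D_replicate]
  exact alt_pos k e _ (fun _ => hH) _ (isCoh_coker k hL s) (dim_support_coker_eq k hL s hs hX hne)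

end Groth.Agent.Nakai

namespace Groth.Agent.Nakai

variable {X : Scheme.{u}} (k : Type u) [Field k] [X.Over (Spec (CommRingCat.of k))] [IsProper (X ↘ Spec (CommRingCat.of k))]

/-- Numerically trivial modules have vanishing first differences in dimension one. -/
theorem D_one_of_numTriv {L : X.Modules} (hL : PicF.IsInvertible L) (hn : Pic13.IsNumEquivZero k X L)
    {F : X.Modules} (hF : Coh.IsCoh F) (hd : topologicalKrullDim (CohB1.support F) ≤ ((1 : ℕ) : WithBot ℕ∞)) :
    D k [L] F = 0 := by
  haveI := CurveRR.isNoetherian_of_proper k X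
  obtain ⟨T, hT⟩ := exists_top_finset k hF hd
  rw [← List.replicate_one, D_replicate, alt_comp k F hF hd (fun _ => hL) T hT]
  refine Finset.sum_eq_zero fun ξ hξ => mul_eq_zero_of_right _ ?_
  have hξd := ((hT ξ).1 hξ).2
  have hY : topologicalKrullDim (Scheme.IdealSheafData.vanishingIdeal (Devissage.Zc ξ)).subscheme = 1 := by
    rw [IsHomeomorph.topologicalKrullDim_eq _
      (Devissage.Zi ξ).isClosedEmbedding.isEmbedding.toHomeomorph.isHomeomorph, Devissage.range_Zi ξ, hξd]
    rfl
  have h1 := hn _ (Devissage.Zi ξ) (Devissage.Zi_isIntegral ξ) hY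
  rw [curveDeg_eq k _ hY.le hL, sub_eq_zero, Scheme.IdealSheafData.ker_subschemeι] at h1
  rw [← D_replicate, List.replicate_one, D_one, sub_eq_zero]
  exact_mod_cast h1.symm

theorem nef_of_numTriv {L : X.Modules} (hL : PicF.IsInvertible L) (hn : Pic13.IsNumEquivZero k X L) : Nef k L :=
  fun F hF hd => by
    have h := D_one_of_numTriv k hL hn hF hd
    rw [D_one, sub_eq_zero] at h
    exact_mod_cast h.le

end Groth.Agent.Nakai

namespace Groth.Agent.Nakai

variable {X : Scheme.{u}} (k : Type u) [Field k] [X.Over (Spec (CommRingCat.of k))] [IsProper (X ↘ Spec (CommRingCat.of k))]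

theorem D_flat_ample {H L : X.Modules} (hH : CohB1.IsAmple H) (hL : PicF.IsInvertible L)
    (h1 : ∀ F : X.Modules, Coh.IsCoh F → topologicalKrullDim (CohB1.support F) ≤ ((1 : ℕ) : WithBot ℕ∞) →
      D k [L] F = 0) : ∀ (e : ℕ) (F : X.Modules), Coh.IsCoh F →
      topologicalKrullDim (CohB1.support F) ≤ ((e + 1 : ℕ) : WithBot ℕ∞) →
      D k (L :: List.replicate e H) F = 0
  | 0, F, hF, hd => h1 F hF hd
  | e + 1, F, hF, hd => by
    rw [List.replicate_succ, D_perm k (List.Perm.swap H L _)]
    refine cons_ample_zero k hH (fun M hM => ?_) (r := e + 1) (by simp) (D_flat_ample hH hL h1 e) hF hd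
    rcases List.mem_cons.1 hM with rfl | h
    · exact hL
    · rw [List.eq_of_mem_replicate h]; exact hH.1

theorem D_one_pullback {Y : Scheme.{u}} [Y.Over (Spec (CommRingCat.of k))] [IsProper (Y ↘ Spec (CommRingCat.of k))]
    (g : Y ⟶ X) [IsProper g] (hg : g ≫ (X ↘ Spec (CommRingCat.of k)) = Y ↘ Spec (CommRingCat.of k))
    {L : X.Modules} (hL : PicF.IsInvertible L)
    (h1 : ∀ F : X.Modules, Coh.IsCoh F → topologicalKrullDim (CohB1.support F) ≤ ((1 : ℕ) : WithBot ℕ∞) →
      D k [L] F = 0)
    {G : Y.Modules} (hG : Coh.IsCoh G) (hd : topologicalKrullDim (CohB1.support G) ≤ ((1 : ℕ) : WithBot ℕ∞)) :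
    D k [(Scheme.Modules.pullback g).obj L] G = 0 := by
  haveI := CurveRR.isNoetherian_of_proper k X
  have h := D_push k g hg (l := [L]) (by simp [hL]) hG hd
  simp only [List.map_cons, List.map_nil] at h
  rw [h]
  exact h1 _ (isCoh_push' g hG) ((dim_mono (support_push_subset g (g.isClosedMap _ (Groth.Agent.QC.isClosed_support hG.2)) le_rfl)).trans
    ((dim_image_le g (Groth.Agent.QC.isClosed_support hG.2)).trans hd))

/-- A numerically trivial module with a nonzero section is trivial. -/
theorem isIso_of_numTriv_section [IsIntegral X] {L : X.Modules} (hL : PicF.IsInvertible L)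
    (hn : Pic13.IsNumEquivZero k X L) (s : Coh.structureModule X ⟶ L) (hs : s ≠ 0) : IsIso s := by
  haveI := CurveRR.isNoetherian_of_proper k X
  haveI : Mono s := CurveRR.mono_of_ne_zero TMul.isInvertible_structureModule hL s hs
  by_contra hi
  have hne : (CohB1.support (cokernel s)).Nonempty := Set.nonempty_iff_ne_empty.2 fun h => hi (by
    haveI : Epi s := Preadditive.epi_of_isZero_cokernel s (Devissage.isZero_of_support h)
    exact isIso_of_mono_of_epi s)
  obtain ⟨Y, g, hgp, hgs, hYi, hYd, H, hH⟩ := exists_proj_cover k X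
  haveI := hgp; haveI := hgs; haveI := hYi
  letI : Y.Over (Spec (CommRingCat.of k)) := ⟨g ≫ (X ↘ Spec (CommRingCat.of k))⟩
  haveI : IsProper (Y ↘ Spec (CommRingCat.of k)) := inferInstanceAs (IsProper (g ≫ _))
  haveI := CurveRR.isNoetherian_of_proper k Y
  have hL' := PicLoc.isInvertible_pullback g hL
  let s' : Coh.structureModule Y ⟶ (Scheme.Modules.pullback g).obj L :=
    (PicLoc.pullbackStructureIso g).inv ≫ (Scheme.Modules.pullback g).map s
  have hloc : CohB1.genLocus _ s' = g ⁻¹ᵁ CohB1.genLocus L s :=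
    TMul.genLocus_pullback g hL s (PicLoc.pullbackStructureIso g).symm
  have hη : genericPoint X ∈ CohB1.genLocus L s := by
    by_contra h
    exact CurveRR.notMem_support_coker s _ (CurveRR.surjective_stalk_generic hL s hs)
      ((support_coker_section hL s).symm ▸ h)
  obtain ⟨y, hy⟩ := g.surjective (genericPoint X)
  have hyl : y ∈ CohB1.genLocus _ s' := by rw [hloc]; show g y ∈ CohB1.genLocus L s; rw [hy]; exact hη
  have hs' : s' ≠ 0 := fun h0 => by
    obtain ⟨U, e, hyU, he⟩ := TMul.exists_isGen hL' y
    obtain ⟨c, hc⟩ := (he U le_rfl).2 (TMul.val s' U)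
    simp only [Groth.Agent.QC.res_self] at hc
    have hu := (TMul.mem_genLocus_iff_isUnit s' he hc.symm hyU).1 hyl
    have hc0 : c = 0 := (he U le_rfl).1 (by
      change c • Groth.Agent.QC.res _ le_rfl e = (0 : Γ(Y, U)) • Groth.Agent.QC.res _ le_rfl e
      rw [Groth.Agent.QC.res_self, hc, zero_smul, h0]
      rfl)
    rw [hc0, map_zero] at hu
    exact not_isUnit_zero hu
  have hi' : ¬ IsIso s' := fun h => by
    haveI := h
    haveI : Mono s' := inferInstance
    obtain ⟨x, hx⟩ := hne
    rw [support_coker_section hL s] at hx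
    obtain ⟨z, hz⟩ := g.surjective x
    have h1 := support_coker_section hL' s'
    rw [Devissage.support_of_isZero (isZero_cokernel_of_epi s')] at h1
    exact (h1.symm ▸ (Set.notMem_empty z) : z ∉ (CohB1.genLocus _ s' : Set Y)ᶜ) (by
      rw [hloc]; show g z ∉ CohB1.genLocus L s; rw [hz]; exact hx)
  obtain ⟨d, hd⟩ := exists_dim_closure k (genericPoint Y)
  rw [genericPoint_spec Y, (Homeomorph.Set.univ Y).isHomeomorph.topologicalKrullDim_eq] at hd
  match d, hd with
  | 0, hd =>
    haveI := subsingleton_of_dim_zero k (X := Y) hd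
    obtain ⟨x, hx⟩ := hne
    rw [support_coker_section hL s] at hx
    obtain ⟨z, hz⟩ := g.surjective x
    exact hx (by rw [← hz, Subsingleton.elim z y, hy]; exact hη)
  | e + 1, hd =>
    have h2 := deg_pos_of_section k hH hL' s' hs' hi' hd
    rw [D_flat_ample k hH hL' (fun G hG hGd => D_one_pullback k g rfl hL
      (fun F hF hFd => D_one_of_numTriv k hL hn hF hFd) hG hGd) e _ (isCoh_one k)
      (dim_support_structure.trans hd).le, mul_zero] at h2
    exact lt_irrefl _ h2

end Groth.Agent.Nakai
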