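import Groth.Agent.Nakai.FibreNef
import Groth.Agent.Nakai.HodgeNef
import Groth.Agent.Nakai.NefAmple
import Groth.Agent.S2329
import Groth.Prelude.Def_NumR
import Mathlib.Algebra.Order.Archimedean.Basic
import Mathlib.LinearAlgebra.Dimension.Constructions
import Mathlib.Topology.Order.IntermediateValue

/-!
Real numerical classes on surfaces and the intersection form.
-/

set_option autoImplicit false
set_option backward.isDefEq.respectTransparency false
set_option linter.style.haveILetI false
set_option linter.unusedSectionVars false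

universe u

open CategoryTheory CategoryTheory.Limits AlgebraicGeometry TopologicalSpace
open Groth.Agent.Intersect

noncomputable section

namespace Groth.Agent.Nakai

variable {X : Scheme.{u}} (k : Type u) [Field k] [X.Over (Spec (CommRingCat.of k))]

section Classes

variable [PicGrp.Law X]

/-- The real class as a function of the Picard class. -/
def clHom : Additive (PicLoc.PicSet X) →+ NumR.N1R k X := (NumR.toN1R k X).comp (NumR.toN1 k X)

theorem clR_eq_clHom {L : X.Modules} (hL : PicF.IsInvertible L) :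
    NumR.clR k X L hL = clHom k (Additive.ofMul (PicGrp.cls L hL)) := rfl

theorem clR_tensor {L M : X.Modules} (hL : PicF.IsInvertible L) (hM : PicF.IsInvertible M)
    (hLM : PicF.IsInvertible (CohB1.tensorMod L M)) :
    NumR.clR k X (CohB1.tensorMod L M) hLM = NumR.clR k X L hL + NumR.clR k X M hM := by
  have h : PicGrp.cls (CohB1.tensorMod L M) hLM = PicGrp.cls L hL * PicGrp.cls M hM :=
    Subtype.ext (PicGrp.cls_mul_cls_val hL hM).symm
  rw [clR_eq_clHom, h, ofMul_mul, map_add]
  rfl

theorem clR_one (h : PicF.IsInvertible (Coh.structureModule X)) :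
    NumR.clR k X (Coh.structureModule X) h = 0 := by
  rw [clR_eq_clHom, show PicGrp.cls (Coh.structureModule X) h = 1 from PicGrp.cls_structureModule_eq_one,
    ofMul_one, map_zero]

theorem clR_iso {L M : X.Modules} (hL : PicF.IsInvertible L) (hM : PicF.IsInvertible M) (e : L ≅ M) :
    NumR.clR k X L hL = NumR.clR k X M hM := by
  rw [clR_eq_clHom, (PicGrp.cls_eq_cls_iff hL hM).2 ⟨e⟩]
  rfl

theorem clR_inv {L M : X.Modules} (hL : PicF.IsInvertible L) (hM : PicF.IsInvertible M)
    (h : Nonempty (CohB1.tensorMod L M ≅ Coh.structureModule X)) :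
    NumR.clR k X M hM = -NumR.clR k X L hL := by
  rw [eq_neg_iff_add_eq_zero, add_comm, ← clR_tensor k hL hM (TMul.isInvertible_tensorMod hL hM),
    clR_iso k _ TMul.isInvertible_structureModule h.some, clR_one]

theorem clR_pow {L : X.Modules} (hL : PicF.IsInvertible L) : ∀ (n : ℕ) (hn : PicF.IsInvertible (CohB1.tensorPow L n)),
    NumR.clR k X (CohB1.tensorPow L n) hn = (n : ℝ) • NumR.clR k X L hL
  | 0, hn => by
    rw [Nat.cast_zero, zero_smul]
    exact clR_one k hn
  | n + 1, hn => by
    rw [Nat.cast_succ, add_smul, one_smul, ← clR_pow hL n (TMul.isInvertible_tensorPow hL n)]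
    exact clR_tensor k (TMul.isInvertible_tensorPow hL n) hL hn

/-- Rational points of the space of real classes. -/
def ratPts : Set (NumR.N1R k X) :=
  {x | ∃ (L : X.Modules) (hL : PicF.IsInvertible L) (m : ℕ), 0 < m ∧ x = (m : ℝ)⁻¹ • NumR.clR k X L hL}

theorem clR_mem_ratPts {L : X.Modules} (hL : PicF.IsInvertible L) : NumR.clR k X L hL ∈ ratPts k :=
  ⟨L, hL, 1, one_pos, by simp⟩

theorem zero_mem_ratPts : (0 : NumR.N1R k X) ∈ ratPts k :=
  ⟨_, TMul.isInvertible_structureModule, 1, one_pos, by rw [clR_one, smul_zero]⟩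

theorem add_mem_ratPts {x y : NumR.N1R k X} (hx : x ∈ ratPts k) (hy : y ∈ ratPts k) : x + y ∈ ratPts k := by
  obtain ⟨L, hL, m, hm, rfl⟩ := hx
  obtain ⟨M, hM, n, hn, rfl⟩ := hy
  refine ⟨_, TMul.isInvertible_tensorMod (TMul.isInvertible_tensorPow hL n) (TMul.isInvertible_tensorPow hM m),
    m * n, Nat.mul_pos hm hn, ?_⟩
  rw [clR_tensor k (TMul.isInvertible_tensorPow hL n) (TMul.isInvertible_tensorPow hM m), clR_pow k hL,
    clR_pow k hM, smul_add, smul_smul, smul_smul]
  have hm' : (m : ℝ) ≠ 0 := by exact_mod_cast hm.ne'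
  have hn' : (n : ℝ) ≠ 0 := by exact_mod_cast hn.ne'
  push_cast
  congr 2 <;> field_simp

theorem ratSmul_mem_ratPts (r : ℚ) {L : X.Modules} (hL : PicF.IsInvertible L) :
    (r : ℝ) • NumR.clR k X L hL ∈ ratPts k := by
  obtain ⟨L', hL', hLL'⟩ := W7Hull.exists_tensor_inverse hL
  have hq : (r : ℝ) = (r.den : ℝ)⁻¹ * (r.num : ℝ) := by rw [Rat.cast_def, div_eq_inv_mul]
  rcases Int.eq_nat_or_neg r.num with ⟨n, h | h⟩
  · refine ⟨_, TMul.isInvertible_tensorPow hL n, r.den, r.den_pos, ?_⟩
    rw [clR_pow k hL, smul_smul, hq, h, Int.cast_natCast]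
  · refine ⟨_, TMul.isInvertible_tensorPow hL' n, r.den, r.den_pos, ?_⟩
    rw [clR_pow k hL', clR_inv k hL hL' hLL', smul_smul, hq, h, Int.cast_neg, Int.cast_natCast, mul_neg, neg_smul,
      smul_neg]

theorem dense_ratPts : Dense (ratPts k : Set (NumR.N1R k X)) := by
  intro x
  have hadd : ∀ a ∈ closure (ratPts k : Set (NumR.N1R k X)), ∀ b ∈ closure (ratPts k : Set (NumR.N1R k X)),
      a + b ∈ closure (ratPts k : Set (NumR.N1R k X)) := fun a ha b hb =>
    map_mem_closure₂ continuous_add ha hb fun _ h₁ _ h₂ => add_mem_ratPts k h₁ h₂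
  suffices h : ∀ r : ℝ, r • x ∈ closure (ratPts k : Set (NumR.N1R k X)) by simpa using h 1
  have hx : x ∈ Submodule.span ℝ
      {x : NumR.N1R k X | ∃ (L : X.Modules) (hL : PicF.IsInvertible L), x = NumR.clR k X L hL} := by
    rw [NumR.span_clR]
    trivial
  induction hx using Submodule.span_induction with
  | mem y hy =>
    obtain ⟨L, hL, rfl⟩ := hy
    intro r
    have hc : Continuous fun t : ℝ => t • NumR.clR k X L hL := continuous_smul.comp (continuous_id.prodMk continuous_const)
    have h := hc.range_subset_closure_image_dense (Rat.denseRange_cast (𝕜 := ℝ)) ⟨r, rfl⟩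
    refine closure_mono ?_ h
    rintro _ ⟨_, ⟨q, rfl⟩, rfl⟩
    exact ratSmul_mem_ratPts k q hL
  | zero => exact fun r => by rw [smul_zero]; exact subset_closure (zero_mem_ratPts k)
  | add y z _ _ hy hz => exact fun r => by rw [smul_add]; exact hadd _ (hy r) _ (hz r)
  | smul c y _ hy => exact fun r => by rw [smul_smul]; exact hy _

end Classes

variable [IsProper (X ↘ Spec (CommRingCat.of k))]

theorem degOn_pow (Γc : X.IdealSheafData) (h1 : topologicalKrullDim (Γc.support : Set X) = 1)
    {A : X.Modules} (hA : PicF.IsInvertible A) :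
    ∀ n : ℕ, degOn k Γc (CohB1.tensorPow A n) = (n : ℚ) * degOn k Γc A
  | 0 => by
    rw [Nat.cast_zero, zero_mul]
    exact degOn_one k Γc
  | n + 1 => by
    rw [show CohB1.tensorPow A (n + 1) = CohB1.tensorMod (CohB1.tensorPow A n) A from rfl,
      degOn_tensor k Γc h1 (TMul.isInvertible_tensorPow hA n) hA, degOn_pow Γc h1 hA n]
    push_cast
    ring

variable [Smooth (X ↘ Spec (CommRingCat.of k))] [IsIntegral X] (hdim : topologicalKrullDim X = 2)

include k hdim

theorem cartier_of_curve (Γc : X.IdealSheafData) [IsIntegral Γc.subscheme]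
    (h1 : topologicalKrullDim (Γc.support : Set X) = 1) : BlowUp.IsEffCartierIdeal Γc := by
  have h := Intersect.isEffCartier_curve k hdim Γc.subschemeι (by
    rw [IsHomeomorph.topologicalKrullDim_eq _ Γc.subschemeι.isClosedEmbedding.isEmbedding.toHomeomorph.isHomeomorph,
      Γc.range_subschemeι, h1])
  rwa [Scheme.IdealSheafData.ker_subschemeι] at h

theorem inv_of_curve (Γc : X.IdealSheafData) [IsIntegral Γc.subscheme]
    (h1 : topologicalKrullDim (Γc.support : Set X) = 1) : PicF.IsInvertible (ClSub.idealMod Γc) :=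
  (Groth.Agent.S8914.result Γc).2 (cartier_of_curve k hdim Γc h1)

theorem inter_idealMod (Γc : X.IdealSheafData) [IsIntegral Γc.subscheme]
    (h1 : topologicalKrullDim (Γc.support : Set X) = 1) {L : X.Modules} (hL : PicF.IsInvertible L) :
    inter k L (ClSub.idealMod Γc) = -degOn k Γc L := by
  obtain ⟨L', hL', hLL'⟩ := W7Hull.exists_tensor_inverse hL
  obtain ⟨hd, he⟩ := deg_quot_eq k Γc h1 hL
  have h := Intersect.intNum_curve k Γc.subschemeι hd hdim.le
    (by rw [Scheme.IdealSheafData.ker_subschemeι]; exact cartier_of_curve k hdim Γc h1) hL hLL'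
  simp only [he, Scheme.IdealSheafData.ker_subschemeι] at h
  have h2 : inter k (ClSub.idealMod Γc) L' = degOn k Γc L := by
    rw [← intNum_eq_inter k hdim.le, h, degOn]
    push_cast
    rfl
  rw [inter_inv_right k hdim.le hL hLL' (inv_of_curve k hdim Γc h1), inter_comm k (ClSub.idealMod Γc)] at h2
  linarith

variable [PicGrp.Law X] (B : NumR.N1R k X →ₗ[ℝ] NumR.N1R k X →ₗ[ℝ] ℝ) (hB : NumR.IsIntForm₂ k X B)

include hB

theorem B_clR {L M : X.Modules} (hL : PicF.IsInvertible L) (hM : PicF.IsInvertible M) :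
    B (NumR.clR k X L hL) (NumR.clR k X M hM) = (inter k L M : ℝ) := by
  rw [hB L M hL hM, ← intNum_eq_inter k hdim.le, Rat.cast_intCast]

theorem B_symm (x y : NumR.N1R k X) : B x y = B y x := by
  suffices h : B = B.flip by exact LinearMap.congr_fun (LinearMap.congr_fun h x) y
  refine LinearMap.ext_on NumR.span_clR ?_
  rintro _ ⟨L, hL, rfl⟩
  refine LinearMap.ext_on NumR.span_clR ?_
  rintro _ ⟨M, hM, rfl⟩
  rw [LinearMap.flip_apply, B_clR k hdim B hB, B_clR k hdim B hB, inter_comm]

theorem B_curve (Γc : X.IdealSheafData) [IsIntegral Γc.subscheme]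
    (h1 : topologicalKrullDim (Γc.support : Set X) = 1) (hI : PicF.IsInvertible (ClSub.idealMod Γc))
    {L : X.Modules} (hL : PicF.IsInvertible L) :
    B (NumR.clR k X L hL) (NumR.curveCl k X Γc hI) = (degOn k Γc L : ℝ) := by
  rw [NumR.curveCl, map_neg, B_clR k hdim B hB, inter_idealMod k hdim Γc h1 hL]
  push_cast
  ring

theorem nef_of_mem_nefCone {L : X.Modules} (hL : PicF.IsInvertible L)
    (h : NumR.clR k X L hL ∈ NumR.nefCone₂ k X B) : Nef k L := by
  refine (nef_iff_curves k hL).2 fun C hC h1 => ?_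
  haveI := hC
  have h2 := h C hC h1 (inv_of_curve k hdim C h1)
  rw [B_curve k hdim B hB C h1 _ hL] at h2
  have h3 : 0 ≤ degOn k C L := by exact_mod_cast h2
  simp only [degOn] at h3
  exact_mod_cast h3

variable [Module.Finite ℝ (NumR.N1R k X)]

omit hB hdim in
theorem continuous_B_left (y : NumR.N1R k X) : Continuous fun x => B x y :=
  IsModuleTopology.continuous_of_linearMap (B.flip y)

omit hB hdim in
theorem continuous_B_self : Continuous fun x => B x x :=
  (IsModuleTopology.continuous_bilinear_of_finite_left B).comp (continuous_id.prodMk continuous_id)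

variable {H : X.Modules} (hH : CohB1.IsAmple H)

include hH

omit [PicGrp.Law X] hB in
theorem inter_le_sq {L : X.Modules} (hL : PicF.IsInvertible L) :
    inter k L L * inter k H H ≤ inter k L H ^ 2 := by
  have hd := hdim.le
  obtain ⟨a, ha⟩ := exists_int_inter k H H
  obtain ⟨b, hb⟩ := exists_int_inter k L H
  obtain ⟨P, hP, hPC⟩ := exists_signed k hd hL a
  obtain ⟨R, hR, hRC⟩ := exists_signed k hd hH.1 (-b)
  have hHH : 0 < inter k H H := inter_self_pos k hdim.le hH hdim
  have hT := TMul.isInvertible_tensorMod hP hR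
  have hTC : ∀ {C : X.Modules}, PicF.IsInvertible C →
      inter k (CohB1.tensorMod P R) C = inter k H H * inter k L C - inter k L H * inter k H C := fun {C} hC => by
    rw [inter_tensor k hd hP hR hC, hPC C hC, hRC C hC, ha, hb]
    push_cast
    ring
  have hTH : inter k (CohB1.tensorMod P R) H = 0 := by rw [hTC hH.1]; ring
  have h := self_nonpos k hdim hT hH hTH
  rw [hTC hT, inter_comm k L, inter_comm k H (CohB1.tensorMod P R), hTH, hTC hL, inter_comm k H L] at h
  have h' : inter k L L * inter k H H - inter k L H ^ 2 ≤ 0 := by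
    by_contra hc
    push Not at hc
    nlinarith [mul_pos hHH hc]
  linarith

theorem B_le_sq (x : NumR.N1R k X) :
    B x x * B (NumR.clR k X H hH.1) (NumR.clR k X H hH.1) ≤ B x (NumR.clR k X H hH.1) ^ 2 := by
  have hcl : IsClosed {x : NumR.N1R k X |
      B x x * B (NumR.clR k X H hH.1) (NumR.clR k X H hH.1) ≤ B x (NumR.clR k X H hH.1) ^ 2} :=
    isClosed_le ((continuous_B_self k B).mul continuous_const) ((continuous_B_left k B _).pow 2)
  refine hcl.closure_subset_iff.2 ?_ (dense_ratPts k x)
  rintro _ ⟨L, hL, m, hm, rfl⟩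
  simp only [Set.mem_setOf_eq, map_smul, LinearMap.smul_apply, smul_eq_mul, B_clR k hdim B hB]
  have h : (inter k L L : ℝ) * (inter k H H : ℝ) ≤ (inter k L H : ℝ) ^ 2 := by
    exact_mod_cast inter_le_sq k hdim hH hL
  nlinarith [mul_le_mul_of_nonneg_left h (sq_nonneg (m : ℝ)⁻¹)]

theorem B_hH_pos : 0 < B (NumR.clR k X H hH.1) (NumR.clR k X H hH.1) := by
  rw [B_clR k hdim B hB]
  exact_mod_cast inter_self_pos k hdim.le hH hdim

theorem B_ne_zero_of_pos {x : NumR.N1R k X} (hx : 0 < B x x) : B x (NumR.clR k X H hH.1) ≠ 0 := fun h0 => by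
  have h := B_le_sq k hdim B hB hH x
  rw [h0] at h
  nlinarith [mul_pos hx (B_hH_pos k hdim B hB hH)]

/-- The index theorem: orthogonal to a class of positive square, squares are nonpositive. -/
theorem B_nonpos_of_orth {x y : NumR.N1R k X} (hx : 0 < B x x) (hxy : B x y = 0) : B y y ≤ 0 := by
  by_contra hy
  push Not at hy
  have hs := B_symm k hdim B hB
  set h := NumR.clR k X H hH.1
  set z := B y h • x - B x h • y with hz
  have hzh : B z h = 0 := by
    simp only [hz, map_sub, map_smul, LinearMap.sub_apply, LinearMap.smul_apply, smul_eq_mul]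
    ring
  have hzz : B z z = B y h ^ 2 * B x x + B x h ^ 2 * B y y := by
    simp only [hz, map_sub, map_smul, LinearMap.sub_apply, LinearMap.smul_apply, smul_eq_mul, hs y x, hxy]
    ring
  have h1 := B_le_sq k hdim B hB hH z
  rw [hzh, hzz] at h1
  have h2 : 0 < B y h ^ 2 * B x x + B x h ^ 2 * B y y :=
    lt_of_lt_of_le (mul_pos (by positivity [B_ne_zero_of_pos k hdim B hB hH hx]) hy)
      (le_add_of_nonneg_left (mul_nonneg (sq_nonneg _) hx.le))
  nlinarith [mul_pos h2 (B_hH_pos k hdim B hB hH)]

theorem B_eq_zero_of_orth {x y : NumR.N1R k X} (hx : 0 < B x x) (hxy : B x y = 0) (hyy : B y y = 0)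
    (z : NumR.N1R k X) : B y z = 0 := by
  have hs := B_symm k hdim B hB
  set z' := z - (B x z / B x x) • x with hz'
  have hxz : B x z' = 0 := by
    simp only [hz', map_sub, map_smul, smul_eq_mul]
    rw [div_mul_cancel₀ _ hx.ne', sub_self]
  have key : ∀ t : ℝ, 2 * t * B y z' + B z' z' ≤ 0 := fun t => by
    have h := B_nonpos_of_orth k hdim B hB hH hx (y := t • y + z') (by
      simp only [map_add, map_smul, smul_eq_mul, hxy, hxz]; ring)
    simp only [map_add, map_smul, LinearMap.add_apply, LinearMap.smul_apply, smul_eq_mul, hyy, hs z' y] at h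
    linarith
  have h0 : B y z' = 0 := by
    by_contra hne
    have h := key ((1 - B z' z') / (2 * B y z'))
    rw [show 2 * ((1 - B z' z') / (2 * B y z')) * B y z' = 1 - B z' z' by field_simp] at h
    linarith
  simp only [hz', map_sub, map_smul, smul_eq_mul, hs y x, hxy, mul_zero, sub_zero] at h0
  exact h0

end Groth.Agent.Nakai
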