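import Groth.Agent.Nakai.CurveOver
import Groth.Agent.Intersect.Numer
import Groth.Agent.Intersect.CurveOnSurface

/-!
Nefness and numerical equivalence under proper surjective pullback.
-/

set_option autoImplicit false
set_option backward.isDefEq.respectTransparency false
set_option linter.style.haveILetI false
set_option linter.unusedSectionVars false

universe u

open CategoryTheory CategoryTheory.Limits AlgebraicGeometry TopologicalSpace
open Groth.Agent.Intersect
open Groth.Agent.CurveRR.Multi (lenAt)

noncomputable section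

namespace Groth.Agent.Nakai

variable {X : Scheme.{u}} (k : Type u) [Field k] [X.Over (Spec (CommRingCat.of k))] [IsProper (X ↘ Spec (CommRingCat.of k))]

/-- The degree of the restriction to a closed curve, computed on the ambient scheme. -/
theorem curveDeg_eq {Y : Scheme.{u}} (ι : Y ⟶ X) [IsClosedImmersion ι] (hY : topologicalKrullDim Y ≤ ((1 : ℕ) : WithBot ℕ∞))
    {L : X.Modules} (hL : PicF.IsInvertible L) :
    Pic13.curveDeg k (ι ≫ (X ↘ Spec (CommRingCat.of k))) ((Scheme.Modules.pullback ι).obj L) =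
      Curv2.euler k X (CohB1.tensorMod (ClSub.quotMod ι.ker) L) - Curv2.euler k X (ClSub.quotMod ι.ker) := by
  letI : Y.Over (Spec (CommRingCat.of k)) := ⟨ι ≫ (X ↘ Spec (CommRingCat.of k))⟩
  haveI : IsProper (Y ↘ Spec (CommRingCat.of k)) := inferInstanceAs (IsProper (ι ≫ _))
  change FGA.eulerCharLE k Y ((Scheme.Modules.pullback ι).obj L) 1 - FGA.eulerCharLE k Y (Coh.structureModule Y) 1 = _
  rw [eulerCharLE_eq k 1 hY, eulerCharLE_eq k 1 hY, euler_quot_twist k ι hL,
    ← CurveRR.euler_eq_of_iso (k := k) (TMul.commIso (ClSub.quotMod ι.ker) (Coh.structureModule X) ≪≫ TMul.leftUnitIso _),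
    euler_quot_twist k ι TMul.isInvertible_structureModule, CurveRR.euler_eq_of_iso (DerPerf.pullUnitIso ι)]

theorem curveDeg_eq_D {Y : Scheme.{u}} (ι : Y ⟶ X) [IsClosedImmersion ι] (hY : topologicalKrullDim Y ≤ ((1 : ℕ) : WithBot ℕ∞))
    {L : X.Modules} (hL : PicF.IsInvertible L) :
    (Pic13.curveDeg k (ι ≫ (X ↘ Spec (CommRingCat.of k))) ((Scheme.Modules.pullback ι).obj L) : ℚ) =
      -D k [L] (ClSub.quotMod ι.ker) := by
  rw [curveDeg_eq k ι hY hL, D_one]
  push_cast
  ring

theorem dim_support_quot_ker {Y : Scheme.{u}} (ι : Y ⟶ X) [IsClosedImmersion ι] :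
    topologicalKrullDim (CohB1.support (ClSub.quotMod ι.ker)) = topologicalKrullDim Y := by
  rw [dim_support_quotMod, Scheme.Hom.support_ker, ι.isClosedEmbedding.isClosed_range.closure_eq,
    ← IsHomeomorph.topologicalKrullDim_eq _ ι.isClosedEmbedding.isEmbedding.toHomeomorph.isHomeomorph]

theorem curveDeg_congr {L N : X.Modules} (hL : PicF.IsInvertible L) (hN : PicF.IsInvertible N) (h : NumEq k L N)
    {Y : Scheme.{u}} (ι : Y ⟶ X) [IsClosedImmersion ι] (hY : topologicalKrullDim Y ≤ ((1 : ℕ) : WithBot ℕ∞)) :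
    Pic13.curveDeg k (ι ≫ (X ↘ Spec (CommRingCat.of k))) ((Scheme.Modules.pullback ι).obj L) =
      Pic13.curveDeg k (ι ≫ (X ↘ Spec (CommRingCat.of k))) ((Scheme.Modules.pullback ι).obj N) := by
  haveI := CurveRR.isNoetherian_of_proper k X
  have h1 : (Pic13.curveDeg k (ι ≫ (X ↘ Spec (CommRingCat.of k))) ((Scheme.Modules.pullback ι).obj L) : ℚ) =
      Pic13.curveDeg k (ι ≫ (X ↘ Spec (CommRingCat.of k))) ((Scheme.Modules.pullback ι).obj N) := by
    rw [curveDeg_eq_D k ι hY hL, curveDeg_eq_D k ι hY hN]
    have := alt_numeric k 1 (fun _ => L) (fun _ => N) (fun _ => hL) (fun _ => hN) (fun _ => h) _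
      (CurveRR.isCoh_idealMod ι.ker).2 ((dim_support_quot_ker ι).trans_le hY)
    rw [← D_replicate, ← D_replicate, List.replicate_one, List.replicate_one] at this
    rw [this]
  exact_mod_cast h1

variable {X' : Scheme.{u}} [X'.Over (Spec (CommRingCat.of k))] [IsProper (X' ↘ Spec (CommRingCat.of k))]
  (g : X' ⟶ X) [IsProper g] (hg : g ≫ (X ↘ Spec (CommRingCat.of k)) = X' ↘ Spec (CommRingCat.of k))

include hg

theorem numEq_pullback {L N : X.Modules} (hL : PicF.IsInvertible L) (hN : PicF.IsInvertible N) (h : NumEq k L N) :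
    NumEq k ((Scheme.Modules.pullback g).obj L) ((Scheme.Modules.pullback g).obj N) := by
  intro η hη
  haveI := CurveRR.isNoetherian_of_proper k X
  haveI := CurveRR.isNoetherian_of_proper k X'
  have hA := Devissage.isCoh_A η
  have hd : topologicalKrullDim (CohB1.support (Devissage.A η)) ≤ ((1 : ℕ) : WithBot ℕ∞) :=
    (dim_mono (Devissage.support_A_subset η)).trans hη.le
  have hS : topologicalKrullDim (CohB1.support ((Scheme.Modules.pushforward g).obj (Devissage.A η))) ≤
      ((1 : ℕ) : WithBot ℕ∞) :=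
    (dim_mono (support_push_subset g (g.isClosedMap _ (Groth.Agent.QC.isClosed_support hA.2)) le_rfl)).trans
      ((dim_image_le g (Groth.Agent.QC.isClosed_support hA.2)).trans hd)
  have h1 := alt_push k g hg 1 (fun _ => L) (fun _ => hL) _ hA hd
  have h2 := alt_push k g hg 1 (fun _ => N) (fun _ => hN) _ hA hd
  rw [alt_numeric k 1 (fun _ => L) (fun _ => N) (fun _ => hL) (fun _ => hN) (fun _ => h) _ (isCoh_push' g hA) hS,
    ← h2] at h1
  rw [← D_replicate, ← D_replicate, List.replicate_one, List.replicate_one, D_one, D_one, sub_right_inj] at h1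
  exact_mod_cast h1

/-- Degrees on a curve of the target are positive multiples of degrees on a curve above it. -/
theorem exists_curve_over [Surjective g] {ξ : X} (hξ : topologicalKrullDim (closure ({ξ} : Set X)) = ((1 : ℕ) : WithBot ℕ∞)) :
    ∃ η : X', topologicalKrullDim (closure ({η} : Set X')) = ((1 : ℕ) : WithBot ℕ∞) ∧ ∃ c : ℚ, 0 < c ∧
      ∀ L : X.Modules, PicF.IsInvertible L →
        D k [(Scheme.Modules.pullback g).obj L] (Devissage.A η) = c * D k [L] (Devissage.A ξ) := by
  haveI := CurveRR.isNoetherian_of_proper k X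
  haveI := CurveRR.isNoetherian_of_proper k X'
  obtain ⟨η, hgη, hd0⟩ := exists_over k g hg ξ
  have hη := hd0.trans hξ
  refine ⟨η, hη, ?_⟩
  have hA := Devissage.isCoh_A η
  have hAd : topologicalKrullDim (CohB1.support (Devissage.A η)) ≤ ((1 : ℕ) : WithBot ℕ∞) :=
    (dim_mono (Devissage.support_A_subset η)).trans hη.le
  let P := (Scheme.Modules.pushforward g).obj (Devissage.A η)
  have hP : Coh.IsCoh P := isCoh_push' g hA
  have hsub : CohB1.support P ⊆ closure {ξ} := by
    refine (support_push_subset g (T := closure {η}) (g.isClosedMap _ isClosed_closure) (Devissage.support_A_subset η)).trans ?_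
    rw [image_closure g η, hgη]
  have hb := pushStalk_bijective_of_fibre g g.isClosedMap (Devissage.A η) (Groth.Agent.QC.isClosed_support hA.2) η
    fun y hy => (eq_of_dim (specializes_iff_mem_closure.mpr (Devissage.support_A_subset η hy.2)) hη.le
      (le_antisymm ((dim_closure_le isClosed_closure (Devissage.support_A_subset η hy.2)).trans hη.le) (by
        rw [← hξ, ← hgη, ← show g y = g η from hy.1, ← image_closure g y]
        exact dim_image_le g isClosed_closure))).symm
  have hmem : ξ ∈ CohB1.support P := fun hs => by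
    rw [← hgη] at hs
    exact (Devissage.piece_A η).mem (@Function.Surjective.subsingleton _ _ _ hs hb.2)
  refine ⟨(lenAt P ξ : ℚ), ?_, fun L hL => ?_⟩
  · have := lenAt_one_le hsub hP hmem fun y hy hys => (hys.antisymm (specializes_iff_mem_closure.mpr hy)).eq
    exact_mod_cast lt_of_lt_of_le Int.one_pos this
  · have h1 := alt_push k g hg 1 (fun _ => L) (fun _ => hL) _ hA hAd
    rw [alt_comp k P hP ((dim_mono hsub).trans hξ.le) (fun _ => hL) {ξ} (fun w => by
        refine ⟨fun hw => ?_, fun hw => ?_⟩
        · rw [Finset.mem_singleton.mp hw]; exact ⟨hmem, hξ⟩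
        · exact Finset.mem_singleton.mpr (eq_of_dim (specializes_iff_mem_closure.mpr (hsub hw.1)) hξ.le hw.2).symm),
      Finset.sum_singleton] at h1
    simpa only [← D_replicate, List.replicate_one] using h1

theorem nef_of_pullback [Surjective g] {L : X.Modules} (hL : PicF.IsInvertible L)
    (h : Nef k ((Scheme.Modules.pullback g).obj L)) : Nef k L := by
  haveI := CurveRR.isNoetherian_of_proper k X'
  refine nef_of_pieces k hL fun ξ hξ => ?_
  obtain ⟨η, hη, c, hc, he⟩ := exists_curve_over k g hg hξ
  have h1 := he L hL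
  have h2 : D k [(Scheme.Modules.pullback g).obj L] (Devissage.A η) ≤ 0 := by
    rw [D_one, sub_nonpos]
    exact_mod_cast h _ (Devissage.isCoh_A η) ((dim_mono (Devissage.support_A_subset η)).trans hη.le)
  rw [h1] at h2
  have h3 : D k [L] (Devissage.A ξ) ≤ 0 := nonpos_of_mul_nonpos_right h2 hc
  rw [D_one, sub_nonpos] at h3
  exact_mod_cast h3

theorem numEq_of_pullback [Surjective g] {L N : X.Modules} (hL : PicF.IsInvertible L) (hN : PicF.IsInvertible N)
    (h : NumEq k ((Scheme.Modules.pullback g).obj L) ((Scheme.Modules.pullback g).obj N)) : NumEq k L N := by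
  intro ξ hξ
  obtain ⟨η, hη, c, hc, he⟩ := exists_curve_over k g hg hξ
  have h1 := he L hL
  have h2 := he N hN
  rw [D_one, h η hη, ← D_one, h2] at h1
  have h3 := mul_left_cancel₀ hc.ne' h1
  rw [D_one, D_one, sub_right_inj] at h3
  exact_mod_cast h3.symm

end Groth.Agent.Nakai
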