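import Groth.Agent.Nakai.RealClass
import Groth.Agent.Nakai.AmpleApps
import Groth.Agent.Intersect.Apps2
import Mathlib.LinearAlgebra.Basis.Basic

/-!
Ample and nef cones of surfaces.
-/

set_option autoImplicit false
set_option backward.isDefEq.respectTransparency false
set_option linter.style.haveILetI false
set_option linter.unusedSectionVars false

universe u

open CategoryTheory CategoryTheory.Limits AlgebraicGeometry TopologicalSpace
open Groth.Agent.Intersect
open scoped Topology

noncomputable section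

namespace Groth.Agent.Nakai

variable {X : Scheme.{u}} (k : Type u) [Field k] [X.Over (Spec (CommRingCat.of k))]

section Cone

variable [PicGrp.Law X]

theorem clR_mem_ampleCone {L : X.Modules} (hL : CohB1.IsAmple L) :
    NumR.clR k X L hL.1 ∈ NumR.ampleCone k X :=
  ConvexCone.subset_hull ⟨L, hL.1, hL, rfl⟩

theorem ampleCone_induction {p : NumR.N1R k X → Prop}
    (mem : ∀ (L : X.Modules) (hL : CohB1.IsAmple L), p (NumR.clR k X L hL.1))
    (add : ∀ x y, p x → p y → p (x + y)) (smul : ∀ (c : ℝ) x, 0 < c → p x → p (c • x))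
    {x : NumR.N1R k X} (hx : x ∈ NumR.ampleCone k X) : p x :=
  ConvexCone.hull_min (C := ⟨{x | p x}, fun _ hc _ hy => smul _ _ hc hy, fun _ ha _ hb => add _ _ ha hb⟩)
    (by rintro _ ⟨L, hL, hA, rfl⟩; exact mem L hA) hx

variable [IsProper (X ↘ Spec (CommRingCat.of k))]

/-- Small multiples of any class can be added to an ample class. -/
theorem exists_add_smul_mem {H L : X.Modules} (hH : CohB1.IsAmple H) (hL : PicF.IsInvertible L) :
    ∃ δ : ℝ, 0 < δ ∧ ∀ t : ℝ, |t| < δ →
      NumR.clR k X H hH.1 + t • NumR.clR k X L hL ∈ NumR.ampleCone k X := by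
  haveI := CurveRR.isNoetherian_of_proper k X
  haveI : X.IsSeparated := ⟨by
    rw [show terminal.from X = (X ↘ Spec (CommRingCat.of k)) ≫ terminal.from _ from terminal.hom_ext _ _]
    infer_instance⟩
  obtain ⟨L', hL', hLL'⟩ := W7Hull.exists_tensor_inverse hL
  obtain ⟨n₁, hn₁, h₁⟩ := Groth.Agent.S2329.result X H L hH hL
  obtain ⟨n₂, hn₂, h₂⟩ := Groth.Agent.S2329.result X H L' hH hL'
  set n := max n₁ n₂
  have hn : (0 : ℝ) < n := by exact_mod_cast lt_of_lt_of_le hn₁ (le_max_left _ _)
  have a₁ := clR_mem_ampleCone k (h₁ n (le_max_left _ _)).1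
  have a₂ := clR_mem_ampleCone k (h₂ n (le_max_right _ _)).1
  rw [clR_tensor k (TMul.isInvertible_tensorPow hH.1 n) hL, clR_pow k hH.1] at a₁
  rw [clR_tensor k (TMul.isInvertible_tensorPow hH.1 n) hL', clR_pow k hH.1, clR_inv k hL hL' hLL'] at a₂
  have a₀ := clR_mem_ampleCone k hH
  set h := NumR.clR k X H hH.1
  set c := NumR.clR k X L hL
  refine ⟨(n : ℝ)⁻¹, inv_pos.2 hn, fun t ht => ?_⟩
  have ht' : |t| * n < 1 := by
    have := mul_lt_mul_of_pos_right ht hn
    rwa [inv_mul_cancel₀ hn.ne'] at this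
  rcases lt_trichotomy t 0 with h0 | h0 | h0
  · rw [abs_of_neg h0] at ht'
    have e : h + t • c = (1 - -t * n) • h + (-t) • ((n : ℝ) • h + -c) := by module
    rw [e]
    exact (NumR.ampleCone k X).add_mem' ((NumR.ampleCone k X).smul_mem' (by linarith) a₀)
      ((NumR.ampleCone k X).smul_mem' (by linarith) a₂)
  · rw [h0, zero_smul, add_zero]
    exact a₀
  · rw [abs_of_pos h0] at ht'
    have e : h + t • c = (1 - t * n) • h + t • ((n : ℝ) • h + c) := by module
    rw [e]
    exact (NumR.ampleCone k X).add_mem' ((NumR.ampleCone k X).smul_mem' (by linarith) a₀)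
      ((NumR.ampleCone k X).smul_mem' h0 a₁)

variable [Module.Finite ℝ (NumR.N1R k X)]

theorem ampleClass_mem_interior {H : X.Modules} (hH : CohB1.IsAmple H) :
    NumR.clR k X H hH.1 ∈ interior (NumR.ampleCone k X : Set (NumR.N1R k X)) := by
  classical
  obtain ⟨b, hbS, hspan, hli⟩ := exists_linearIndependent ℝ
    {x : NumR.N1R k X | ∃ (L : X.Modules) (hL : PicF.IsInvertible L), x = NumR.clR k X L hL}
  haveI : Finite b := hli.setFinite.to_subtype
  haveI : Fintype b := Fintype.ofFinite b
  let e := Module.Basis.mk hli (by rw [Subtype.range_coe, hspan, NumR.span_clR])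
  have hloc : ∀ i : b, ∃ δ : ℝ, 0 < δ ∧ ∀ t : ℝ, |t| < δ →
      NumR.clR k X H hH.1 + t • (i : NumR.N1R k X) ∈ NumR.ampleCone k X := fun i => by
    obtain ⟨L, hL, hi⟩ := hbS i.2
    rw [hi]
    exact exists_add_smul_mem k hH hL
  set h := NumR.clR k X H hH.1
  have hsum : ∀ s : Finset b, ∃ δ : ℝ, 0 < δ ∧ ∀ a : b → ℝ, (∀ i ∈ s, |a i| < δ) →
      h + ∑ i ∈ s, a i • (i : NumR.N1R k X) ∈ NumR.ampleCone k X := by
    intro s
    induction s using Finset.induction_on with
    | empty => exact ⟨1, one_pos, fun a _ => by rw [Finset.sum_empty, add_zero]; exact clR_mem_ampleCone k hH⟩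
    | insert j s hj ih =>
      obtain ⟨δ, hδ, hs⟩ := ih
      obtain ⟨δ', hδ', hj'⟩ := hloc j
      refine ⟨min δ δ' / 2, by positivity, fun a ha => ?_⟩
      rw [Finset.sum_insert hj]
      have m₁ := hj' (2 * a j) (by
        rw [abs_mul, abs_two]
        linarith [ha j (Finset.mem_insert_self j s), min_le_right δ δ'])
      have m₂ := hs (fun i => 2 * a i) fun i hi => by
        rw [abs_mul, abs_two]
        linarith [ha i (Finset.mem_insert_of_mem hi), min_le_left δ δ']
      have e' : h + (a j • (j : NumR.N1R k X) + ∑ i ∈ s, a i • (i : NumR.N1R k X)) =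
          (2 : ℝ)⁻¹ • ((h + (2 * a j) • (j : NumR.N1R k X)) + (h + ∑ i ∈ s, (2 * a i) • (i : NumR.N1R k X))) := by
        simp only [mul_smul, ← Finset.smul_sum]
        module
      rw [e']
      exact (NumR.ampleCone k X).smul_mem' (by norm_num) ((NumR.ampleCone k X).add_mem' m₁ m₂)
  obtain ⟨δ, hδ, hs⟩ := hsum Finset.univ
  refine mem_interior.2 ⟨⋂ i : b, {x | |e.repr x i - e.repr h i| < δ}, fun x hx => ?_,
    isOpen_iInter_of_finite fun i => isOpen_lt
      (((IsModuleTopology.continuous_of_linearMap (e.coord i)).sub continuous_const).abs) continuous_const,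
    Set.mem_iInter.2 fun i => by simpa using hδ⟩
  have hx' := hs (fun i => e.repr x i - e.repr h i) fun i _ => Set.mem_iInter.1 hx i
  have h1 : ∀ i : b, (i : NumR.N1R k X) = e i := fun i => (Module.Basis.mk_apply hli _ i).symm
  simp only [h1, sub_smul, Finset.sum_sub_distrib, Module.Basis.sum_repr, add_sub_cancel] at hx'
  exact hx'

theorem isOpen_ampleCone : IsOpen (NumR.ampleCone k X : Set (NumR.N1R k X)) := by
  refine subset_interior_iff_isOpen.1 fun x hx => ?_
  have h : x ∈ (NumR.ampleCone k X : Set (NumR.N1R k X)) ∧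
      x ∈ interior (NumR.ampleCone k X : Set (NumR.N1R k X)) := by
    refine ampleCone_induction k (p := fun x => x ∈ (NumR.ampleCone k X : Set (NumR.N1R k X)) ∧
      x ∈ interior (NumR.ampleCone k X : Set (NumR.N1R k X)))
      (fun L hL => ⟨clR_mem_ampleCone k hL, ampleClass_mem_interior k hL⟩) ?_ ?_ hx
    · rintro a b ⟨ha, ha'⟩ ⟨hb, hb'⟩
      refine ⟨(NumR.ampleCone k X).add_mem' ha hb, mem_interior.2
        ⟨(fun z => z - b) ⁻¹' interior (NumR.ampleCone k X : Set (NumR.N1R k X)), fun z hz => ?_,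
          isOpen_interior.preimage ?_, by simpa using ha'⟩⟩
      · have := (NumR.ampleCone k X).add_mem' (interior_subset hz) hb
        rwa [sub_add_cancel] at this
      · simp only [sub_eq_add_neg]
        exact continuous_id.add continuous_const
    · rintro c a hc ⟨ha, ha'⟩
      refine ⟨(NumR.ampleCone k X).smul_mem' hc ha, mem_interior.2
        ⟨(fun z => c⁻¹ • z) ⁻¹' interior (NumR.ampleCone k X : Set (NumR.N1R k X)), fun z hz => ?_,
          isOpen_interior.preimage (continuous_const_smul _), by simpa [smul_smul, inv_mul_cancel₀ hc.ne'] using ha'⟩⟩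
      have := (NumR.ampleCone k X).smul_mem' hc (interior_subset hz)
      rwa [smul_smul, mul_inv_cancel₀ hc.ne', one_smul] at this
  exact h.2

theorem exists_smul_mem_of_open {U : Set (NumR.N1R k X)} (hU : IsOpen U) {x : NumR.N1R k X} (hx : x ∈ U)
    (v : NumR.N1R k X) : ∃ δ : ℝ, 0 < δ ∧ ∀ t : ℝ, |t| < δ → x + t • v ∈ U := by
  have hc : Continuous fun t : ℝ => x + t • v :=
    continuous_const.add (continuous_smul.comp (continuous_id.prodMk continuous_const))
  obtain ⟨δ, hδ, h⟩ := Metric.isOpen_iff.1 (hU.preimage hc) 0 (by simpa using hx)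
  exact ⟨δ, hδ, fun t ht => h (by simpa using ht)⟩

end Cone

variable [IsProper (X ↘ Spec (CommRingCat.of k))] [Smooth (X ↘ Spec (CommRingCat.of k))] [IsIntegral X]
  (hdim : topologicalKrullDim X = 2) [PicGrp.Law X] (B : NumR.N1R k X →ₗ[ℝ] NumR.N1R k X →ₗ[ℝ] ℝ)
  (hB : NumR.IsIntForm₂ k X B)

include hdim hB

theorem B_pos_curve {x : NumR.N1R k X} (hx : x ∈ NumR.ampleCone k X) (Γc : X.IdealSheafData)
    [IsIntegral Γc.subscheme] (h1 : topologicalKrullDim (Γc.support : Set X) = 1)
    (hI : PicF.IsInvertible (ClSub.idealMod Γc)) : 0 < B x (NumR.curveCl k X Γc hI) := by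
  refine ampleCone_induction k (p := fun x => 0 < B x (NumR.curveCl k X Γc hI)) (fun L hL => ?_)
    (fun a b ha hb => ?_) (fun c a hc ha => ?_) hx
  · rw [B_curve k hdim B hB Γc h1 hI hL.1]
    have h := strictNef_of_isAmple k hL Γc inferInstance h1
    have h' : 0 < degOn k Γc L := by
      simp only [degOn]
      exact_mod_cast h
    exact_mod_cast h'
  · rw [map_add, LinearMap.add_apply]
    linarith
  · rw [map_smul, LinearMap.smul_apply, smul_eq_mul]
    exact mul_pos hc ha

theorem ampleCone_subset_nefCone :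
    (NumR.ampleCone k X : Set (NumR.N1R k X)) ⊆ NumR.nefCone₂ k X B := fun _ hx I hI h1 hinv =>
  haveI := hI
  (B_pos_curve k hdim B hB hx I h1 hinv).le

theorem B_pos_ample {x y : NumR.N1R k X} (hx : x ∈ NumR.ampleCone k X) (hy : y ∈ NumR.ampleCone k X) :
    0 < B x y := by
  revert y
  refine ampleCone_induction k (p := fun x => ∀ {y}, y ∈ NumR.ampleCone k X → 0 < B x y) (fun L hL y hy => ?_)
    (fun a b ha hb y hy => ?_) (fun c a hc ha y hy => ?_) hx
  · refine ampleCone_induction k (p := fun y => 0 < B (NumR.clR k X L hL.1) y) (fun M hM => ?_)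
      (fun a b ha hb => ?_) (fun c a hc ha => ?_) hy
    · rw [B_clR k hdim B hB]
      have hLL := inter_self_pos k hdim.le hL hdim
      exact_mod_cast degree_pos k hdim hL.1 hM hL hLL hLL
    · rw [map_add]
      linarith
    · rw [map_smul, smul_eq_mul]
      exact mul_pos hc ha
  · rw [map_add, LinearMap.add_apply]
    exact add_pos (ha hy) (hb hy)
  · rw [map_smul, LinearMap.smul_apply, smul_eq_mul]
    exact mul_pos hc (ha hy)

omit hB hdim in
theorem nefCone_add {x y : NumR.N1R k X} (hx : x ∈ NumR.nefCone₂ k X B) (hy : y ∈ NumR.nefCone₂ k X B) :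
    x + y ∈ NumR.nefCone₂ k X B := fun I hI h1 hinv => by
  rw [map_add, LinearMap.add_apply]
  exact add_nonneg (hx I hI h1 hinv) (hy I hI h1 hinv)

omit hB hdim in
theorem nefCone_smul {x : NumR.N1R k X} (hx : x ∈ NumR.nefCone₂ k X B) {c : ℝ} (hc : 0 ≤ c) :
    c • x ∈ NumR.nefCone₂ k X B := fun I hI h1 hinv => by
  rw [map_smul, LinearMap.smul_apply, smul_eq_mul]
  exact mul_nonneg hc (hx I hI h1 hinv)

variable [Module.Finite ℝ (NumR.N1R k X)]

omit hB hdim in
theorem isClosed_nefCone : IsClosed (NumR.nefCone₂ k X B) := by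
  simp only [NumR.nefCone₂, Set.setOf_forall]
  exact isClosed_iInter fun I => isClosed_iInter fun _ => isClosed_iInter fun _ => isClosed_iInter fun hI =>
    isClosed_le continuous_const (continuous_B_left k B _)

variable {H : X.Modules} (hH : CohB1.IsAmple H)

include hH

theorem mem_of_ratPts {x z : NumR.N1R k X} (hx : x ∈ NumR.nefCone₂ k X B) (hz : z ∈ ratPts k)
    (hzx : z - x ∈ NumR.ampleCone k X) : z ∈ NumR.ampleCone k X := by
  obtain ⟨L, hL, m, hm, rfl⟩ := hz
  set h := NumR.clR k X H hH.1 with hh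
  obtain ⟨δ, hδ, hmem⟩ := exists_smul_mem_of_open k (isOpen_ampleCone k) hzx h
  obtain ⟨N, hN⟩ := exists_nat_gt δ⁻¹
  have hNpos : (0 : ℝ) < N := lt_trans (inv_pos.2 hδ) hN
  have hN0 : 0 < N := by exact_mod_cast hNpos
  have hm' : (0 : ℝ) < m := by exact_mod_cast hm
  have ha := hmem (-(N : ℝ)⁻¹) (by
    rw [abs_neg, abs_of_pos (inv_pos.2 hNpos)]
    exact inv_lt_of_inv_lt₀ hδ hN)
  obtain ⟨H', hH', hHH'⟩ := W7Hull.exists_tensor_inverse hH.1
  let L' := CohB1.tensorMod (CohB1.tensorPow L N) (CohB1.tensorPow H' m)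
  have hL' : PicF.IsInvertible L' :=
    TMul.isInvertible_tensorMod (TMul.isInvertible_tensorPow hL N) (TMul.isInvertible_tensorPow hH' m)
  have hc : NumR.clR k X L' hL' = (N : ℝ) • NumR.clR k X L hL - (m : ℝ) • h := by
    rw [clR_tensor k (TMul.isInvertible_tensorPow hL N) (TMul.isInvertible_tensorPow hH' m), clR_pow k hL,
      clR_pow k hH', clR_inv k hH.1 hH' hHH', smul_neg, sub_eq_add_neg]
  have hn : Nef k L' := by
    refine nef_of_mem_nefCone k hdim B hB hL' ?_
    have h2 := nefCone_smul k B (nefCone_add k B hx (ampleCone_subset_nefCone k hdim B hB ha))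
      (c := (N : ℝ) * m) (by positivity)
    rw [hc]
    convert h2 using 1
    simp only [smul_add, smul_sub, smul_smul, neg_smul, smul_neg, mul_neg]
    rw [mul_assoc (N : ℝ), mul_inv_cancel₀ hm'.ne', mul_one, mul_comm ((N : ℝ) * m), ← mul_assoc,
      inv_mul_cancel₀ hNpos.ne', one_mul]
    module
  have h3 := clR_mem_ampleCone k (isAmple_nef_tensor k hH hL' hn one_pos hm)
  rw [clR_tensor k (TMul.isInvertible_tensorPow hL' 1) (TMul.isInvertible_tensorPow hH.1 m), clR_pow k hL',
    clR_pow k hH.1, Nat.cast_one, one_smul, hc, sub_add_cancel] at h3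
  have h4 := (NumR.ampleCone k X).smul_mem' (c := ((m : ℝ) * N)⁻¹) (by positivity) h3
  rw [smul_smul, show ((m : ℝ) * N)⁻¹ * N = (m : ℝ)⁻¹ by field_simp] at h4
  exact h4

theorem add_mem_ampleCone {x y : NumR.N1R k X} (hx : x ∈ NumR.nefCone₂ k X B) (hy : y ∈ NumR.ampleCone k X) :
    x + y ∈ NumR.ampleCone k X := by
  obtain ⟨z, ⟨hz1, hz2⟩, hz⟩ := (dense_ratPts k).inter_open_nonempty
    ((fun z => z - x) ⁻¹' (NumR.ampleCone k X : Set (NumR.N1R k X)) ∩
      (fun z => x + y - z) ⁻¹' (NumR.ampleCone k X : Set (NumR.N1R k X)))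
    (((isOpen_ampleCone k).preimage (by simp only [sub_eq_add_neg]; exact continuous_id.add continuous_const)).inter
      ((isOpen_ampleCone k).preimage (by
        rw [show (fun z => x + y - z) = fun z => (x + y) + (-1 : ℝ) • z from funext fun z => by module]
        exact continuous_const.add (continuous_const_smul _))))
    ⟨x + (2 : ℝ)⁻¹ • y, by
      constructor
      · show x + (2 : ℝ)⁻¹ • y - x ∈ NumR.ampleCone k X
        rw [add_sub_cancel_left]
        exact (NumR.ampleCone k X).smul_mem' (by norm_num) hy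
      · show x + y - (x + (2 : ℝ)⁻¹ • y) ∈ NumR.ampleCone k X
        rw [show x + y - (x + (2 : ℝ)⁻¹ • y) = (2 : ℝ)⁻¹ • y by module]
        exact (NumR.ampleCone k X).smul_mem' (by norm_num) hy⟩
  have h := (NumR.ampleCone k X).add_mem' (mem_of_ratPts k hdim B hB hH hx hz hz1) hz2
  rwa [add_sub_cancel] at h

theorem selfInt_nonneg {x : NumR.N1R k X} (hx : x ∈ NumR.nefCone₂ k X B) : 0 ≤ B x x := by
  set h := NumR.clR k X H hH.1
  have hc : Continuous fun t : ℝ => B (x + t • h) (x + t • h) :=
    (continuous_B_self k B).comp (continuous_const.add (continuous_smul.comp (continuous_id.prodMk continuous_const)))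
  have hcl : IsClosed {t : ℝ | 0 ≤ B (x + t • h) (x + t • h)} := isClosed_le continuous_const hc
  have hsub : Set.Ioi (0 : ℝ) ⊆ {t : ℝ | 0 ≤ B (x + t • h) (x + t • h)} := fun t ht => by
    have hm := add_mem_ampleCone k hdim B hB hH hx ((NumR.ampleCone k X).smul_mem' (c := t) ht (clR_mem_ampleCone k hH))
    exact (B_pos_ample k hdim B hB hm hm).le
  have h0 := hcl.closure_subset_iff.2 hsub (show (0 : ℝ) ∈ closure (Set.Ioi 0) by rw [closure_Ioi]; exact Set.self_mem_Ici)
  simpa using h0

theorem B_nonneg_ample {x y : NumR.N1R k X} (hx : x ∈ NumR.nefCone₂ k X B) (hy : y ∈ NumR.ampleCone k X) :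
    0 ≤ B x y := by
  by_contra hlt
  push Not at hlt
  have hyy := B_pos_ample k hdim B hB hy hy
  have ht : 0 < -B x y / (2 * B y y) := div_pos (neg_pos.2 hlt) (by positivity)
  have hm := add_mem_ampleCone k hdim B hB hH hx ((NumR.ampleCone k X).smul_mem' ht hy)
  have h := B_pos_ample k hdim B hB hm hy
  rw [map_add, map_smul, LinearMap.add_apply, LinearMap.smul_apply, smul_eq_mul] at h
  have : -B x y / (2 * B y y) * B y y = -B x y / 2 := by field_simp
  linarith

theorem closure_ampleCone :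
    closure (NumR.ampleCone k X : Set (NumR.N1R k X)) = NumR.nefCone₂ k X B := by
  refine subset_antisymm ((isClosed_nefCone k B).closure_subset_iff.2 (ampleCone_subset_nefCone k hdim B hB))
    fun x hx => ?_
  have hc : Continuous fun t : ℝ => x + t • NumR.clR k X H hH.1 :=
    continuous_const.add (continuous_smul.comp (continuous_id.prodMk continuous_const))
  have h := map_mem_closure hc (s := Set.Ioi (0 : ℝ)) (x := (0 : ℝ)) (by rw [closure_Ioi]; exact Set.self_mem_Ici)
    (t := (NumR.ampleCone k X : Set (NumR.N1R k X))) fun t ht =>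
      add_mem_ampleCone k hdim B hB hH hx ((NumR.ampleCone k X).smul_mem' ht (clR_mem_ampleCone k hH))
  simpa using h

end Groth.Agent.Nakai
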