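import Groth.Agent.Nakai.Big
import Groth.Agent.Nakai.RealCone
import Mathlib.Order.LiminfLimsup
import Mathlib.Topology.Algebra.Order.LiminfLimsup
import Mathlib.Analysis.Asymptotics.Defs

/-!
Forms of bigness, and the big cone.
-/

set_option autoImplicit false
set_option backward.isDefEq.respectTransparency false
set_option linter.style.haveILetI false
set_option linter.unusedSectionVars false

universe u

open CategoryTheory CategoryTheory.Limits AlgebraicGeometry TopologicalSpace Filter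
open Groth.Agent.Intersect
open Groth.Agent.CohFinite (tmap shortExact_tmap)
open scoped ENNReal

noncomputable section

namespace Groth.Agent.Nakai

attribute [local instance] clMonoid

variable {X : Scheme.{u}} (k : Type u) [Field k] [X.Over (Spec (CommRingCat.of k))] [IsProper (X ↘ Spec (CommRingCat.of k))]

theorem nontrivial_H0_iff {F : X.Modules} (hF : Coh.IsCoh F) :
    Nontrivial (Coh.HH X F 0) ↔ 0 < CurveRR.h k F 0 := by
  haveI : Module.Finite k (Coh.HH X F 0) := CohFinite.finite_proper k X _ hF 0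
  exact Module.finrank_pos_iff.symm

variable [IsIntegral X]

theorem h0_pos_of_mono {A A' M : X.Modules} (hA : PicF.IsInvertible A) (hM : PicF.IsInvertible M)
    (hAA' : Nonempty (CohB1.tensorMod A A' ≅ Coh.structureModule X)) (φ : A ⟶ M) [Mono φ] :
    0 < CurveRR.h k (CohB1.tensorMod A' M) 0 := by
  have hA' := Intersect.isInvertible_inverse hA hAA'
  have hS := shortExact_tmap hA' (Devissage.cokSeq_shortExact φ)
  have h := h0_le_of_mono k hS (isCoh_twist k (isCoh_inv k hM) hA')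
  change CurveRR.h k (CohB1.tensorMod A A') 0 ≤ CurveRR.h k (CohB1.tensorMod M A') 0 at h
  refine lt_of_lt_of_le ?_ (h.trans_eq (h_congr k (by simp only [cl_tensor]; ac_rfl) 0))
  rw [h_congr k (show PicF.cl (CohB1.tensorMod A A') = PicF.cl (Coh.structureModule X) from
    (cl_tensor A A').trans ((cl_inv hAA').trans cl_one.symm)) 0]
  exact h0_one_pos k

theorem exists_mono_of_h0 {A A' M : X.Modules} (hA : PicF.IsInvertible A) (hM : PicF.IsInvertible M)
    (hAA' : Nonempty (CohB1.tensorMod A A' ≅ Coh.structureModule X))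
    (h : 0 < CurveRR.h k (CohB1.tensorMod A' M) 0) : ∃ φ : A ⟶ M, Mono φ := by
  obtain ⟨s, hs⟩ := exists_section_of_h0 k h
  have hP := TMul.isInvertible_tensorMod (Intersect.isInvertible_inverse hA hAA') hM
  haveI : Mono s := CurveRR.mono_of_ne_zero TMul.isInvertible_structureModule hP s hs
  haveI : Mono (tmap s A) := (shortExact_tmap hA (Devissage.cokSeq_shortExact s)).mono_f
  obtain ⟨e⟩ := iso_of_cl (show PicF.cl (CohB1.tensorMod (CohB1.tensorMod A' M) A) = PicF.cl M by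
    simp only [cl_tensor]
    rw [show PicF.cl A' * PicF.cl M * PicF.cl A = PicF.cl A * PicF.cl A' * PicF.cl M from by ac_rfl,
      cl_inv hAA', one_mul])
  exact ⟨(TMul.leftUnitIso A).inv ≫ tmap s A ≫ e.hom, inferInstance⟩

theorem kod_iff_mono {A₀ L : X.Modules} (hA₀ : CohB1.IsAmple A₀) (hL : PicF.IsInvertible L) (d : ℕ)
    (hd : topologicalKrullDim X = (d : WithBot ℕ∞)) :
    (∀ A : X.Modules, CohB1.IsAmple A → ∃ (m : ℕ) (φ : A ⟶ CohB1.tensorPow L m), 0 < m ∧ Mono φ) ↔ Kod k L := by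
  refine ⟨fun h => ?_, fun h A hA => ?_⟩
  · obtain ⟨m, φ, hm, hφ⟩ := h A₀ hA₀
    haveI := hφ
    obtain ⟨A', hA', hAA'⟩ := W7Hull.exists_tensor_inverse hA₀.1
    exact ⟨A₀, A', m, hA₀, hAA', hm, h0_pos_of_mono k hA₀.1 (TMul.isInvertible_tensorPow hL m) hAA' φ⟩
  · obtain ⟨A', hA', hAA'⟩ := W7Hull.exists_tensor_inverse hA.1
    obtain ⟨m, hm, hp⟩ := h.all k hL d hd hA.1 hAA'
    obtain ⟨φ, hφ⟩ := exists_mono_of_h0 k hA.1 (TMul.isInvertible_tensorPow hL m) hAA' hp
    exact ⟨m, φ, hm, hφ⟩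

theorem Kod.growth_real {L : X.Modules} (hK : Kod k L) (hL : PicF.IsInvertible L) (d : ℕ)
    (hd : topologicalKrullDim X = (d : WithBot ℕ∞)) :
    ∃ c : ℝ, 0 < c ∧ ∃ n₀ : ℕ, ∀ n : ℕ, n₀ ≤ n →
      c * (n : ℝ) ^ d < (CurveRR.h k (CohB1.tensorPow L n) 0 : ℝ) := by
  obtain ⟨c, hc, n₀, h⟩ := hK.growth k hL d hd
  have hc' : (0 : ℝ) < c := by exact_mod_cast hc
  refine ⟨(c : ℝ) / 2, by positivity, n₀ + 1, fun n hn => ?_⟩
  have h1 : ((c * (n : ℚ) ^ d : ℚ) : ℝ) ≤ (((CurveRR.h k (CohB1.tensorPow L n) 0 : ℕ) : ℚ) : ℝ) := by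
    exact_mod_cast (h n (by omega)).1
  push_cast at h1
  have hn0 : (0 : ℝ) < n := by exact_mod_cast (show 0 < n by omega)
  have : (0 : ℝ) < (c : ℝ) * (n : ℝ) ^ d := by positivity
  linarith

theorem kod_of_freq_real {L A : X.Modules} (hL : PicF.IsInvertible L) (hA : CohB1.IsAmple A) (d : ℕ)
    (hd : topologicalKrullDim X = (d : WithBot ℕ∞)) {c : ℝ} (hc : 0 < c)
    (h : ∃ᶠ n : ℕ in atTop, c * (n : ℝ) ^ d ≤ (CurveRR.h k (CohB1.tensorPow L n) 0 : ℝ)) : Kod k L := by
  obtain ⟨q, hq0, hqc⟩ := exists_rat_btwn hc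
  refine kod_of_freq k hL hA d hd (c := q) (by exact_mod_cast hq0) (h.mono fun n hn => ?_)
  have h1 : (q : ℝ) * (n : ℝ) ^ d ≤ (CurveRR.h k (CohB1.tensorPow L n) 0 : ℝ) :=
    (mul_le_mul_of_nonneg_right hqc.le (by positivity)).trans hn
  have h2 : ((q * (n : ℚ) ^ d : ℚ) : ℝ) ≤ (((CurveRR.h k (CohB1.tensorPow L n) 0 : ℕ) : ℚ) : ℝ) := by
    push_cast
    exact h1
  exact_mod_cast h2

theorem Kod.liminf_pos {L : X.Modules} (hK : Kod k L) (hL : PicF.IsInvertible L) (d : ℕ)
    (hd : topologicalKrullDim X = (d : WithBot ℕ∞)) :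
    0 < liminf (fun m : ℕ => (CurveRR.h k (CohB1.tensorPow L m) 0 : ℝ≥0∞) / (m : ℝ≥0∞) ^ d) atTop := by
  obtain ⟨c, hc, n₀, h⟩ := hK.growth_real k hL d hd
  refine lt_of_lt_of_le (ENNReal.ofReal_pos.2 hc) (le_liminf_of_le (by isBoundedDefault) ?_)
  refine eventually_atTop.2 ⟨n₀ + 1, fun n hn => ?_⟩
  have hn0 : (0 : ℝ) < (n : ℝ) ^ d := pow_pos (by exact_mod_cast (show 0 < n by omega)) d
  have e : (n : ℝ≥0∞) ^ d = ENNReal.ofReal ((n : ℝ) ^ d) := by
    rw [ENNReal.ofReal_pow (Nat.cast_nonneg n), ENNReal.ofReal_natCast]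
  rw [e, ← ENNReal.ofReal_natCast, ← ENNReal.ofReal_div_of_pos hn0]
  exact ENNReal.ofReal_le_ofReal ((le_div_iff₀ hn0).2 (h n (by omega)).le)

theorem kod_of_limsup_pos {L A : X.Modules} (hL : PicF.IsInvertible L) (hA : CohB1.IsAmple A) (d : ℕ)
    (hd : topologicalKrullDim X = (d : WithBot ℕ∞))
    (h : 0 < limsup (fun m : ℕ => (CurveRR.h k (CohB1.tensorPow L m) 0 : ℝ≥0∞) / (m : ℝ≥0∞) ^ d) atTop) :
    Kod k L := by
  obtain ⟨c, hc0, hc⟩ := exists_between h
  have hctop : c ≠ ⊤ := ne_top_of_lt hc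
  refine kod_of_freq_real k hL hA d hd (ENNReal.toReal_pos hc0.ne' hctop) ?_
  refine ((frequently_lt_of_lt_limsup (by isBoundedDefault) hc).and_eventually
    (eventually_ge_atTop 1)).mono fun n ⟨hn, hn1⟩ => ?_
  have hn0 : (0 : ℝ) < (n : ℝ) ^ d := pow_pos (by exact_mod_cast (show 0 < n by omega)) d
  have e : (n : ℝ≥0∞) ^ d = ENNReal.ofReal ((n : ℝ) ^ d) := by
    rw [ENNReal.ofReal_pow (Nat.cast_nonneg n), ENNReal.ofReal_natCast]
  rw [e, ← ENNReal.ofReal_natCast (CurveRR.h k (CohB1.tensorPow L n) 0), ← ENNReal.ofReal_div_of_pos hn0] at hn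
  have h2 := ENNReal.toReal_le_of_le_ofReal (by positivity) hn.le
  exact (le_div_iff₀ hn0).1 h2

theorem limsup_le_tensor {L E : X.Modules} (hL : PicF.IsInvertible L) (hE : PicF.IsInvertible E)
    (s : Coh.structureModule X ⟶ E) (hs : s ≠ 0) (d : ℕ) :
    limsup (fun m : ℕ => (CurveRR.h k (CohB1.tensorPow L m) 0 : ℝ≥0∞) / (m : ℝ≥0∞) ^ d) atTop ≤
      limsup (fun m : ℕ => (CurveRR.h k (CohB1.tensorPow (CohB1.tensorMod L E) m) 0 : ℝ≥0∞) / (m : ℝ≥0∞) ^ d) atTop := by
  refine limsup_le_limsup (Eventually.of_forall fun m => ?_) (by isBoundedDefault) (by isBoundedDefault)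
  refine ENNReal.div_le_div_right (Nat.cast_le.2 ?_) _
  refine (h0_le_tensor k (TMul.isInvertible_tensorPow hE m) (TMul.isInvertible_tensorPow hL m)
    (h0_pos_pow k hE (h0_pos_of_section k (isCoh_inv k hE) hs) m)).trans_eq (h_congr k ?_ 0)
  simp only [cl_tensor, cl_pow, mul_pow]
  rw [mul_comm]

theorem isBigO_h0 {A L F : X.Modules} (hA : CohB1.IsAmple A) (hL : PicF.IsInvertible L) (hF : Coh.IsCoh F) (d : ℕ)
    (hd : topologicalKrullDim X = (d : WithBot ℕ∞)) :
    (fun m : ℕ => (CurveRR.h k (CohB1.tensorMod F (CohB1.tensorPow L m)) 0 : ℝ)) =O[atTop]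
      (fun m : ℕ => (m : ℝ) ^ d) := by
  obtain ⟨C, hC, h⟩ := exists_h0_pow_le k hA hL hF d ((topologicalKrullDim_subspace_le X _).trans hd.le)
  refine Asymptotics.IsBigO.of_bound ((C : ℝ) * 2 ^ d) (eventually_atTop.2 ⟨1, fun n hn => ?_⟩)
  have h1 : (((CurveRR.h k (CohB1.tensorMod F (CohB1.tensorPow L n)) 0 : ℕ) : ℚ) : ℝ) ≤
      ((C * ((n : ℚ) + 1) ^ d : ℚ) : ℝ) := by exact_mod_cast h n
  push_cast at h1
  have hn1 : (1 : ℝ) ≤ n := by exact_mod_cast hn
  rw [Real.norm_of_nonneg (Nat.cast_nonneg _), Real.norm_of_nonneg (by positivity), mul_assoc, ← mul_pow]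
  exact h1.trans (mul_le_mul_of_nonneg_left (pow_le_pow_left₀ (by positivity) (by linarith) d) (by exact_mod_cast hC))

section Cone

variable [PicGrp.Law X] (d : ℕ) (hd : topologicalKrullDim X = (d : WithBot ℕ∞))
  {P : X.Modules → Prop} (hP : ∀ L : X.Modules, PicF.IsInvertible L → (P L ↔ Kod k L))

omit [IsProper (X ↘ Spec (CommRingCat.of k))] [IsIntegral X] in
theorem clR_mem_coneOf {L : X.Modules} (hL : PicF.IsInvertible L) (h : P L) :
    NumR.clR k X L hL ∈ NumR.coneOf k X P :=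
  ConvexCone.subset_hull ⟨L, hL, h, rfl⟩

omit [IsProper (X ↘ Spec (CommRingCat.of k))] [IsIntegral X] in
theorem coneOf_induction {p : NumR.N1R k X → Prop}
    (mem : ∀ (L : X.Modules) (hL : PicF.IsInvertible L), P L → p (NumR.clR k X L hL))
    (add : ∀ x y, p x → p y → p (x + y)) (smul : ∀ (c : ℝ) x, 0 < c → p x → p (c • x))
    {x : NumR.N1R k X} (hx : x ∈ NumR.coneOf k X P) : p x :=
  ConvexCone.hull_min (C := ⟨{x | p x}, fun _ hc _ hy => smul _ _ hc hy, fun _ ha _ hb => add _ _ ha hb⟩)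
    (by rintro _ ⟨L, hL, hA, rfl⟩; exact mem L hL hA) hx

theorem kod_of_ample {A : X.Modules} (hA : CohB1.IsAmple A) : Kod k A := by
  obtain ⟨A', hA', hAA'⟩ := W7Hull.exists_tensor_inverse hA.1
  refine ⟨A, A', 1, hA, hAA', one_pos, ?_⟩
  refine (h0_one_pos k).trans_eq (h_congr k ?_ 0)
  rw [cl_tensor, cl_pow, pow_one, mul_comm, cl_inv hAA', cl_one]

theorem Kod.tensor_eff {L E : X.Modules} (hK : Kod k L) (hL : PicF.IsInvertible L) (hE : PicF.IsInvertible E)
    (he : 0 < CurveRR.h k E 0) : Kod k (CohB1.tensorMod L E) := by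
  obtain ⟨A, A', m, hA, hAA', hm, hpos⟩ := hK
  refine ⟨A, A', m, hA, hAA', hm, (h0_pos_tensor k (TMul.isInvertible_tensorMod
    (Intersect.isInvertible_inverse hA.1 hAA') (TMul.isInvertible_tensorPow hL m)) (TMul.isInvertible_tensorPow hE m)
    hpos (h0_pos_pow k hE he m)).trans_eq (h_congr k ?_ 0)⟩
  simp only [cl_tensor, cl_pow, mul_pow]
  ac_rfl

include hd hP

theorem coneOf_add_eff {b e : NumR.N1R k X} (hb : b ∈ NumR.coneOf k X P) (he : e ∈ NumR.effCone k X) :
    b + e ∈ NumR.coneOf k X P := by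
  revert b
  refine coneOf_induction k (p := fun e => ∀ {b}, b ∈ NumR.coneOf k X P → b + e ∈ NumR.coneOf k X P)
    (fun E hE hs b hb => ?_) (fun x y hx hy b hb => ?_) (fun c x hc hx b hb => ?_) he
  · obtain ⟨s, hs⟩ := hs
    have hpos := h0_pos_of_section k (isCoh_inv k hE) hs
    refine coneOf_induction k (p := fun b => ∀ t : ℝ, 0 ≤ t → b + t • NumR.clR k X E hE ∈ NumR.coneOf k X P)
      (fun L hL hLP t ht => ?_) (fun x y hx hy t ht => ?_) (fun c x hc hx t ht => ?_) hb 1 zero_le_one |>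
      fun h => by rwa [one_smul] at h
    · obtain ⟨n, hn⟩ := exists_nat_gt t
      rcases ht.eq_or_lt with rfl | ht'
      · rw [zero_smul, add_zero]
        exact clR_mem_coneOf k hL hLP
      have hnp : (0 : ℝ) < n := lt_trans ht' hn
      have hEn := TMul.isInvertible_tensorPow hE n
      have hLE := TMul.isInvertible_tensorMod hL hEn
      have hPLE : P (CohB1.tensorMod L (CohB1.tensorPow E n)) :=
        (hP _ hLE).2 (((hP L hL).1 hLP).tensor_eff k hL hEn (h0_pos_pow k hE hpos n))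
      have e : NumR.clR k X L hL + t • NumR.clR k X E hE =
          (1 - t / n) • NumR.clR k X L hL + (t / n) • NumR.clR k X _ hLE := by
        rw [clR_tensor k hL hEn, clR_pow k hE, smul_add, smul_smul, div_mul_cancel₀ _ hnp.ne', ← add_assoc,
          ← add_smul, sub_add_cancel, one_smul]
      rw [e]
      refine (NumR.coneOf k X P).add_mem' ((NumR.coneOf k X P).smul_mem' ?_ (clR_mem_coneOf k hL hLP))
        ((NumR.coneOf k X P).smul_mem' (div_pos ht' hnp) (clR_mem_coneOf k hLE hPLE))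
      rw [sub_pos, div_lt_one hnp]
      exact hn
    · rw [show x + y + t • NumR.clR k X E hE = (x + (t / 2) • NumR.clR k X E hE) + (y + (t / 2) • NumR.clR k X E hE) by module]
      exact (NumR.coneOf k X P).add_mem' (hx _ (by positivity)) (hy _ (by positivity))
    · rw [show c • x + t • NumR.clR k X E hE = c • (x + (t / c) • NumR.clR k X E hE) by
        rw [smul_add, smul_smul, mul_div_cancel₀ _ hc.ne']]
      exact (NumR.coneOf k X P).smul_mem' hc (hx _ (by positivity))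
  · rw [← add_assoc]
    exact hy (hx hb)
  · have h := hx ((NumR.coneOf k X P).smul_mem' (inv_pos.2 hc) hb)
    have h2 := (NumR.coneOf k X P).smul_mem' hc h
    rwa [smul_add, smul_smul, mul_inv_cancel₀ hc.ne', one_smul] at h2

omit hd in
theorem ampleCone_subset_coneOf {a : NumR.N1R k X} (ha : a ∈ NumR.ampleCone k X) : a ∈ NumR.coneOf k X P :=
  ampleCone_induction k (p := fun a => a ∈ NumR.coneOf k X P)
    (fun L hL => clR_mem_coneOf k hL.1 ((hP L hL.1).2 (kod_of_ample k hL)))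
    (fun _ _ hx hy => (NumR.coneOf k X P).add_mem' hx hy) (fun _ _ hc hx => (NumR.coneOf k X P).smul_mem' hc hx) ha

omit hd in
theorem exists_ample_eff {x : NumR.N1R k X} (hx : x ∈ NumR.coneOf k X P) :
    ∃ a ∈ (NumR.ampleCone k X : Set (NumR.N1R k X)), x - a ∈ (NumR.effCone k X : Set (NumR.N1R k X)) := by
  refine coneOf_induction k (p := fun x => ∃ a ∈ NumR.ampleCone k X, x - a ∈ NumR.effCone k X)
    (fun L hL hLP => ?_) ?_ ?_ hx
  · obtain ⟨A, A', m, hA, hAA', hm, hpos⟩ := (hP L hL).1 hLP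
    have hA' := Intersect.isInvertible_inverse hA.1 hAA'
    obtain ⟨s, hs⟩ := exists_section_of_h0 k hpos
    have hm' : (0 : ℝ) < m := by exact_mod_cast hm
    have hE := TMul.isInvertible_tensorMod hA' (TMul.isInvertible_tensorPow hL m)
    have he : NumR.clR k X _ hE ∈ NumR.effCone k X := clR_mem_coneOf k hE ⟨s, hs⟩
    rw [clR_tensor k hA' (TMul.isInvertible_tensorPow hL m), clR_inv k hA.1 hA' hAA', clR_pow k hL] at he
    refine ⟨(m : ℝ)⁻¹ • NumR.clR k X A hA.1,
      (NumR.ampleCone k X).smul_mem' (inv_pos.2 hm') (clR_mem_ampleCone k hA), ?_⟩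
    have h := (NumR.effCone k X).smul_mem' (inv_pos.2 hm') he
    rwa [smul_add, smul_smul, inv_mul_cancel₀ hm'.ne', one_smul, smul_neg, neg_add_eq_sub] at h
  · rintro x y ⟨a, ha, hxa⟩ ⟨b, hb, hyb⟩
    refine ⟨a + b, (NumR.ampleCone k X).add_mem' ha hb, ?_⟩
    rw [add_sub_add_comm]
    exact (NumR.effCone k X).add_mem' hxa hyb
  · rintro c x hc ⟨a, ha, hxa⟩
    refine ⟨c • a, (NumR.ampleCone k X).smul_mem' hc ha, ?_⟩
    rw [← smul_sub]
    exact (NumR.effCone k X).smul_mem' hc hxa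

theorem mem_coneOf_iff (x : NumR.N1R k X) : x ∈ (NumR.coneOf k X P : Set (NumR.N1R k X)) ↔
    ∃ a ∈ (NumR.ampleCone k X : Set (NumR.N1R k X)), x - a ∈ (NumR.effCone k X : Set (NumR.N1R k X)) := by
  refine ⟨fun h => exists_ample_eff k hP h, fun ⟨a, ha, he⟩ => ?_⟩
  have h := coneOf_add_eff k d hd hP (ampleCone_subset_coneOf k hP ha) he
  rwa [add_sub_cancel] at h

theorem coneOf_subset_eff {x : NumR.N1R k X} (hx : x ∈ NumR.coneOf k X P) : x ∈ NumR.effCone k X := by
  refine coneOf_induction k (p := fun x => x ∈ NumR.effCone k X) (fun L hL hLP => ?_)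
    (fun _ _ a b => (NumR.effCone k X).add_mem' a b) (fun _ _ hc a => (NumR.effCone k X).smul_mem' hc a) hx
  obtain ⟨n₀, hn⟩ := ((hP L hL).1 hLP).eventually_pos k hL d hd
  obtain ⟨s, hs⟩ := exists_section_of_h0 k (hn (n₀ + 1) (Nat.le_succ _))
  have h : NumR.clR k X _ (TMul.isInvertible_tensorPow hL (n₀ + 1)) ∈ NumR.effCone k X := clR_mem_coneOf k _ ⟨s, hs⟩
  rw [clR_pow k hL] at h
  have h2 := (NumR.effCone k X).smul_mem' (c := ((n₀ + 1 : ℕ) : ℝ)⁻¹) (by positivity) h
  rwa [smul_smul, inv_mul_cancel₀ (by positivity), one_smul] at h2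

theorem coneOf_eq_interior [Module.Finite ℝ (NumR.N1R k X)] {A : X.Modules} (hA : CohB1.IsAmple A) :
    (NumR.coneOf k X P : Set (NumR.N1R k X)) = interior (NumR.psefCone k X) ∧
      NumR.psefCone k X = closure (NumR.coneOf k X P : Set (NumR.N1R k X)) := by
  set h := NumR.clR k X A hA.1
  have hA0 := clR_mem_ampleCone k hA
  have hopen : IsOpen (NumR.coneOf k X P : Set (NumR.N1R k X)) := by
    refine isOpen_iff_mem_nhds.2 fun x hx => ?_
    obtain ⟨a, ha, he⟩ := (mem_coneOf_iff k d hd hP x).1 hx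
    have hU : IsOpen ((fun z => z - (x - a)) ⁻¹' (NumR.ampleCone k X : Set (NumR.N1R k X))) :=
      (isOpen_ampleCone k).preimage (by simp only [sub_eq_add_neg]; exact continuous_id.add continuous_const)
    refine Filter.mem_of_superset (hU.mem_nhds (by simpa using ha)) fun z hz => ?_
    exact (mem_coneOf_iff k d hd hP z).2 ⟨z - (x - a), hz, by rw [sub_sub_cancel]; exact he⟩
  refine ⟨subset_antisymm (interior_maximal (fun x hx => subset_closure (coneOf_subset_eff k d hd hP hx)) hopen)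
    fun x hx => ?_, subset_antisymm (closure_minimal (fun e he => ?_) isClosed_closure)
      (closure_mono fun x hx => coneOf_subset_eff k d hd hP hx)⟩
  · obtain ⟨δ, hδ, hmem⟩ := exists_smul_mem_of_open k isOpen_interior hx h
    have hmem' : x + (-(δ / 2)) • h ∈ closure (NumR.effCone k X : Set (NumR.N1R k X)) :=
      interior_subset (hmem _ (by rw [abs_neg, abs_of_pos (half_pos hδ)]; exact half_lt_self hδ))
    have hU : IsOpen ((fun e => x + (-1 : ℝ) • e) ⁻¹' (NumR.ampleCone k X : Set (NumR.N1R k X))) :=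
      (isOpen_ampleCone k).preimage (continuous_const.add (continuous_const_smul _))
    obtain ⟨e, he1, he2⟩ := mem_closure_iff.1 hmem' _ hU (by
      show x + (-1 : ℝ) • (x + (-(δ / 2)) • h) ∈ NumR.ampleCone k X
      rw [show x + (-1 : ℝ) • (x + (-(δ / 2)) • h) = (δ / 2) • h by module]
      exact (NumR.ampleCone k X).smul_mem' (half_pos hδ) hA0)
    refine (mem_coneOf_iff k d hd hP x).2 ⟨_, he1, ?_⟩
    rw [show x - (x + (-1 : ℝ) • e) = e by module]
    exact he2
  · have hc : Continuous fun t : ℝ => e + t • h :=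
      continuous_const.add (continuous_smul.comp (continuous_id.prodMk continuous_const))
    have := map_mem_closure hc (s := Set.Ioi (0 : ℝ)) (x := (0 : ℝ)) (by rw [closure_Ioi]; exact Set.self_mem_Ici)
      (t := (NumR.coneOf k X P : Set (NumR.N1R k X))) fun t ht =>
        (mem_coneOf_iff k d hd hP _).2 ⟨t • h, (NumR.ampleCone k X).smul_mem' ht hA0, by rw [add_sub_cancel_right]; exact he⟩
    simpa using this

end Cone

end Groth.Agent.Nakai

namespace Groth.Agent.Nakai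

theorem exists_dim_eq {X : Scheme.{u}} (k : Type u) [Field k] [X.Over (Spec (CommRingCat.of k))]
    [IsProper (X ↘ Spec (CommRingCat.of k))] [IsIntegral X] :
    ∃ d : ℕ, topologicalKrullDim X = (d : WithBot ℕ∞) := by
  obtain ⟨e, he⟩ := exists_dim_closure k (genericPoint X)
  rw [show closure ({genericPoint X} : Set X) = Set.univ from genericPoint_spec X,
    (Homeomorph.Set.univ X).isHomeomorph.topologicalKrullDim_eq] at he
  exact ⟨e, he⟩

end Groth.Agent.Nakai
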