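import Groth.Agent.Nakai.SemiAmple
import Groth.Agent.Nakai.BigApps
import Groth.Agent.W7Hull.AmpleSurj
import Groth.Prelude.Def_EGA4Misc

/-!
Growth of sections without an ample module, and bigness along birational morphisms.
-/

set_option autoImplicit false
set_option backward.isDefEq.respectTransparency false
set_option linter.style.haveILetI false
set_option linter.unusedSectionVars false

universe u

open CategoryTheory CategoryTheory.Limits AlgebraicGeometry TopologicalSpace
open Groth.Agent.Intersect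
open Groth.Agent.CohFinite (tmap shortExact_tmap)
open Groth.Agent.WeakAssLib (mgerm stalkHom)

noncomputable section

namespace Groth.Agent.Nakai

attribute [local instance] clMonoid

variable {X : Scheme.{u}} (k : Type u) [Field k] [X.Over (Spec (CommRingCat.of k))] [IsProper (X ↘ Spec (CommRingCat.of k))]

/-- Growth of sections on an integral proper scheme. -/
theorem slow_integral [IsIntegral X] {L : X.Modules} (hL : PicF.IsInvertible L) (e : ℕ)
    (hX : topologicalKrullDim X = (e : WithBot ℕ∞)) : SlowGrowth k L e (Coh.structureModule X) := by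
  haveI := CurveRR.isNoetherian_of_proper k X
  obtain ⟨Y, g, hgp, hgs, hYi, hYd, H, hH⟩ := exists_proj_cover k X
  haveI := hgp; haveI := hgs; haveI := hYi
  letI : Y.Over (Spec (CommRingCat.of k)) := ⟨g ≫ (X ↘ Spec (CommRingCat.of k))⟩
  haveI : IsProper (Y ↘ Spec (CommRingCat.of k)) := inferInstanceAs (IsProper (g ≫ _))
  haveI : IsDominant g := ⟨g.surjective.denseRange⟩
  haveI := IsSchemeTheoreticallyDominant.of_isDominant g
  obtain ⟨C, -, hC⟩ := exists_h0_pow_le k hH (PicLoc.isInvertible_pullback g hL) (isCoh_one k (X := Y)) e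
    (dim_support_structure.trans (hYd.trans hX)).le
  refine ⟨C, fun n => le_trans (Nat.cast_le.2 ?_) (hC n)⟩
  obtain ⟨p⟩ := TMul.nonempty_pullPowIso g L n
  rw [h_congr k (show PicF.cl (CohB1.tensorMod (Coh.structureModule X) (CohB1.tensorPow L n)) =
      PicF.cl (CohB1.tensorPow L n) by rw [cl_tensor, cl_one, one_mul]) 0]
  refine (h0_le_pullback k g rfl (TMul.isInvertible_tensorPow hL n)).trans_eq ?_
  rw [← CurveRR.h_eq_of_iso p 0]
  exact h_congr k (by rw [cl_tensor, cl_one, one_mul]) 0

/-- Sections of twists grow no faster than the dimension of the support; no ample module is needed. -/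
theorem slowGrowth_general {L : X.Modules} (hL : PicF.IsInvertible L) (e : ℕ) {F : X.Modules} (hF : Coh.IsCoh F)
    (hd : topologicalKrullDim (CohB1.support F) ≤ (e : WithBot ℕ∞)) : SlowGrowth k L e F := by
  haveI := CurveRR.isNoetherian_of_proper k X
  refine Devissage.extension_roots (SlowGrowth k L e)
    (fun M N ⟨i⟩ hM => slowGrowth_of_le k (fun n => (CurveRR.h_eq_of_iso
      (PicGrp.tensorModIso i (Iso.refl (CohB1.tensorPow L n))) 0).ge) hM)
    (fun M hM => ⟨0, fun n => ?_⟩)
    ⟨CohB1.support F, Groth.Agent.QC.isClosed_support hF.2⟩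
    (fun S hS h₁ h₂ h₃ ⟨C₁, hC₁⟩ ⟨C₃, hC₃⟩ => ⟨C₁ + C₃, fun n => ?_⟩)
    (fun M r hM hr hP => ?_) (fun ξ hξ => Or.inr ?_) F hF le_rfl
  · have hz : IsZero (CohB1.tensorMod M (CohB1.tensorPow L n)) := (IsZero.iff_id_eq_zero _).2
      (by rw [← Groth.Agent.CohFinite.tmap_id, hM.eq_of_src (𝟙 M) 0, Groth.Agent.CohFinite.tmap_zero])
    rw [CurveRR.h_eq_zero (W7Hull.hh_subsingleton_of_isZero hz 0)]
    simp
  · have hLn := TMul.isInvertible_tensorPow hL n
    have h1 := h0_middle k (shortExact_tmap hLn hS) (isCoh_twist k h₁ hLn) (isCoh_twist k h₂ hLn)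
      (isCoh_twist k h₃ hLn)
    rw [add_mul]
    exact (Nat.cast_le.2 h1).trans ((Nat.cast_add _ _).trans_le (add_le_add (hC₁ n) (hC₃ n)))
  · let ι' : M ⟶ ∐ fun _ : Fin r => M := Sigma.ι (fun _ : Fin r => M) ⟨0, hr⟩
    haveI : Mono ι' := (SplitMono.mk (Sigma.desc fun _ : Fin r => 𝟙 M) (Sigma.ι_desc _ _)).mono
    exact slowGrowth_of_le k (fun n => h0_twist_le_of_mono k (TMul.isInvertible_tensorPow hL n) ι'
      (CohFinite.isCoh_of_iso (biproduct.isoCoproduct _) (Devissage.isCoh_biproduct _ fun _ => hM))) hP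
  have hξd : topologicalKrullDim (closure ({ξ} : Set X)) ≤ (e : WithBot ℕ∞) :=
    (dim_mono (closure_minimal (Set.singleton_subset_iff.2 hξ) (Groth.Agent.QC.isClosed_support hF.2))).trans hd
  obtain ⟨d, hdξ⟩ := exists_dim_closure k ξ
  rw [hdξ] at hξd
  have hde : d ≤ e := CartierDim.natCast_le_withBot.1 hξd
  let Z := (Scheme.IdealSheafData.vanishingIdeal (Devissage.Zc ξ)).subscheme
  let i : Z ⟶ X := Devissage.Zi ξ
  letI : Z.Over (Spec (CommRingCat.of k)) := ⟨i ≫ (X ↘ Spec (CommRingCat.of k))⟩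
  haveI : IsProper (Z ↘ Spec (CommRingCat.of k)) := inferInstanceAs (IsProper (i ≫ _))
  haveI : IsIntegral Z := Devissage.Zi_isIntegral ξ
  haveI := CurveRR.isNoetherian_of_proper k Z
  have hZ : topologicalKrullDim Z = (d : WithBot ℕ∞) := by
    rw [← hdξ, ← Devissage.range_Zi ξ]
    exact IsHomeomorph.topologicalKrullDim_eq _ i.isClosedEmbedding.isEmbedding.toHomeomorph.isHomeomorph
  have hOZ : Coh.IsCoh (Coh.structureModule Z) := RefStalk.isCoh_structureModule
  have hA : SlowGrowth k L e (Devissage.A ξ) := by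
    obtain ⟨C, hC⟩ := slow_integral k (PicLoc.isInvertible_pullback i hL) d hZ
    refine ⟨|C|, fun n => ?_⟩
    rw [h0_push_twist k i rfl hOZ.1 hL n]
    exact (hC n).trans ((mul_le_mul_of_nonneg_right (le_abs_self C) (by positivity)).trans
      (mul_le_mul_of_nonneg_left (pow_le_pow_right₀ (le_add_of_nonneg_left (Nat.cast_nonneg n)) hde) (abs_nonneg C)))
  refine ⟨Devissage.A ξ, Devissage.isCoh_A ξ, Devissage.support_A_subset ξ, (Devissage.piece_A ξ).mem,
    Devissage.smul_stalk_of_killed (Devissage.killed_push _), fun J hJ => ?_⟩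
  obtain ⟨M', m, hm, hM', h0, hsurj⟩ := W7Hull.exists_push_sub i J (Coh.structureModule Z) hOZ.1
  haveI := hm
  haveI : M'.IsQuasicoherent := hM'
  let ι' : (Coh.push i).obj M' ⟶ (Dual3.idealMul J).obj ((Coh.push i).obj (Coh.structureModule Z)) :=
    kernel.lift _ ((Coh.push i).map m) h0
  have hι : ι' ≫ Dual3.idealMulι J ((Coh.push i).obj (Coh.structureModule Z)) = (Coh.push i).map m :=
    kernel.lift_ι _ _ _
  haveI : Mono (ι' ≫ Dual3.idealMulι J ((Coh.push i).obj (Coh.structureModule Z))) := by rw [hι]; infer_instance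
  refine ⟨(Coh.push i).obj M', ι', mono_of_mono ι' (Dual3.idealMulι J ((Coh.push i).obj (Coh.structureModule Z))),
    Groth.Agent.QC.isQCoh_pushforward i, ?_, ?_⟩
  · show Function.Surjective (Groth.Agent.WeakAssLib.stalkHom (ι' ≫ Dual3.idealMulι J _) ξ)
    rw [hι]
    exact hsurj ξ hJ
  · exact slowGrowth_of_le k (fun n => h0_twist_le_of_mono k (TMul.isInvertible_tensorPow hL n)
      ((Coh.push i).map m) (Devissage.isCoh_A ξ)) hA

attribute [local instance] CurveRR.secMod

theorem h0_pushforward {Y : Scheme.{u}} [Y.Over (Spec (CommRingCat.of k))] (f : Y ⟶ X)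
    (hf : f ≫ (X ↘ Spec (CommRingCat.of k)) = Y ↘ Spec (CommRingCat.of k)) (G : Y.Modules) :
    CurveRR.h k ((Scheme.Modules.pushforward f).obj G) 0 = CurveRR.h k G 0 := by
  rw [← CurveRR.finrank_sec, ← CurveRR.finrank_sec]
  have hc : ∀ a : k, f.app ⊤ (CurveRR.cst k X ⊤ a) = CurveRR.cst k Y ⊤ a := fun a => by
    simp only [RingHom.comp_apply, Groth.Agent.QC.resO_self, Coh.toGlobal, ← hf, Scheme.Hom.comp_appTop]
    rfl
  exact LinearEquiv.finrank_eq
    ({ toFun := fun s => (show Γ(G, ⊤) from s)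
       invFun := fun s => (show Γ((Scheme.Modules.pushforward f).obj G, ⊤) from s)
       map_add' := fun _ _ => rfl
       map_smul' := fun a s => by
         rw [CurveRR.smul_def, RingHom.id_apply, CurveRR.smul_def, ← hc]
         rfl
       left_inv := fun _ => rfl
       right_inv := fun _ => rfl } : Γ((Scheme.Modules.pushforward f).obj G, ⊤) ≃ₗ[k] Γ(G, ⊤))

theorem surjective_stalk_unit_at {Y : Scheme.{u}} (f : Y ⟶ X) (hc : IsClosedMap f) (z : Y)
    (hz : f ⁻¹' {f z} ⊆ {z}) (hsurj : Function.Surjective (f.stalkMap z).hom) :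
    Function.Surjective (stalkHom (ClSub.unitToPush f) (f z)) := by
  have hcl : IsClosed (CohB1.support (Coh.structureModule Y)) := by
    rw [Intersect.support_structure]; exact isClosed_univ
  have hb' := pushStalk_bijective_of_fibre f hc (Coh.structureModule Y) hcl z fun y hy => hz hy.1
  intro w
  obtain ⟨W, hW, v, hv⟩ := TopCat.Presheaf.exists_germ_eq (C := Ab.{u}) (Coh.structureModule Y).presheaf
    (x := z) (KFlat.pushStalk f z (Coh.structureModule Y) w)
  obtain ⟨c, hc'⟩ := hsurj ((Y.presheaf.germ W z hW).hom (show Γ(Y, W) from v))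
  obtain ⟨V, hzV, a, rfl⟩ := X.presheaf.exists_germ_eq c
  rw [Scheme.Hom.germ_stalkMap_apply] at hc'
  obtain ⟨W', hzW', iU, iV, h⟩ := Y.presheaf.germ_eq z _ hW _ _ hc'
  refine ⟨mgerm (Coh.structureModule X) hzV (show Γ(Coh.structureModule X, V) from a), hb'.1 ?_⟩
  refine ((congrArg (KFlat.pushStalk f z (Coh.structureModule Y))
    (Groth.Agent.WeakAssLib.stalkHom_germ (ClSub.unitToPush f) hzV a)).trans
      (pushStalk_mgerm f z (Coh.structureModule Y) hzV _)).trans (Eq.trans ?_ hv)
  exact TopCat.Presheaf.germ_ext (C := Ab.{u}) (Coh.structureModule Y).presheaf W' hzW' iU iV h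

/-- A birational morphism of integral schemes is an isomorphism on generic stalks. -/
theorem surjective_stalk_unit {Y : Scheme.{u}} [IsIntegral X] [IsIntegral Y] (f : Y ⟶ X) (hc : IsClosedMap f)
    (hbir : RadPt.IsBirational f) :
    Function.Surjective (stalkHom (ClSub.unitToPush f) (genericPoint X)) := by
  obtain ⟨hb, hres⟩ := hbir
  have hη : genericPoint X ∈ genericPoints X := by
    rw [genericPoints_eq_singleton]; rfl
  obtain ⟨huniq, hbij⟩ := hres _ hη
  have hY : genericPoint Y ∈ genericPoints Y := by rw [genericPoints_eq_singleton]; rfl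
  have hz : f (genericPoint Y) = genericPoint X := by
    have := hb.mapsTo hY
    rwa [genericPoints_eq_singleton, Set.mem_singleton_iff] at this
  rw [← hz]
  refine surjective_stalk_unit_at f hc _ (fun y hy => huniq y _ ((show f y = _ from hy).trans hz) hz) fun t => ?_
  have hF : IsField (Y.presheaf.stalk (genericPoint Y)) := Field.toIsField Y.functionField
  obtain ⟨c, hc'⟩ := (hbij _ hz).2 (Y.residue _ t)
  obtain ⟨c', rfl⟩ := X.residue_surjective _ c
  refine ⟨c', ?_⟩
  have h2 := congr($(Scheme.residue_residueFieldMap f (genericPoint Y)).hom c')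
  simp only [CommRingCat.hom_comp, RingHom.comp_apply] at h2
  rw [hc'] at h2
  have h3 : Y.residue _ ((f.stalkMap _).hom c' - t) = 0 := by rw [map_sub, ← h2, sub_self]
  by_contra hne
  obtain ⟨u, hu⟩ := hF.mul_inv_cancel (sub_ne_zero.2 hne)
  have h4 := congrArg (Y.residue _) hu
  rw [map_mul, h3, zero_mul, map_one] at h4
  exact zero_ne_one h4

theorem eventually_big_of_pullback {Y : Scheme.{u}} [Y.Over (Spec (CommRingCat.of k))]
    [IsProper (Y ↘ Spec (CommRingCat.of k))] [IsIntegral X] [IsIntegral Y] (f : Y ⟶ X)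
    (hf : f ≫ (X ↘ Spec (CommRingCat.of k)) = Y ↘ Spec (CommRingCat.of k)) (hbir : RadPt.IsBirational f)
    (d : ℕ) (hX : topologicalKrullDim X = (d : WithBot ℕ∞)) {L : X.Modules} (hL : PicF.IsInvertible L) :
    (∀ n, CurveRR.h k (CohB1.tensorPow L n) 0 ≤
        CurveRR.h k (CohB1.tensorPow ((Scheme.Modules.pullback f).obj L) n) 0) ∧
      ∃ C : ℚ, ∀ n, (CurveRR.h k (CohB1.tensorPow ((Scheme.Modules.pullback f).obj L) n) 0 : ℚ) ≤
        CurveRR.h k (CohB1.tensorPow L n) 0 + C * ((n : ℚ) + 1) ^ (d - 1) := by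
  haveI := CurveRR.isNoetherian_of_proper k X
  haveI := CurveRR.isNoetherian_of_proper k Y
  haveI : IsProper (f ≫ (X ↘ Spec (CommRingCat.of k))) := hf.symm ▸ inferInstance
  haveI : IsProper f := IsProper.of_comp f (X ↘ Spec (CommRingCat.of k))
  have hη : genericPoint X ∈ genericPoints X := by rw [genericPoints_eq_singleton]; rfl
  haveI : IsDominant f := by
    obtain ⟨z, -, hz⟩ := hbir.1.surjOn hη
    refine ⟨fun x => ?_⟩
    have : closure {genericPoint X} ⊆ closure (Set.range f) := closure_mono (Set.singleton_subset_iff.2 ⟨z, hz⟩)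
    rw [genericPoint_spec X] at this
    exact this (Set.mem_univ x)
  haveI := IsSchemeTheoreticallyDominant.of_isDominant f
  have hpull : ∀ n, CurveRR.h k ((Scheme.Modules.pullback f).obj (CohB1.tensorPow L n)) 0 =
      CurveRR.h k (CohB1.tensorPow ((Scheme.Modules.pullback f).obj L) n) 0 := fun n => by
    obtain ⟨p⟩ := TMul.nonempty_pullPowIso f L n
    exact (CurveRR.h_eq_of_iso p 0).symm
  refine ⟨fun n => (h0_le_pullback k f hf (TMul.isInvertible_tensorPow hL n)).trans_eq (hpull n), ?_⟩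
  let η := ClSub.unitToPush f
  haveI : Mono η := (Groth.Agent.QC.mono_iff_app_injective _).2 fun U => f.app_injective U
  have hP : Coh.IsCoh ((Scheme.Modules.pushforward f).obj (Coh.structureModule Y)) :=
    isCoh_push' f RefStalk.isCoh_structureModule
  have hQ : Coh.IsCoh (cokernel η) := Groth.Agent.QC.isCoh_cokernel (isCoh_one k).1 hP η
  have hgen : genericPoint X ∉ CohB1.support (cokernel η) :=
    CurveRR.notMem_support_coker η _ (surjective_stalk_unit f f.isClosedMap hbir)
  obtain ⟨C, hC⟩ : SlowGrowth k L (d - 1) (cokernel η) := by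
    refine slowGrowth_general k hL (d - 1) hQ ?_
    rcases Nat.eq_zero_or_pos d with rfl | hd0
    · exact ((topologicalKrullDim_subspace_le X _).trans hX.le)
    obtain ⟨e, rfl⟩ : ∃ e, d = e + 1 := ⟨d - 1, by omega⟩
    rw [Nat.add_sub_cancel]
    refine le_of_lt_succ' (dim_proper_lt (ξ := genericPoint X) (n := e + 1) ?_ ?_ (fun x _ => ?_) hgen)
    · exact lt_succ_of_le' ((topologicalKrullDim_subspace_le X _).trans hX.le)
    · exact Groth.Agent.QC.isClosed_support hQ.2
    · rw [genericPoint_closure]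
      trivial
  refine ⟨C, fun n => ?_⟩
  have hLn := TMul.isInvertible_tensorPow hL n
  have h1 := h0_middle k (shortExact_tmap hLn (Devissage.cokSeq_shortExact η)) (isCoh_twist k (isCoh_one k) hLn)
    (isCoh_twist k hP hLn) (isCoh_twist k hQ hLn)
  change CurveRR.h k (CohB1.tensorMod ((Scheme.Modules.pushforward f).obj (Coh.structureModule Y)) (CohB1.tensorPow L n)) 0 ≤
    CurveRR.h k (CohB1.tensorMod (Coh.structureModule X) (CohB1.tensorPow L n)) 0 +
    CurveRR.h k (CohB1.tensorMod (cokernel η) (CohB1.tensorPow L n)) 0 at h1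
  haveI := W7Hull.isIso_projMap_of_invertible f (Coh.structureModule Y) hLn
  rw [CurveRR.h_eq_of_iso (asIso (CohFinite.projMap f (Coh.structureModule Y) (CohB1.tensorPow L n))) 0,
    h0_pushforward k f hf, CurveRR.h_eq_of_iso (TMul.leftUnitIso _) 0, hpull n,
    CurveRR.h_eq_of_iso (TMul.leftUnitIso _) 0] at h1
  have h2 := hC n
  have h3 : (CurveRR.h k (CohB1.tensorPow ((Scheme.Modules.pullback f).obj L) n) 0 : ℚ) ≤
      CurveRR.h k (CohB1.tensorPow L n) 0 +
        CurveRR.h k (CohB1.tensorMod (cokernel η) (CohB1.tensorPow L n)) 0 := by exact_mod_cast h1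
  linarith

end Groth.Agent.Nakai
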