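import Groth.Agent.Intersect.Surface
import Mathlib.RingTheory.Ideal.KrullsHeightTheorem

/-!
The zero locus of a section on an integral scheme has codimension at most one.
-/

set_option autoImplicit false
set_option backward.isDefEq.respectTransparency false
set_option linter.style.haveILetI false
set_option linter.unusedSectionVars false

universe u

open CategoryTheory CategoryTheory.Limits AlgebraicGeometry TopologicalSpace
open Groth.Agent.Intersect

noncomputable section

namespace Groth.Agent.Nakai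

variable {X : Scheme.{u}} (k : Type u) [Field k] [X.Over (Spec (CommRingCat.of k))] [IsProper (X ↘ Spec (CommRingCat.of k))]

include k in
theorem le_dim_zeroLocus [IsIntegral X] {r : ℕ} (hX : topologicalKrullDim X = ((r + 1 : ℕ) : WithBot ℕ∞))
    {L : X.Modules} (hL : PicF.IsInvertible L) (s : Coh.structureModule X ⟶ L)
    (hne : (CohB1.genLocus L s : Set X)ᶜ.Nonempty) :
    (r : WithBot ℕ∞) ≤ topologicalKrullDim ((CohB1.genLocus L s : Set X)ᶜ : Set X) := by
  haveI := CurveRR.isNoetherian_of_proper k X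
  have hcl : IsClosed (CohB1.genLocus L s : Set X)ᶜ := (CohB1.genLocus L s).isOpen.isClosed_compl
  obtain ⟨P, hP, hPc⟩ := hcl.exists_closed_singleton hne
  obtain ⟨U, e, hPU, he⟩ := TMul.exists_isGen hL P
  obtain ⟨c, hc⟩ := (he U le_rfl).2 (TMul.val s U)
  simp only [Groth.Agent.QC.res_self] at hc
  let f := (X.presheaf.germ U P hPU).hom c
  have hf : ¬ IsUnit f := fun h => hP ((TMul.mem_genLocus_iff_isUnit s he hc.symm hPU).2 h)
  let R := X.presheaf.stalk P
  have h1 : ringKrullDim R ≤ ringKrullDim (R ⧸ Ideal.span {f}) + (({f} : Set R).encard : ℕ∞) :=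
    ringKrullDim_le_ringKrullDim_quotient_add_encard {f} (by
      rw [Set.singleton_subset_iff, Ring.jacobson_eq_sInf_isMaximal]
      exact Submodule.mem_sInf.2 fun I hI => by
        rw [IsLocalRing.eq_maximalIdeal hI]
        exact hf)
  rw [dim_stalk_closed k hPc, hX, Set.encard_singleton] at h1
  have h2 : (r : WithBot ℕ∞) ≤ ringKrullDim (R ⧸ Ideal.span {f}) := by
    generalize ringKrullDim (R ⧸ Ideal.span {f}) = d at h1
    match d, h1 with
    | ⊥, h1 => simp at h1
    | (a : ℕ∞), h1 =>
      rw [show ((r + 1 : ℕ) : WithBot ℕ∞) = (((r + 1 : ℕ) : ℕ∞) : WithBot ℕ∞) from rfl,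
        ← WithBot.coe_add, WithBot.coe_le_coe, Nat.cast_add, Nat.cast_one, WithTop.add_le_add_iff_right ((by simp : (1 : ℕ∞) ≠ ⊤))] at h1
      exact WithBot.coe_le_coe.2 h1
  obtain ⟨l, hl⟩ := Order.le_krullDim_iff.1 h2
  subst hl
  let q : Fin (l.length + 1) → PrimeSpectrum R := fun i => PrimeSpectrum.comap (Ideal.Quotient.mk _) (l i)
  have hq : Function.Injective (PrimeSpectrum.comap (Ideal.Quotient.mk (Ideal.span {f}))) :=
    PrimeSpectrum.comap_injective_of_surjective _ Ideal.Quotient.mk_surjective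
  let y : Fin (l.length + 1) → X := fun i => X.fromSpecStalk P (q i.rev)
  refine le_dim_closed_of_chain hcl y (fun i => ?_) fun i j hij => ?_
  · intro h
    have hrange : y i ∈ Set.range (X.fromSpecStalk P) := ⟨_, rfl⟩
    rw [Scheme.range_fromSpecStalk] at hrange
    have hyU : y i ∈ U := Specializes.mem_open hrange U.isOpen hPU
    have hb : y i ∈ X.basicOpen c :=
      (X.mem_basicOpen c (y i) hyU).2 ((TMul.mem_genLocus_iff_isUnit s he hc.symm hyU).1 h)
    refine (Groth.Agent.S5093.fromSpecStalk_mem_basicOpen_iff P U hPU c (q i.rev)).1 hb ?_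
    show Ideal.Quotient.mk (Ideal.span {f}) f ∈ (l i.rev).asIdeal
    rw [Ideal.Quotient.eq_zero_iff_mem.2 (Ideal.mem_span_singleton_self f)]
    exact zero_mem _
  · have hlt : l j.rev < l i.rev := l.strictMono (Fin.rev_lt_rev.2 hij)
    refine ⟨((PrimeSpectrum.le_iff_specializes _ _).1 ?_).map (X.fromSpecStalk P).continuous, fun h => ?_⟩
    · exact Ideal.comap_mono hlt.le
    · exact hlt.ne' (hq ((X.fromSpecStalk P).isEmbedding.injective h))

end Groth.Agent.Nakai
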