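import Groth.Agent.Nakai.SurfSeq
import Groth.Agent.Nakai.FibreDeg
import Groth.Agent.NegTwist.Sections
import Groth.Agent.Intersect.Apps2
import Mathlib.Order.Filter.AtTopBot.Basic
import Mathlib.Order.Filter.AtTopBot.Archimedean

/-!
Growth of sections of powers and the lemma of Kodaira on big modules.
-/

set_option autoImplicit false
set_option backward.isDefEq.respectTransparency false
set_option linter.style.haveILetI false
set_option linter.unusedSectionVars false

universe u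

open CategoryTheory CategoryTheory.Limits AlgebraicGeometry TopologicalSpace Filter
open Groth.Agent.Intersect
open Groth.Agent.CohFinite (tmap shortExact_tmap)

noncomputable section

namespace Groth.Agent.Nakai

attribute [local instance] clMonoid

variable {X : Scheme.{u}} (k : Type u) [Field k] [X.Over (Spec (CommRingCat.of k))] [IsProper (X ↘ Spec (CommRingCat.of k))]

variable [IsIntegral X]

/-- Sections of twists of a coherent module grow no faster than the dimension of its support. -/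
theorem exists_h0_pow_le {A : X.Modules} (hA : CohB1.IsAmple A) {L : X.Modules} (hL : PicF.IsInvertible L)
    {F : X.Modules} (hF : Coh.IsCoh F) (e : ℕ) (hd : topologicalKrullDim (CohB1.support F) ≤ (e : WithBot ℕ∞)) :
    ∃ C : ℚ, 0 ≤ C ∧ ∀ n : ℕ,
      (CurveRR.h k (CohB1.tensorMod F (CohB1.tensorPow L n)) 0 : ℚ) ≤ C * ((n : ℚ) + 1) ^ e := by
  classical
  haveI := CurveRR.isNoetherian_of_proper k X
  obtain ⟨L', hL', hLL'⟩ := W7Hull.exists_tensor_inverse hL
  have hfin : {x : X | x ∈ (⊤ : X.Opens) ∧ Curv2.IsAssPoint F x}.Finite :=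
    Groth.Agent.S1576.result X F hF ⊤ isCompact_univ
  obtain ⟨m, -, k₀, -, hk⟩ := NegTwist.exists_section_gen_finite hA hL' hfin
  obtain ⟨t, ht⟩ := hk k₀ le_rfl
  let B := CohB1.tensorPow (CohB1.tensorPow A (m + 1)) k₀
  have hB : PicF.IsInvertible B := TMul.isInvertible_tensorPow (TMul.isInvertible_tensorPow hA.1 _) _
  obtain ⟨B', hB', hBB'⟩ := W7Hull.exists_tensor_inverse hB
  have hP := TMul.isInvertible_tensorMod hL hB'
  obtain ⟨eP⟩ : Nonempty (CohB1.tensorMod (CohB1.tensorMod L B') (CohB1.tensorMod L' B) ≅ Coh.structureModule X) := by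
    refine iso_of_cl ?_
    rw [cl_tensor, cl_tensor, cl_tensor, cl_one, show PicF.cl L * PicF.cl B' * (PicF.cl L' * PicF.cl B) =
      PicF.cl L * PicF.cl L' * (PicF.cl B * PicF.cl B') from by ac_rfl, cl_inv hLL', cl_inv hBB', mul_one]
  obtain ⟨τ, hτ⟩ := NegTwist.exists_locus_map (TMul.isInvertible_tensorMod hL' hB) eP t
  let f : ℕ → ℕ → ℕ := fun i j =>
    CurveRR.h k (CohB1.tensorMod F (CohB1.tensorMod (CohB1.tensorPow L i) (CohB1.tensorPow B j))) 0
  have hstep : ∀ i j, f (i + 1) j ≤ f i (j + 1) := fun i j => by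
    refine le_trans (le_of_eq (h_congr k ?_ 0)) (h0_down_le k hF
      (R := CohB1.tensorMod (CohB1.tensorPow L i) (CohB1.tensorPow B (j + 1)))
      (TMul.isInvertible_tensorMod (TMul.isInvertible_tensorPow hL i) (TMul.isInvertible_tensorPow hB (j + 1)))
      hP hτ fun y hy => ht ⟨trivial, hy⟩)
    simp only [cl_tensor, cl_pow, pow_succ]
    rw [show PicF.cl F * (PicF.cl L ^ i * (PicF.cl B ^ j * PicF.cl B) * (PicF.cl L * PicF.cl B')) =
      PicF.cl F * (PicF.cl L ^ i * PicF.cl L * PicF.cl B ^ j) * (PicF.cl B * PicF.cl B') from by ac_rfl,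
      cl_inv hBB', mul_one]
  have hiter : ∀ i j, f i j ≤ f 0 (i + j) := fun i => by
    induction i with
    | zero => exact fun j => by rw [Nat.zero_add]
    | succ i ih => exact fun j => (hstep i j).trans ((ih (j + 1)).trans_eq (by rw [Nat.succ_add_eq_add_succ]))
  obtain ⟨C, hC⟩ := Intersect.exists_h0_bound k hA e hF hd
  let c := (-1 : ℚ) ^ e * alt (χt k F fun _ : Fin e => A) / ((Nat.factorial e : ℕ) : ℚ)
  let a : ℚ := (((m + 1) * k₀ : ℕ) : ℚ) + 1
  refine ⟨(|c| + |C|) * a ^ e, by positivity, fun n => ?_⟩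
  have h1 : (CurveRR.h k (CohB1.tensorMod F (CohB1.tensorPow L n)) 0 : ℚ) ≤
      (Module.finrank k (Coh.HH X (CohB1.tensorMod (CohB1.tensorPow A ((m + 1) * k₀ * n)) F) 0) : ℚ) := by
    have h := hiter n 0
    rw [Nat.add_zero] at h
    refine le_of_eq_of_le ?_ (le_of_le_of_eq (Nat.cast_le.2 h) ?_)
    · exact congrArg Nat.cast (h_congr k (by simp only [cl_tensor, cl_pow, pow_zero, mul_one]) 0)
    · refine congrArg Nat.cast (h_congr k ?_ 0)
      simp only [cl_tensor, cl_pow, pow_zero, one_mul, B, ← pow_mul]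
      rw [mul_comm]
  refine h1.trans ?_
  have h2 := (abs_le.1 (hC ((m + 1) * k₀ * n))).2
  set N : ℚ := (((m + 1) * k₀ * n : ℕ) : ℚ) with hN
  have hN0 : 0 ≤ N := Nat.cast_nonneg _
  have h3 : c * N ^ e ≤ |c| * (N + 1) ^ e :=
    (mul_le_mul_of_nonneg_right (le_abs_self c) (by positivity)).trans
      (mul_le_mul_of_nonneg_left (pow_le_pow_left₀ hN0 (by linarith) e) (abs_nonneg c))
  have h4 : C * (N + 1) ^ (e - 1) ≤ |C| * (N + 1) ^ e :=
    (mul_le_mul_of_nonneg_right (le_abs_self C) (by positivity)).trans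
      (mul_le_mul_of_nonneg_left (pow_le_pow_right₀ (by linarith) (Nat.sub_le e 1)) (abs_nonneg C))
  have h5 : (|c| + |C|) * (N + 1) ^ e ≤ (|c| + |C|) * a ^ e * ((n : ℚ) + 1) ^ e := by
    rw [mul_assoc, ← mul_pow]
    refine mul_le_mul_of_nonneg_left (pow_le_pow_left₀ (by positivity) ?_ e) (by positivity)
    have hx : (0 : ℚ) ≤ (((m + 1) * k₀ : ℕ) : ℚ) := Nat.cast_nonneg _
    have hn : (0 : ℚ) ≤ n := Nat.cast_nonneg n
    simp only [hN, a, Nat.cast_mul]
    nlinarith
  change _ - c * N ^ e ≤ _ at h2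
  linarith


include k in
theorem support_invertible {M : X.Modules} (hM : PicF.IsInvertible M) : CohB1.support M = Set.univ := by
  obtain ⟨M', -, ⟨e⟩⟩ := W7Hull.exists_tensor_inverse hM
  have hcl := Groth.Agent.QC.isClosed_support (isCoh_inv k hM).2
  refine Set.eq_univ_of_univ_subset ?_
  rw [← Intersect.support_structure (X := X)]
  intro x hx
  refine support_tensor_subset hcl le_rfl M' fun hs => hx ?_
  haveI : Subsingleton ((DerSch.stalkFunctor X x).obj (CohB1.tensorMod M M') : Type u) := hs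
  exact ((DerSch.stalkFunctor X x).mapIso e).symm.toLinearEquiv.toEquiv.subsingleton

include k in
theorem subsingleton_of_dim_zero [IrreducibleSpace X] (hd : topologicalKrullDim X = ((0 : ℕ) : WithBot ℕ∞)) :
    Subsingleton X := by
  refine ⟨fun a b => ?_⟩
  have key : ∀ x : X, genericPoint X = x := fun x => by
    refine eq_of_dim (d := 0) (genericPoint_specializes x) ?_ ?_
    · exact (topologicalKrullDim_subspace_le X _).trans hd.le
    · obtain ⟨e, he⟩ := exists_dim_closure k x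
      have h := he ▸ (topologicalKrullDim_subspace_le X (closure ({x} : Set X))).trans hd.le
      rw [CartierDim.natCast_le_withBot] at h
      rw [he, Nat.le_zero.mp h]
  rw [← key a, ← key b]

include k in
theorem h0_one_pos : 0 < CurveRR.h k (Coh.structureModule X) 0 := by
  refine h0_pos_of_section k (isCoh_one k) (s := 𝟙 _) fun h => ?_
  have h1 := Intersect.support_structure (X := X)
  rw [Devissage.support_of_isZero ((IsZero.iff_id_eq_zero _).2 h)] at h1
  exact Set.empty_ne_univ h1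

/-- Effective twists increase sections. -/
theorem h0_le_tensor {E M : X.Modules} (hE : PicF.IsInvertible E) (hM : PicF.IsInvertible M)
    (he : 0 < CurveRR.h k E 0) : CurveRR.h k M 0 ≤ CurveRR.h k (CohB1.tensorMod E M) 0 := by
  obtain ⟨s, hs⟩ := exists_section_of_h0 k he
  haveI : Mono s := CurveRR.mono_of_ne_zero TMul.isInvertible_structureModule hE s hs
  exact (seq_facts k hE hM s).1

theorem h0_pos_tensor {E M : X.Modules} (hE : PicF.IsInvertible E) (hM : PicF.IsInvertible M)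
    (he : 0 < CurveRR.h k E 0) (hm : 0 < CurveRR.h k M 0) : 0 < CurveRR.h k (CohB1.tensorMod E M) 0 :=
  lt_of_lt_of_le hm (h0_le_tensor k hE hM he)

theorem h0_pos_pow {E : X.Modules} (hE : PicF.IsInvertible E) (he : 0 < CurveRR.h k E 0) :
    ∀ n : ℕ, 0 < CurveRR.h k (CohB1.tensorPow E n) 0
  | 0 => h0_one_pos k
  | n + 1 => h0_pos_tensor k (TMul.isInvertible_tensorPow hE n) hE (h0_pos_pow hE he n) he

/-- Twists of powers of an ample module grow like the dimension. -/
theorem ample_growth {A : X.Modules} (hA : CohB1.IsAmple A) {M : X.Modules} (hM : PicF.IsInvertible M) (d : ℕ)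
    (hd : topologicalKrullDim X = (d : WithBot ℕ∞)) :
    ∃ c : ℚ, 0 < c ∧ ∃ n₀ : ℕ, ∀ n, n₀ ≤ n →
      c * (n : ℚ) ^ d ≤ CurveRR.h k (CohB1.tensorMod (CohB1.tensorPow A n) M) 0 ∧
        0 < CurveRR.h k (CohB1.tensorMod (CohB1.tensorPow A n) M) 0 := by
  have hF := isCoh_inv k hM
  have hs : topologicalKrullDim (CohB1.support M) = (d : WithBot ℕ∞) := by
    rw [support_invertible k hM, (Homeomorph.Set.univ X).isHomeomorph.topologicalKrullDim_eq, hd]
  obtain ⟨C, hC⟩ := Intersect.exists_h0_bound k hA d hF hs.le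
  have hpos := alt_pos k d _ (fun _ => hA) _ hF hs
  set c : ℚ := (-1 : ℚ) ^ d * alt (χt k M fun _ : Fin d => A) / ((Nat.factorial d : ℕ) : ℚ) with hc
  have hc0 : 0 < c := div_pos hpos (by exact_mod_cast Nat.factorial_pos d)
  obtain ⟨n₁, hn₁⟩ := exists_nat_gt (2 * |C| * 2 ^ d / c)
  refine ⟨min (c / 2) 1, lt_min (by positivity) one_pos, n₁ + 1, fun n hn => ?_⟩
  have h1 := (abs_le.1 (hC n)).1
  change _ ≤ (CurveRR.h k (CohB1.tensorMod (CohB1.tensorPow A n) M) 0 : ℚ) - c * (n : ℚ) ^ d at h1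
  have hn' : ((n₁ : ℚ) + 1) ≤ n := by exact_mod_cast hn
  have hn0 : (1 : ℚ) ≤ n := by linarith [(Nat.cast_nonneg n₁ : (0 : ℚ) ≤ n₁)]
  have key : C * ((n : ℚ) + 1) ^ (d - 1) ≤ c / 2 * (n : ℚ) ^ d ∨ d = 0 := by
    rcases Nat.eq_zero_or_pos d with h0 | h0
    · exact Or.inr h0
    refine Or.inl ?_
    have e1 : ((n : ℚ) + 1) ^ (d - 1) ≤ 2 ^ d * (n : ℚ) ^ (d - 1) := by
      refine (pow_le_pow_left₀ (by positivity) (show (n : ℚ) + 1 ≤ 2 * n by linarith) _).trans ?_
      rw [mul_pow]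
      exact mul_le_mul_of_nonneg_right (pow_le_pow_right₀ (by norm_num) (Nat.sub_le d 1)) (by positivity)
    have e2 : |C| * 2 ^ d ≤ c / 2 * n := by
      rw [div_lt_iff₀ hc0] at hn₁
      nlinarith
    calc C * ((n : ℚ) + 1) ^ (d - 1) ≤ |C| * (2 ^ d * (n : ℚ) ^ (d - 1)) :=
          (mul_le_mul_of_nonneg_right (le_abs_self C) (by positivity)).trans
            (mul_le_mul_of_nonneg_left e1 (abs_nonneg C))
      _ ≤ c / 2 * n * (n : ℚ) ^ (d - 1) := by
          rw [← mul_assoc]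
          exact mul_le_mul_of_nonneg_right e2 (by positivity)
      _ = c / 2 * (n : ℚ) ^ d := by
          rw [mul_assoc, ← pow_succ', Nat.sub_add_cancel h0]
  rcases key with key | rfl
  · have h2 : c / 2 * (n : ℚ) ^ d ≤ (CurveRR.h k (CohB1.tensorMod (CohB1.tensorPow A n) M) 0 : ℚ) := by linarith
    refine ⟨(mul_le_mul_of_nonneg_right (min_le_left _ _) (by positivity)).trans h2, ?_⟩
    have : (0 : ℚ) < c / 2 * (n : ℚ) ^ d := by positivity
    exact_mod_cast lt_of_lt_of_le this h2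
  · haveI := subsingleton_of_dim_zero k (X := X) hd
    obtain ⟨e⟩ := nonempty_iso_one_of_subsingleton (X := X)
      (TMul.isInvertible_tensorMod (TMul.isInvertible_tensorPow hA.1 n) hM)
    have h3 : 0 < CurveRR.h k (CohB1.tensorMod (CohB1.tensorPow A n) M) 0 := by
      rw [← CurveRR.h_eq_of_iso (k := k) e 0]
      exact h0_one_pos k
    refine ⟨?_, h3⟩
    rw [pow_zero, mul_one]
    exact (min_le_right _ _).trans (by exact_mod_cast h3)

/-- Bigness in the sense of Kodaira's lemma, witnessed by one ample module. -/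
def Kod (L : X.Modules) : Prop :=
  ∃ (A A' : X.Modules) (m : ℕ), CohB1.IsAmple A ∧ Nonempty (CohB1.tensorMod A A' ≅ Coh.structureModule X) ∧
    0 < m ∧ 0 < CurveRR.h k (CohB1.tensorMod A' (CohB1.tensorPow L m)) 0

theorem Kod.all {L : X.Modules} (hK : Kod k L) (hL : PicF.IsInvertible L) (d : ℕ)
    (hd : topologicalKrullDim X = (d : WithBot ℕ∞)) {B B' : X.Modules} (hB : PicF.IsInvertible B)
    (hBB' : Nonempty (CohB1.tensorMod B B' ≅ Coh.structureModule X)) :
    ∃ m : ℕ, 0 < m ∧ 0 < CurveRR.h k (CohB1.tensorMod B' (CohB1.tensorPow L m)) 0 := by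
  obtain ⟨A, A', m, hA, hAA', hm, hpos⟩ := hK
  have hA' := Intersect.isInvertible_inverse hA.1 hAA'
  have hB' := Intersect.isInvertible_inverse hB hBB'
  obtain ⟨c, -, e, he⟩ := ample_growth k hA hB' d hd
  refine ⟨m * (e + 1), Nat.mul_pos hm (Nat.succ_pos e), ?_⟩
  have h := h0_pos_tensor k (TMul.isInvertible_tensorMod (TMul.isInvertible_tensorPow hA.1 (e + 1)) hB')
    (TMul.isInvertible_tensorPow (TMul.isInvertible_tensorMod hA' (TMul.isInvertible_tensorPow hL m)) (e + 1))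
    (he _ (Nat.le_succ e)).2 (h0_pos_pow k (TMul.isInvertible_tensorMod hA' (TMul.isInvertible_tensorPow hL m)) hpos _)
  refine h.trans_eq (h_congr k ?_ 0)
  simp only [cl_tensor, cl_pow, mul_pow, ← pow_mul]
  rw [show PicF.cl A ^ (e + 1) * PicF.cl B' * (PicF.cl A' ^ (e + 1) * PicF.cl L ^ (m * (e + 1))) =
    (PicF.cl A ^ (e + 1) * PicF.cl A' ^ (e + 1)) * (PicF.cl B' * PicF.cl L ^ (m * (e + 1))) from by ac_rfl,
    ← mul_pow, cl_inv hAA', one_pow, one_mul]

theorem Kod.eventually_pos {L : X.Modules} (hK : Kod k L) (hL : PicF.IsInvertible L) (d : ℕ)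
    (hd : topologicalKrullDim X = (d : WithBot ℕ∞)) :
    ∃ n₀ : ℕ, ∀ n, n₀ ≤ n → 0 < CurveRR.h k (CohB1.tensorPow L n) 0 := by
  obtain ⟨A, A', m₀, hA, -, -, -⟩ := id hK
  obtain ⟨c₁, -, e₁, he₁⟩ := ample_growth k hA TMul.isInvertible_structureModule d hd
  obtain ⟨c₂, -, e₂, he₂⟩ := ample_growth k hA hL d hd
  set B := CohB1.tensorPow A (e₁ + e₂) with hBdef
  have hB : PicF.IsInvertible B := TMul.isInvertible_tensorPow hA.1 _
  obtain ⟨B', hB', hBB'⟩ := W7Hull.exists_tensor_inverse hB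
  obtain ⟨m, hm, hpos⟩ := hK.all k hL d hd hB hBB'
  have hP := TMul.isInvertible_tensorMod hB' (TMul.isInvertible_tensorPow hL m)
  have hE₁ : 0 < CurveRR.h k (CohB1.tensorPow L m) 0 := by
    refine (h0_pos_tensor k hP hB hpos ?_).trans_eq (h_congr k ?_ 0)
    · refine (he₁ (e₁ + e₂) (Nat.le_add_right _ _)).2.trans_eq (h_congr k ?_ 0)
      simp only [B, cl_tensor, cl_one, mul_one]
    · simp only [cl_tensor]
      rw [mul_comm, ← mul_assoc, cl_inv hBB', one_mul]
  have hE₂ : 0 < CurveRR.h k (CohB1.tensorPow L (m + 1)) 0 := by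
    refine (h0_pos_tensor k hP (TMul.isInvertible_tensorMod hB hL) hpos
      (he₂ (e₁ + e₂) (Nat.le_add_left _ _)).2).trans_eq (h_congr k ?_ 0)
    simp only [cl_tensor, cl_pow, pow_succ]
    rw [show PicF.cl B' * PicF.cl L ^ m * (PicF.cl B * PicF.cl L) =
      PicF.cl B * PicF.cl B' * (PicF.cl L ^ m * PicF.cl L) from by ac_rfl, cl_inv hBB', one_mul]
  refine ⟨m * m, fun n hn => ?_⟩
  have hr : n % m ≤ n / m := by
    have h1 := Nat.mod_lt n hm
    have h2 : m ≤ n / m := (Nat.le_div_iff_mul_le hm).2 hn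
    omega
  refine (h0_pos_tensor k (TMul.isInvertible_tensorPow (TMul.isInvertible_tensorPow hL m) (n / m - n % m))
    (TMul.isInvertible_tensorPow (TMul.isInvertible_tensorPow hL (m + 1)) (n % m))
    (h0_pos_pow k (TMul.isInvertible_tensorPow hL m) hE₁ _)
    (h0_pos_pow k (TMul.isInvertible_tensorPow hL (m + 1)) hE₂ _)).trans_eq (h_congr k ?_ 0)
  simp only [cl_tensor, cl_pow, ← pow_mul, ← pow_add]
  congr 1
  have h3 := Nat.div_add_mod n m
  have h4 : m * (n / m - n % m) + (m + 1) * (n % m) = m * ((n / m - n % m) + n % m) + n % m := by ring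
  rw [h4, Nat.sub_add_cancel hr, h3]

theorem Kod.growth {L : X.Modules} (hK : Kod k L) (hL : PicF.IsInvertible L) (d : ℕ)
    (hd : topologicalKrullDim X = (d : WithBot ℕ∞)) :
    ∃ c : ℚ, 0 < c ∧ ∃ n₀ : ℕ, ∀ n, n₀ ≤ n → c * (n : ℚ) ^ d ≤ CurveRR.h k (CohB1.tensorPow L n) 0 ∧
      0 < CurveRR.h k (CohB1.tensorPow L n) 0 := by
  obtain ⟨R, hR⟩ := hK.eventually_pos k hL d hd
  obtain ⟨A, A', m, hA, hAA', hm, hpos⟩ := hK
  have hA' := Intersect.isInvertible_inverse hA.1 hAA'
  have hP := TMul.isInvertible_tensorMod hA' (TMul.isInvertible_tensorPow hL m)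
  obtain ⟨c, hc, n₁, hn₁⟩ := ample_growth k hA TMul.isInvertible_structureModule d hd
  refine ⟨c / ((2 * m : ℕ) : ℚ) ^ d, by positivity, 2 * (R + m * (n₁ + 1)), fun n hn => ⟨?_, hR n (by omega)⟩⟩
  set q := (n - R) / m with hq
  have hmq : m * q + (n - R) % m = n - R := Nat.div_add_mod _ _
  have hrm := Nat.mod_lt (n - R) hm
  have hm1 : m ≤ m * (n₁ + 1) := Nat.le_mul_of_pos_right m (Nat.succ_pos n₁)
  have hq1 : n₁ ≤ q := by
    rw [hq, Nat.le_div_iff_mul_le hm, mul_comm]
    have : m * (n₁ + 1) = m * n₁ + m := by ring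
    omega
  have h1 : CurveRR.h k (CohB1.tensorPow A q) 0 ≤ CurveRR.h k (CohB1.tensorPow L n) 0 := by
    have hM := TMul.isInvertible_tensorPow hA.1 q
    refine (h0_le_tensor k (TMul.isInvertible_tensorMod (TMul.isInvertible_tensorPow hP q)
      (TMul.isInvertible_tensorPow hL (n - m * q))) hM ?_).trans_eq (h_congr k ?_ 0)
    · exact h0_pos_tensor k (TMul.isInvertible_tensorPow hP q) (TMul.isInvertible_tensorPow hL _)
        (h0_pos_pow k hP hpos q) (hR _ (by omega))
    · simp only [cl_tensor, cl_pow, mul_pow, ← pow_mul]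
      rw [show PicF.cl A' ^ q * PicF.cl L ^ (m * q) * PicF.cl L ^ (n - m * q) * PicF.cl A ^ q =
        (PicF.cl A ^ q * PicF.cl A' ^ q) * (PicF.cl L ^ (m * q) * PicF.cl L ^ (n - m * q)) from by ac_rfl,
        ← mul_pow, cl_inv hAA', one_pow, one_mul, ← pow_add, Nat.add_sub_cancel' (by omega)]
  have h2 := (hn₁ q hq1).1
  rw [h_congr k (show PicF.cl (CohB1.tensorMod (CohB1.tensorPow A q) (Coh.structureModule X)) =
    PicF.cl (CohB1.tensorPow A q) by rw [cl_tensor, cl_one, mul_one]) 0] at h2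
  have h3 : (n : ℚ) ≤ ((2 * m : ℕ) : ℚ) * q := by
    have : n ≤ 2 * (m * q) := by omega
    rw [← mul_assoc] at this
    exact_mod_cast this
  calc c / ((2 * m : ℕ) : ℚ) ^ d * (n : ℚ) ^ d ≤ c / ((2 * m : ℕ) : ℚ) ^ d * (((2 * m : ℕ) : ℚ) * q) ^ d :=
        mul_le_mul_of_nonneg_left (pow_le_pow_left₀ (Nat.cast_nonneg n) h3 d) (by positivity)
    _ = c * (q : ℚ) ^ d := by rw [mul_pow]; field_simp
    _ ≤ _ := h2.trans (by exact_mod_cast h1)

/-- Kodaira's lemma. -/
theorem kod_of_freq {L A : X.Modules} (hL : PicF.IsInvertible L) (hA : CohB1.IsAmple A) (d : ℕ)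
    (hd : topologicalKrullDim X = (d : WithBot ℕ∞)) {c : ℚ} (hc : 0 < c)
    (h : ∃ᶠ n : ℕ in atTop, c * (n : ℚ) ^ d ≤ CurveRR.h k (CohB1.tensorPow L n) 0) : Kod k L := by
  haveI := CurveRR.isNoetherian_of_proper k X
  obtain ⟨c₁, -, e, he⟩ := ample_growth k hA TMul.isInvertible_structureModule d hd
  let B := CohB1.tensorPow A (e + 1)
  have hBA : CohB1.IsAmple B := TMul.isAmple_tensorPow hA (Nat.succ_pos e)
  obtain ⟨B', hB', hBB'⟩ := W7Hull.exists_tensor_inverse hBA.1
  suffices hex : ∃ n, 1 ≤ n ∧ 0 < CurveRR.h k (CohB1.tensorMod B' (CohB1.tensorPow L n)) 0 by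
    obtain ⟨n, hn, hp⟩ := hex
    exact ⟨B, B', n, hBA, hBB', hn, hp⟩
  rcases Nat.eq_zero_or_pos d with rfl | hd0
  · haveI := subsingleton_of_dim_zero k (X := X) hd
    obtain ⟨e'⟩ := nonempty_iso_one_of_subsingleton (X := X)
      (TMul.isInvertible_tensorMod hB' (TMul.isInvertible_tensorPow hL 1))
    exact ⟨1, le_rfl, by rw [← CurveRR.h_eq_of_iso (k := k) e' 0]; exact h0_one_pos k⟩
  obtain ⟨f, rfl⟩ : ∃ f, d = f + 1 := ⟨d - 1, by omega⟩
  obtain ⟨s, hs⟩ := exists_section_of_h0 k (G := B) ((he (e + 1) (Nat.le_succ e)).2.trans_eq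
    (h_congr k (by simp only [B, cl_tensor, cl_one, mul_one]) 0))
  haveI : Mono s := CurveRR.mono_of_ne_zero TMul.isInvertible_structureModule hBA.1 s hs
  have hQd : topologicalKrullDim (CohB1.support (cokernel s)) ≤ (f : WithBot ℕ∞) := by
    refine le_of_lt_succ' (dim_proper_lt (ξ := genericPoint X) (n := f + 1) ?_ ?_ (fun x _ => ?_) ?_)
    · exact lt_succ_of_le' ((topologicalKrullDim_subspace_le X _).trans hd.le)
    · exact Groth.Agent.QC.isClosed_support (isCoh_coker k hBA.1 s).2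
    · rw [genericPoint_closure]
      trivial
    · exact CurveRR.notMem_support_coker s _ (CurveRR.surjective_stalk_generic hBA.1 s hs)
  have hQ := isCoh_twist k (isCoh_coker k hBA.1 s) hB'
  obtain ⟨C, hC, hb⟩ := exists_h0_pow_le k hA hL hQ f ((dim_support_twist (isCoh_coker k hBA.1 s) _).trans hQd)
  obtain ⟨N, hN⟩ := exists_nat_gt (C * 2 ^ f / c)
  obtain ⟨n, hn, hbig⟩ := frequently_atTop.1 h (N + 1)
  refine ⟨n, by omega, ?_⟩
  have hT := TMul.isInvertible_tensorMod hB' (TMul.isInvertible_tensorPow hL n)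
  have h2 := (seq_facts k hBA.1 hT s).2
  rw [h_congr k (show PicF.cl (CohB1.tensorMod B (CohB1.tensorMod B' (CohB1.tensorPow L n))) =
      PicF.cl (CohB1.tensorPow L n) by rw [cl_tensor, cl_tensor, ← mul_assoc, cl_inv hBB', one_mul]) 0,
    h_congr k (show PicF.cl (CohB1.tensorMod (cokernel s) (CohB1.tensorMod B' (CohB1.tensorPow L n))) =
      PicF.cl (CohB1.tensorMod (CohB1.tensorMod (cokernel s) B') (CohB1.tensorPow L n)) by
      simp only [cl_tensor]; ac_rfl) 0] at h2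
  by_contra h0
  have h3 : (CurveRR.h k (CohB1.tensorPow L n) 0 : ℚ) ≤
      CurveRR.h k (CohB1.tensorMod (CohB1.tensorMod (cokernel s) B') (CohB1.tensorPow L n)) 0 := by
    exact_mod_cast h2.trans (by omega)
  have hn' : (N : ℚ) + 1 ≤ n := by exact_mod_cast hn
  have hn1 : (1 : ℚ) ≤ n := by linarith [(Nat.cast_nonneg N : (0 : ℚ) ≤ N)]
  have h4 : C * ((n : ℚ) + 1) ^ f ≤ C * 2 ^ f * (n : ℚ) ^ f := by
    rw [mul_assoc, ← mul_pow]
    exact mul_le_mul_of_nonneg_left (pow_le_pow_left₀ (by positivity) (by linarith) f) hC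
  have h5 : C * 2 ^ f < c * n := by
    rw [div_lt_iff₀ hc] at hN
    nlinarith
  have h6 : C * 2 ^ f * (n : ℚ) ^ f < c * (n : ℚ) ^ (f + 1) := by
    rw [pow_succ', ← mul_assoc]
    exact mul_lt_mul_of_pos_right h5 (by positivity)
  linarith [hb n]

end Groth.Agent.Nakai
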