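import Groth.Agent.Nakai.BigApps
import Groth.Agent.CohFinite.Ample
import Groth.Agent.W7Hull.AmpleSurj

/-!
Top cohomology of high powers of a big module vanishes.
-/

set_option autoImplicit false
set_option backward.isDefEq.respectTransparency false
set_option linter.style.haveILetI false
set_option linter.unusedSectionVars false

universe u

open CategoryTheory CategoryTheory.Limits AlgebraicGeometry TopologicalSpace Filter
open Groth.Agent.Intersect

noncomputable section

namespace Groth.Agent.Nakai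

attribute [local instance] clMonoid

variable {X : Scheme.{u}} (k : Type u) [Field k] [X.Over (Spec (CommRingCat.of k))] [IsProper (X ↘ Spec (CommRingCat.of k))]
  [IsIntegral X]

include k in
/-- The cokernel of a monomorphism of invertible modules lives in lower dimension. -/
theorem dim_coker_mono {A M : X.Modules} (hA : PicF.IsInvertible A) (hM : PicF.IsInvertible M) (φ : A ⟶ M) [Mono φ]
    {e : ℕ} (hX : topologicalKrullDim X = ((e + 1 : ℕ) : WithBot ℕ∞)) :
    Coh.IsCoh (cokernel φ) ∧ topologicalKrullDim (CohB1.support (cokernel φ)) ≤ (e : WithBot ℕ∞) := by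
  haveI := CurveRR.isNoetherian_of_proper k X
  have hc : Coh.IsCoh (cokernel φ) := Groth.Agent.QC.isCoh_cokernel (isCoh_inv k hA).1 (isCoh_inv k hM) φ
  have hne : φ ≠ 0 := fun h => by
    have h1 : (𝟙 A : A ⟶ A) = 0 := by rw [← cancel_mono φ, Category.id_comp, zero_comp, h]
    have h2 := support_invertible k hA
    rw [Devissage.support_of_isZero ((IsZero.iff_id_eq_zero _).2 h1)] at h2
    exact Set.empty_ne_univ h2
  refine ⟨hc, le_of_lt_succ' (dim_proper_lt (ξ := genericPoint X) (n := e + 1) ?_ ?_ (fun x _ => ?_) ?_)⟩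
  · exact lt_succ_of_le' ((topologicalKrullDim_subspace_le X _).trans hX.le)
  · exact Groth.Agent.QC.isClosed_support hc.2
  · rw [genericPoint_closure]
    trivial
  · exact CurveRR.notMem_support_coker φ _ (CurveRR.surjective_stalk_generic hM φ hne)

theorem Kod.top_vanish {L : X.Modules} (hK : Kod k L) (hL : PicF.IsInvertible L) {e : ℕ}
    (hX : topologicalKrullDim X = ((e + 1 : ℕ) : WithBot ℕ∞)) :
    ∃ n₀ : ℕ, ∀ n, n₀ ≤ n → Subsingleton (Coh.HH X (CohB1.tensorPow L n) (e + 1)) := by
  haveI := CurveRR.isNoetherian_of_proper k X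
  obtain ⟨A, A', m, hA, hAA', hm, hpos⟩ := hK
  obtain ⟨L', hL', hLL'⟩ := W7Hull.exists_tensor_inverse hL
  have hA' := Intersect.isInvertible_inverse hA.1 hAA'
  choose N hN using fun r : ℕ => CohFinite.vanish_ample (X ↘ Spec (CommRingCat.of k)) hA
    (isCoh_inv k (TMul.isInvertible_tensorPow hL r))
  refine ⟨m * (∑ r ∈ Finset.range m, N r), fun n hn => ?_⟩
  set j := n / m
  set r := n % m
  have hr : r < m := Nat.mod_lt _ hm
  have hj : N r ≤ j := by
    refine (Finset.single_le_sum (f := N) (fun _ _ => Nat.zero_le _) (Finset.mem_range.2 hr)).trans ?_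
    exact (Nat.le_div_iff_mul_le hm).2 (by rw [Nat.mul_comm]; exact hn)
  have hP : PicF.IsInvertible (CohB1.tensorMod (CohB1.tensorPow L r) (CohB1.tensorPow A j)) :=
    TMul.isInvertible_tensorMod (TMul.isInvertible_tensorPow hL r) (TMul.isInvertible_tensorPow hA.1 j)
  obtain ⟨φ, hφ⟩ := exists_mono_of_h0 k hP (TMul.isInvertible_tensorPow hL n)
    (A' := CohB1.tensorMod (CohB1.tensorPow L' r) (CohB1.tensorPow A' j))
    (iso_of_cl (by
      simp only [cl_tensor, cl_pow, cl_one]
      rw [show PicF.cl L ^ r * PicF.cl A ^ j * (PicF.cl L' ^ r * PicF.cl A' ^ j) =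
        (PicF.cl L ^ r * PicF.cl L' ^ r) * (PicF.cl A ^ j * PicF.cl A' ^ j) from by ac_rfl,
        ← mul_pow, ← mul_pow, cl_inv hLL', cl_inv hAA', one_pow, one_pow, one_mul]))
    (by
      refine (h0_pos_pow k (TMul.isInvertible_tensorMod hA' (TMul.isInvertible_tensorPow hL m)) hpos j).trans_eq
        (h_congr k ?_ 0)
      have hn' : n = r + m * j := (Nat.mod_add_div n m).symm
      simp only [cl_tensor, cl_pow, mul_pow, ← pow_mul, hn', pow_add]
      rw [show PicF.cl L' ^ r * PicF.cl A' ^ j * (PicF.cl L ^ r * PicF.cl L ^ (m * j)) =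
        (PicF.cl L ^ r * PicF.cl L' ^ r) * (PicF.cl A' ^ j * PicF.cl L ^ (m * j)) from by ac_rfl,
        ← mul_pow, cl_inv hLL', one_pow, one_mul])
  obtain ⟨hc, hcd⟩ := dim_coker_mono k hP (TMul.isInvertible_tensorPow hL n) φ hX
  exact W7Hull.hh_subsingleton_middle (Devissage.cokSeq_shortExact φ) (e + 1) (hN r j hj e)
    (subsingleton_of_support_le k e hc hcd (e + 1) (Nat.lt_succ_self e))

end Groth.Agent.Nakai
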