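import Groth.Agent.Nakai.SectionDim

/-!
Uniform bounds on the sections of twists by numerically trivial modules.
-/

set_option autoImplicit false
set_option backward.isDefEq.respectTransparency false
set_option linter.style.haveILetI false
set_option linter.unusedSectionVars false

universe u

open CategoryTheory CategoryTheory.Limits AlgebraicGeometry TopologicalSpace
open Groth.Agent.Intersect
open Groth.Agent.CohFinite (tmap shortExact_tmap)

noncomputable section

namespace Groth.Agent.Nakai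

attribute [local instance] clMonoid

variable {X : Scheme.{u}} (k : Type u) [Field k] [X.Over (Spec (CommRingCat.of k))] [IsProper (X ↘ Spec (CommRingCat.of k))]

/-- Vanishing degree on everything of dimension at most one. -/
def DegFlat (M : X.Modules) : Prop :=
  ∀ F : X.Modules, Coh.IsCoh F → topologicalKrullDim (CohB1.support F) ≤ ((1 : ℕ) : WithBot ℕ∞) → D k [M] F = 0

theorem D_one_cons {l : List X.Modules} (F : X.Modules) : D k (Coh.structureModule X :: l) F = 0 := by
  rw [D, D_iso k l (TMul.commIso F (Coh.structureModule X) ≪≫ TMul.leftUnitIso F), sub_self]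

/-- Projection formula for global sections. -/
theorem h0_push_tensor {Y : Scheme.{u}} [Y.Over (Spec (CommRingCat.of k))] (g : Y ⟶ X) [IsClosedImmersion g]
    (hg : g ≫ (X ↘ Spec (CommRingCat.of k)) = Y ↘ Spec (CommRingCat.of k)) {G : Y.Modules} (hG : Coh.IsQCoh G)
    {M : X.Modules} (hM : PicF.IsInvertible M) :
    CurveRR.h k (CohB1.tensorMod ((Scheme.Modules.pushforward g).obj G) M) 0 =
      CurveRR.h k (CohB1.tensorMod G ((Scheme.Modules.pullback g).obj M)) 0 := by
  haveI : G.IsQuasicoherent := hG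
  haveI : Coh.IsQCoh (CohB1.tensorMod G ((Scheme.Modules.pullback g).obj M)) :=
    TMul.isQCoh_tensor (PicLoc.isInvertible_pullback g hM)
  obtain ⟨e⟩ := CohFinite.hh_push_linear k g hg (CohB1.tensorMod G ((Scheme.Modules.pullback g).obj M))
    (CohQC.directAcyclic_of_isAffineHom g _) 0
  exact (CurveRR.h_eq_of_iso (KFlat.projFormulaIso g G M) 0).trans e.finrank_eq.symm

/-- The step on an integral scheme: subtract an ample divisor repeatedly. -/
theorem flat_step [IsIntegral X] {H : X.Modules} (hH : CohB1.IsAmple H) {e : ℕ}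
    (hX : topologicalKrullDim X = ((e + 1 : ℕ) : WithBot ℕ∞)) :
    ∃ Q : X.Modules, Coh.IsCoh Q ∧ topologicalKrullDim (CohB1.support Q) ≤ (e : WithBot ℕ∞) ∧
      ∀ M : X.Modules, PicF.IsInvertible M → DegFlat k M → ∀ (C : ℚ), 0 ≤ C →
        (∀ m : ℕ, (CurveRR.h k (CohB1.tensorMod Q (CohB1.tensorMod M (CohB1.tensorPow H m))) 0 : ℚ) ≤
          C * ((m : ℚ) + 1) ^ e) →
        ∀ m : ℕ, (CurveRR.h k (CohB1.tensorMod M (CohB1.tensorPow H m)) 0 : ℚ) ≤ C * ((m : ℚ) + 1) ^ (e + 1) := by
  classical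
  haveI := CurveRR.isNoetherian_of_proper k X
  obtain ⟨c₁, -, e₀, he₀⟩ := ample_growth k hH TMul.isInvertible_structureModule (e + 1) hX
  let B := CohB1.tensorPow H (e₀ + 1)
  have hB : CohB1.IsAmple B := TMul.isAmple_tensorPow hH (Nat.succ_pos e₀)
  obtain ⟨B', hB', hBB'⟩ := W7Hull.exists_tensor_inverse hB.1
  obtain ⟨s, hs⟩ := exists_section_of_h0 k (G := B) ((he₀ (e₀ + 1) (Nat.le_succ e₀)).2.trans_eq
    (h_congr k (by simp only [B, cl_tensor, cl_one, mul_one]) 0))
  haveI : Mono s := CurveRR.mono_of_ne_zero TMul.isInvertible_structureModule hB.1 s hs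
  have hO := isCoh_one k (X := X)
  have hOd : topologicalKrullDim (CohB1.support (Coh.structureModule X)) ≤ ((e + 1 : ℕ) : WithBot ℕ∞) :=
    (dim_support_structure.trans hX).le
  have hc := isCoh_coker k hB.1 s
  refine ⟨CohB1.tensorMod (cokernel s) B', isCoh_twist k hc hB', (dim_support_twist hc _).trans ?_,
    fun M hM hflat C hC hQ m => ?_⟩
  · refine le_of_lt_succ' (dim_proper_lt (ξ := genericPoint X) (n := e + 1) ?_ ?_ (fun x _ => ?_) ?_)
    · exact lt_succ_of_le' ((topologicalKrullDim_subspace_le X _).trans hX.le)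
    · exact Groth.Agent.QC.isClosed_support hc.2
    · rw [genericPoint_closure]
      trivial
    · exact CurveRR.notMem_support_coker s _ (CurveRR.surjective_stalk_generic hB.1 s hs)
  induction m using Nat.strong_induction_on with
  | _ m ih =>
  have hG := TMul.isInvertible_tensorMod hM (TMul.isInvertible_tensorPow hH.1 m)
  have hP := TMul.isInvertible_tensorMod hB' hG
  -- the sequence
  have hS := shortExact_tmap hG (shortExact_tmap hB' (Devissage.cokSeq_shortExact s))
  have h1 := h0_middle k hS (isCoh_twist k (isCoh_twist k hO hB') hG)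
    (isCoh_twist k (isCoh_twist k (isCoh_inv k hB.1) hB') hG) (isCoh_twist k (isCoh_twist k hc hB') hG)
  change CurveRR.h k (CohB1.tensorMod (CohB1.tensorMod B B') (CohB1.tensorMod M (CohB1.tensorPow H m))) 0 ≤
    CurveRR.h k (CohB1.tensorMod (CohB1.tensorMod (Coh.structureModule X) B')
      (CohB1.tensorMod M (CohB1.tensorPow H m))) 0 + _ at h1
  rw [h_congr k (show PicF.cl (CohB1.tensorMod (CohB1.tensorMod B B') (CohB1.tensorMod M (CohB1.tensorPow H m))) =
      PicF.cl (CohB1.tensorMod M (CohB1.tensorPow H m)) by rw [cl_tensor, cl_tensor B B', cl_inv hBB', one_mul]) 0,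
    h_congr k (show PicF.cl (CohB1.tensorMod (CohB1.tensorMod (Coh.structureModule X) B')
        (CohB1.tensorMod M (CohB1.tensorPow H m))) =
      PicF.cl (CohB1.tensorMod B' (CohB1.tensorMod M (CohB1.tensorPow H m))) by
        simp only [cl_tensor, cl_one, one_mul]) 0] at h1
  have hm0 : (0 : ℚ) ≤ m := Nat.cast_nonneg m
  have hmain : (CurveRR.h k (CohB1.tensorMod B' (CohB1.tensorMod M (CohB1.tensorPow H m))) 0 : ℚ) ≤
      C * (m : ℚ) * ((m : ℚ) + 1) ^ e := by
    by_cases hme : e₀ + 1 ≤ m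
    · obtain ⟨w, rfl⟩ : ∃ w, m = w + (e₀ + 1) := ⟨m - (e₀ + 1), by omega⟩
      rw [h_congr k (show PicF.cl (CohB1.tensorMod B' (CohB1.tensorMod M (CohB1.tensorPow H (w + (e₀ + 1))))) =
        PicF.cl (CohB1.tensorMod M (CohB1.tensorPow H w)) by
          simp only [cl_tensor, cl_pow, pow_add]
          rw [show PicF.cl B' * (PicF.cl M * (PicF.cl H ^ w * (PicF.cl H ^ e₀ * PicF.cl H ^ 1))) =
            PicF.cl M * PicF.cl H ^ w * ((PicF.cl H ^ e₀ * PicF.cl H ^ 1) * PicF.cl B') from by ac_rfl,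
            ← pow_add, show PicF.cl H ^ (e₀ + 1) = PicF.cl B from (cl_pow H _).symm, cl_inv hBB', mul_one]) 0]
      refine (ih w (by omega)).trans ?_
      rw [pow_succ', ← mul_assoc]
      refine mul_le_mul (mul_le_mul_of_nonneg_left ?_ hC) (pow_le_pow_left₀ (by positivity) ?_ e)
        (by positivity) (by positivity)
      · push_cast; linarith [(Nat.cast_nonneg e₀ : (0 : ℚ) ≤ e₀)]
      · push_cast; linarith [(Nat.cast_nonneg e₀ : (0 : ℚ) ≤ e₀)]
    -- no sections below
    have hzero : CurveRR.h k (CohB1.tensorMod B' (CohB1.tensorMod M (CohB1.tensorPow H m))) 0 = 0 := by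
      by_contra hne
      obtain ⟨t, ht⟩ := exists_section_of_h0 k (Nat.pos_of_ne_zero hne)
      set l := List.replicate e H
      have hl : ∀ N ∈ l, PicF.IsInvertible N := fun N hN => by rw [List.eq_of_mem_replicate hN]; exact hH.1
      have hlen : e + 1 = l.length + 1 := by simp [l]
      have hnn : 0 ≤ (-1 : ℚ) ^ (e + 1) * D k (CohB1.tensorMod B' (CohB1.tensorMod M (CohB1.tensorPow H m)) :: l)
          (Coh.structureModule X) := by
        by_cases hi : IsIso t
        · rw [D, D_iso k l (PicGrp.tensorModIso (Iso.refl (Coh.structureModule X)) (asIso t).symm ≪≫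
            TMul.leftUnitIso _), sub_self, mul_zero]
        · exact (deg_pos_of_section k hH hP t ht hi hX).le
      have h5 := D_tensor k hO hM (TMul.isInvertible_tensorPow hH.1 m) hl hlen hOd
      rw [D_flat_ample k hH hM hflat e _ hO hOd, zero_add, D_pow k hO hH.1 hl hlen hOd m] at h5
      obtain ⟨eiso⟩ := iso_of_cl (show PicF.cl (CohB1.tensorMod M (CohB1.tensorPow H m)) =
          PicF.cl (CohB1.tensorMod B (CohB1.tensorMod B' (CohB1.tensorMod M (CohB1.tensorPow H m)))) by
        rw [cl_tensor B, cl_tensor B', ← mul_assoc, cl_inv hBB', one_mul])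
      rw [D, D_iso k l (PicGrp.tensorModIso (Iso.refl (Coh.structureModule X)) eiso), ← D,
        D_tensor k hO hB.1 hP hl hlen hOd] at h5
      rw [show D k (B :: l) (Coh.structureModule X) = D k (CohB1.tensorPow H (e₀ + 1) :: l) (Coh.structureModule X)
        from rfl, D_pow k hO hH.1 hl hlen hOd (e₀ + 1)] at h5
      have hpos : 0 < (-1 : ℚ) ^ (e + 1) * D k (H :: l) (Coh.structureModule X) := by
        rw [show H :: l = List.replicate (e + 1) H from (List.replicate_succ).symm, D_replicate]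
        exact alt_pos k (e + 1) _ (fun _ => hH) _ hO (dim_support_structure.trans hX)
      have hlt : (m : ℚ) < ((e₀ + 1 : ℕ) : ℚ) := by exact_mod_cast not_le.1 hme
      have h6 : ((e₀ + 1 : ℕ) : ℚ) * ((-1 : ℚ) ^ (e + 1) * D k (H :: l) (Coh.structureModule X)) +
          (-1 : ℚ) ^ (e + 1) * D k (CohB1.tensorMod B' (CohB1.tensorMod M (CohB1.tensorPow H m)) :: l)
            (Coh.structureModule X) = (m : ℚ) * ((-1 : ℚ) ^ (e + 1) * D k (H :: l) (Coh.structureModule X)) := by
        linear_combination (-1 : ℚ) ^ (e + 1) * h5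
      nlinarith
    rw [hzero]
    push_cast
    positivity
  have h2 := hQ m
  have h3 : (CurveRR.h k (CohB1.tensorMod M (CohB1.tensorPow H m)) 0 : ℚ) ≤
      CurveRR.h k (CohB1.tensorMod B' (CohB1.tensorMod M (CohB1.tensorPow H m))) 0 +
      CurveRR.h k (CohB1.tensorMod (CohB1.tensorMod (cokernel s) B') (CohB1.tensorMod M (CohB1.tensorPow H m))) 0 := by
    exact_mod_cast h1
  refine h3.trans ((add_le_add hmain h2).trans_eq ?_)
  ring

/-- Uniformly bounded sections of twists by modules of degree zero on curves. -/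
def FlatBound (H : X.Modules) (e : ℕ) (F : X.Modules) : Prop :=
  ∃ C : ℚ, 0 ≤ C ∧ ∀ M : X.Modules, PicF.IsInvertible M → DegFlat k M → ∀ m : ℕ,
    (CurveRR.h k (CohB1.tensorMod F (CohB1.tensorMod M (CohB1.tensorPow H m))) 0 : ℚ) ≤ C * ((m : ℚ) + 1) ^ e

theorem flatBound_mono {H : X.Modules} {e e' : ℕ} (he : e ≤ e') {F : X.Modules} (h : FlatBound k H e F) :
    FlatBound k H e' F := by
  obtain ⟨C, hC, h⟩ := h
  exact ⟨C, hC, fun M hM hf m => (h M hM hf m).trans
    (mul_le_mul_of_nonneg_left (pow_le_pow_right₀ (le_add_of_nonneg_left (Nat.cast_nonneg m)) he) hC)⟩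

theorem flatBound {H : X.Modules} (hH : CohB1.IsAmple H) :
    ∀ (e : ℕ) (F : X.Modules), Coh.IsCoh F → topologicalKrullDim (CohB1.support F) ≤ (e : WithBot ℕ∞) →
      FlatBound k H e F := by
  haveI := CurveRR.isNoetherian_of_proper k X
  intro e
  induction e with
  | zero =>
    intro F hF hd
    refine ⟨CurveRR.h k F 0, Nat.cast_nonneg _, fun M hM _ m => le_of_eq ?_⟩
    have hG := TMul.isInvertible_tensorMod hM (TMul.isInvertible_tensorPow hH.1 m)
    have h0 : ∀ G : X.Modules, Coh.IsCoh G → topologicalKrullDim (CohB1.support G) ≤ ((0 : ℕ) : WithBot ℕ∞) →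
        Curv2.euler k X G = (CurveRR.h k G 0 : ℤ) := fun G hG hGd =>
      CurveRR.euler_eq_h0 fun i hi => SuppZero.subsingleton_hh_of_supported (Groth.Agent.QC.isClosed_support hG.2)
        (by simpa using hGd) _ (fun x hx hx' => hx hx') i hi
    have h1 := D_eq_zero k (l := [CohB1.tensorMod M (CohB1.tensorPow H m)]) hF (by simp [hG]) (lt_succ_of_le' hd)
    rw [D_one, sub_eq_zero, h0 F hF hd, h0 _ (isCoh_twist k hF hG) ((dim_support_twist hF _).trans hd)] at h1
    rw [pow_zero, mul_one]
    exact_mod_cast h1.symm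
  | succ e ih =>
    intro F hF hd
    refine Devissage.extension_roots (FlatBound k H (e + 1))
      (fun A B ⟨i⟩ ⟨C, hC, h⟩ => ⟨C, hC, fun M hM hf m => by
        rw [← CurveRR.h_eq_of_iso (PicGrp.tensorModIso i (Iso.refl _)) 0]; exact h M hM hf m⟩)
      (fun A hA => ⟨0, le_rfl, fun M hM hf m => ?_⟩)
      ⟨CohB1.support F, Groth.Agent.QC.isClosed_support hF.2⟩
      (fun S hS h₁ h₂ h₃ ⟨C₁, hC₁, a₁⟩ ⟨C₃, hC₃, a₃⟩ => ⟨C₁ + C₃, add_nonneg hC₁ hC₃, fun M hM hf m => ?_⟩)
      (fun A r hA hr ⟨C, hC, h⟩ => ⟨C, hC, fun M hM hf m => ?_⟩) (fun ξ hξ => ?_) F hF le_rfl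
    · have hz : IsZero (CohB1.tensorMod A (CohB1.tensorMod M (CohB1.tensorPow H m))) := (IsZero.iff_id_eq_zero _).2
        (by rw [← Groth.Agent.CohFinite.tmap_id, hA.eq_of_src (𝟙 A) 0, Groth.Agent.CohFinite.tmap_zero])
      rw [CurveRR.h_eq_zero (W7Hull.hh_subsingleton_of_isZero hz 0)]
      simp
    · have hG := TMul.isInvertible_tensorMod hM (TMul.isInvertible_tensorPow hH.1 m)
      have h1 := h0_middle k (shortExact_tmap hG hS) (isCoh_twist k h₁ hG) (isCoh_twist k h₂ hG) (isCoh_twist k h₃ hG)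
      rw [add_mul]
      exact (Nat.cast_le.2 h1).trans ((Nat.cast_add _ _).trans_le (add_le_add (a₁ M hM hf m) (a₃ M hM hf m)))
    · let ι' : A ⟶ ∐ fun _ : Fin r => A := Sigma.ι (fun _ : Fin r => A) ⟨0, hr⟩
      haveI : Mono ι' := (SplitMono.mk (Sigma.desc fun _ : Fin r => 𝟙 A) (Sigma.ι_desc _ _)).mono
      exact (Nat.cast_le.2 (h0_twist_le_of_mono k (TMul.isInvertible_tensorMod hM (TMul.isInvertible_tensorPow hH.1 m))
        ι' (CohFinite.isCoh_of_iso (biproduct.isoCoproduct _) (Devissage.isCoh_biproduct _ fun _ => hA)))).trans (h M hM hf m)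
    have hξd : topologicalKrullDim (closure ({ξ} : Set X)) ≤ ((e + 1 : ℕ) : WithBot ℕ∞) :=
      (dim_mono (closure_minimal (Set.singleton_subset_iff.2 hξ) (Groth.Agent.QC.isClosed_support hF.2))).trans hd
    obtain ⟨d, hdξ⟩ := exists_dim_closure k ξ
    by_cases hde : d ≤ e
    · exact Or.inl fun R hR => flatBound_mono k (Nat.le_succ e)
        (ih R hR.coh ((dim_mono hR.support_subset).trans (hdξ.trans_le (by exact_mod_cast hde))))
    obtain rfl : d = e + 1 := by
      rw [hdξ] at hξd
      have := CartierDim.natCast_le_withBot.1 hξd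
      omega
    let Z := (Scheme.IdealSheafData.vanishingIdeal (Devissage.Zc ξ)).subscheme
    let i : Z ⟶ X := Devissage.Zi ξ
    letI : Z.Over (Spec (CommRingCat.of k)) := ⟨i ≫ (X ↘ Spec (CommRingCat.of k))⟩
    haveI : IsProper (Z ↘ Spec (CommRingCat.of k)) := inferInstanceAs (IsProper (i ≫ _))
    haveI : IsIntegral Z := Devissage.Zi_isIntegral ξ
    haveI := CurveRR.isNoetherian_of_proper k Z
    have hZ : topologicalKrullDim Z = ((e + 1 : ℕ) : WithBot ℕ∞) := by
      rw [← hdξ, ← Devissage.range_Zi ξ]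
      exact IsHomeomorph.topologicalKrullDim_eq _ i.isClosedEmbedding.isEmbedding.toHomeomorph.isHomeomorph
    have hOZ : Coh.IsCoh (Coh.structureModule Z) := RefStalk.isCoh_structureModule
    have hH' : CohB1.IsAmple ((Scheme.Modules.pullback i).obj H) := TMul.isAmple_pullback_of_isAffineHom i hH
    have hA : FlatBound k H (e + 1) (Devissage.A ξ) := by
      obtain ⟨Q, hQ, hQd, hstep⟩ := flat_step k hH' (e := e) hZ
      obtain ⟨C, hC, hb⟩ := ih _ (isCoh_push' i hQ) ((dim_support_push i hQ).trans_le hQd)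
      refine ⟨C, hC, fun M hM hf m => ?_⟩
      have key : ∀ j, PicF.cl ((Scheme.Modules.pullback i).obj (CohB1.tensorMod M (CohB1.tensorPow H j))) =
          PicF.cl (CohB1.tensorMod ((Scheme.Modules.pullback i).obj M)
            (CohB1.tensorPow ((Scheme.Modules.pullback i).obj H) j)) := fun j => by
        obtain ⟨a⟩ := TMul.nonempty_pullTensorIso i M (CohB1.tensorPow H j)
        obtain ⟨b⟩ := TMul.nonempty_pullPowIso i H j
        exact ((PicGrp.cl_eq_cl_iff _ _).2 ⟨PicGrp.tensorModIso (Iso.refl _) b ≪≫ a⟩).symm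
      have hinv : ∀ j, PicF.IsInvertible (CohB1.tensorMod M (CohB1.tensorPow H j)) := fun j =>
        TMul.isInvertible_tensorMod hM (TMul.isInvertible_tensorPow hH.1 j)
      rw [h0_push_tensor k i rfl hOZ.1 (hinv m),
        h_congr k (show PicF.cl (CohB1.tensorMod (Coh.structureModule Z)
          ((Scheme.Modules.pullback i).obj (CohB1.tensorMod M (CohB1.tensorPow H m)))) =
            PicF.cl (CohB1.tensorMod ((Scheme.Modules.pullback i).obj M)
              (CohB1.tensorPow ((Scheme.Modules.pullback i).obj H) m)) by rw [cl_tensor, cl_one, one_mul, key]) 0]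
      refine hstep _ (PicLoc.isInvertible_pullback i hM) (fun G hG hGd => D_one_pullback k i rfl hM hf hG hGd) C hC
        (fun j => le_of_eq_of_le ?_ (hb M hM hf j)) m
      rw [h0_push_tensor k i rfl hQ.1 (hinv j)]
      exact congrArg Nat.cast (h_congr k (by rw [cl_tensor Q, cl_tensor Q, key]) 0)
    refine Or.inr ⟨Devissage.A ξ, Devissage.isCoh_A ξ, Devissage.support_A_subset ξ, (Devissage.piece_A ξ).mem,
      Devissage.smul_stalk_of_killed (Devissage.killed_push _), fun J hJ => ?_⟩
    obtain ⟨M', m', hm, hM', h0, hsurj⟩ := W7Hull.exists_push_sub i J (Coh.structureModule Z) hOZ.1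
    haveI := hm
    haveI : M'.IsQuasicoherent := hM'
    let ι' : (Coh.push i).obj M' ⟶ (Dual3.idealMul J).obj ((Coh.push i).obj (Coh.structureModule Z)) :=
      kernel.lift _ ((Coh.push i).map m') h0
    have hι : ι' ≫ Dual3.idealMulι J ((Coh.push i).obj (Coh.structureModule Z)) = (Coh.push i).map m' :=
      kernel.lift_ι _ _ _
    haveI : Mono (ι' ≫ Dual3.idealMulι J ((Coh.push i).obj (Coh.structureModule Z))) := by rw [hι]; infer_instance
    refine ⟨(Coh.push i).obj M', ι', mono_of_mono ι' (Dual3.idealMulι J ((Coh.push i).obj (Coh.structureModule Z))),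
      Groth.Agent.QC.isQCoh_pushforward i, ?_, ?_⟩
    · show Function.Surjective (Groth.Agent.WeakAssLib.stalkHom (ι' ≫ Dual3.idealMulι J _) ξ)
      rw [hι]
      exact hsurj ξ hJ
    · obtain ⟨C, hC, hb⟩ := hA
      exact ⟨C, hC, fun M hM hf j => (Nat.cast_le.2 (h0_twist_le_of_mono k
        (TMul.isInvertible_tensorMod hM (TMul.isInvertible_tensorPow hH.1 j)) ((Coh.push i).map m')
        (Devissage.isCoh_A ξ))).trans (hb M hM hf j)⟩

end Groth.Agent.Nakai
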