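import Groth.Agent.Nakai.Big
import Groth.Agent.Nakai.Pure
import Groth.Agent.Nakai.NefAmple
import Groth.Agent.Intersect.Numer

/-!
A nef module is big exactly when its top self-intersection is positive.
-/

set_option autoImplicit false
set_option backward.isDefEq.respectTransparency false
set_option linter.style.haveILetI false
set_option linter.unusedSectionVars false

universe u

open CategoryTheory CategoryTheory.Limits AlgebraicGeometry TopologicalSpace Filter
open Groth.Agent.Intersect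

noncomputable section

namespace Groth.Agent.Nakai

attribute [local instance] clMonoid

variable {X : Scheme.{u}} (k : Type u) [Field k] [X.Over (Spec (CommRingCat.of k))] [IsProper (X ↘ Spec (CommRingCat.of k))]

theorem D_twist_eq {F P : X.Modules} (hF : Coh.IsCoh F) (hP : PicF.IsInvertible P) {l : List X.Modules}
    (hl : ∀ M ∈ l, PicF.IsInvertible M) (hd : topologicalKrullDim (CohB1.support F) ≤ (l.length : WithBot ℕ∞)) :
    D k l (CohB1.tensorMod F P) = D k l F := by
  have h := D_eq_zero k (l := P :: l) hF (by simpa [hP] using hl) (lt_succ_of_le' hd)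
  rw [D] at h
  linarith

theorem sign_alt_coker {P : X.Modules} (hP : PicF.IsInvertible P) (s : Coh.structureModule X ⟶ P) [Mono s]
    {l : List X.Modules} (hl : ∀ M ∈ l, PicF.IsInvertible M) (e : ℕ) :
    (-1 : ℚ) ^ (e + 1) * D k (P :: l) (Coh.structureModule X) = (-1 : ℚ) ^ e * D k l (cokernel s) := by
  rw [D_cons_get, alt_coker_section k hP s (forall_get hl), ← D_get, pow_succ]
  ring

variable [IsIntegral X]

/-- Sections of twists with exact leading term, uniformly in negative twists. -/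
theorem exists_uniform_bound_top {Q A B B' : X.Modules} (hQ : Coh.IsCoh Q) (e : ℕ)
    (hd : topologicalKrullDim (CohB1.support Q) ≤ (e : WithBot ℕ∞)) (hA : CohB1.IsAmple A)
    (hB : CohB1.IsAmple B) (hBB' : Nonempty (CohB1.tensorMod B B' ≅ Coh.structureModule X)) :
    ∃ C : ℚ, 0 ≤ C ∧ ∀ n w : ℕ,
      (CurveRR.h k (CohB1.tensorMod Q (CohB1.tensorMod (CohB1.tensorPow A n) (CohB1.tensorPow B' w))) 0 : ℚ) ≤
        (-1 : ℚ) ^ e * D k (List.replicate e A) Q / ((Nat.factorial e : ℕ) : ℚ) * (n : ℚ) ^ e +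
          C * ((n : ℚ) + 1) ^ (e - 1) := by
  classical
  haveI := CurveRR.isNoetherian_of_proper k X
  have hB' := Intersect.isInvertible_inverse hB.1 hBB'
  have hfin : {x : X | x ∈ (⊤ : X.Opens) ∧ Curv2.IsAssPoint Q x}.Finite :=
    Groth.Agent.S1576.result X Q hQ ⊤ isCompact_univ
  obtain ⟨m, σ, hσass, -, -⟩ := TMul.exists_finite_le hB hfin (U := ⊤) (fun x hx => hx.1)
  obtain ⟨eB⟩ := hBB'
  obtain ⟨e'⟩ := NegTwist.nonempty_pow_tensor_pow eB (m + 1)
  obtain ⟨τ, hτ⟩ := NegTwist.exists_locus_map (TMul.isInvertible_tensorPow hB.1 (m + 1)) e' σ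
  have hF : ∀ ρ : ℕ, Coh.IsCoh (CohB1.tensorMod Q (CohB1.tensorPow B' ρ)) := fun ρ =>
    isCoh_twist k hQ (TMul.isInvertible_tensorPow hB' ρ)
  choose C hC using fun ρ : ℕ => Intersect.exists_h0_bound k hA e (hF ρ) ((dim_support_twist hQ _).trans hd)
  refine ⟨∑ ρ ∈ Finset.range (m + 1), |C ρ|, Finset.sum_nonneg fun _ _ => abs_nonneg _, fun n w => ?_⟩
  let f : ℕ → ℕ := fun w =>
    CurveRR.h k (CohB1.tensorMod Q (CohB1.tensorMod (CohB1.tensorPow A n) (CohB1.tensorPow B' w))) 0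
  have hstep : ∀ ρ j, f (ρ + j * (m + 1)) ≤ f ρ := fun ρ j => by
    induction j with
    | zero => rw [Nat.zero_mul, Nat.add_zero]
    | succ j ih =>
      refine le_trans (le_trans (le_of_eq (h_congr k ?_ 0)) (h0_down_le k hQ
        (R := CohB1.tensorMod (CohB1.tensorPow A n) (CohB1.tensorPow B' (ρ + j * (m + 1))))
        (TMul.isInvertible_tensorMod (TMul.isInvertible_tensorPow hA.1 n) (TMul.isInvertible_tensorPow hB' _))
        (TMul.isInvertible_tensorPow hB' (m + 1)) hτ fun y hy => hσass ⟨trivial, hy⟩)) ih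
      simp only [cl_tensor, cl_pow, mul_assoc, ← pow_add]
      congr 3
      ring
  have hw : (f w : ℚ) ≤ f (w % (m + 1)) := by
    have h := hstep (w % (m + 1)) (w / (m + 1))
    rw [Nat.mod_add_div' w (m + 1)] at h
    exact_mod_cast h
  refine hw.trans ?_
  set ρ := w % (m + 1)
  have hρ : ρ ∈ Finset.range (m + 1) := Finset.mem_range.mpr (Nat.mod_lt _ (Nat.succ_pos m))
  have h1 := (abs_le.1 (hC ρ n)).2
  rw [← D_replicate, D_twist_eq k hQ (TMul.isInvertible_tensorPow hB' ρ)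
    (fun M hM => by rw [List.eq_of_mem_replicate hM]; exact hA.1) (by simpa using hd)] at h1
  rw [show (f ρ : ℚ) = (Module.finrank k (Coh.HH X (CohB1.tensorMod (CohB1.tensorPow A n)
      (CohB1.tensorMod Q (CohB1.tensorPow B' ρ))) 0) : ℚ) from congrArg Nat.cast (h_congr k (by
        simp only [cl_tensor]; ac_rfl) 0)]
  have h3 : C ρ * ((n : ℚ) + 1) ^ (e - 1) ≤ (∑ ρ ∈ Finset.range (m + 1), |C ρ|) * ((n : ℚ) + 1) ^ (e - 1) :=
    mul_le_mul_of_nonneg_right ((le_abs_self (C ρ)).trans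
      (Finset.single_le_sum (f := fun ρ => |C ρ|) (fun _ _ => abs_nonneg _) hρ)) (by positivity)
  linarith

theorem intNum_pos_of_kod {L : X.Modules} (hK : Kod k L) (hL : PicF.IsInvertible L) (hn : Nef k L) (e : ℕ)
    (hX : topologicalKrullDim X = ((e + 1 : ℕ) : WithBot ℕ∞)) :
    0 < (-1 : ℚ) ^ (e + 1) * D k (List.replicate (e + 1) L) (Coh.structureModule X) := by
  haveI := CurveRR.isNoetherian_of_proper k X
  obtain ⟨A, A', m, hA, hAA', hm, hpos⟩ := hK
  have hE := TMul.isInvertible_tensorMod (Intersect.isInvertible_inverse hA.1 hAA') (TMul.isInvertible_tensorPow hL m)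
  obtain ⟨s, hs⟩ := exists_section_of_h0 k hpos
  haveI : Mono s := CurveRR.mono_of_ne_zero TMul.isInvertible_structureModule hE s hs
  have hO := isCoh_one k (X := X)
  have hOd : topologicalKrullDim (CohB1.support (Coh.structureModule X)) ≤ ((e + 1 : ℕ) : WithBot ℕ∞) :=
    (dim_support_structure.trans hX).le
  have hQd : topologicalKrullDim (CohB1.support (cokernel s)) ≤ (e : WithBot ℕ∞) := by
    refine le_of_lt_succ' (dim_proper_lt (ξ := genericPoint X) (n := e + 1) ?_ ?_ (fun x _ => ?_) ?_)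
    · exact lt_succ_of_le' ((topologicalKrullDim_subspace_le X _).trans hX.le)
    · exact Groth.Agent.QC.isClosed_support (isCoh_coker k hE s).2
    · rw [genericPoint_closure]
      trivial
    · exact CurveRR.notMem_support_coker s _ (CurveRR.surjective_stalk_generic hE s hs)
  suffices h : ∀ j, j ≤ e + 1 →
      0 < (-1 : ℚ) ^ (e + 1) * D k (List.replicate (e + 1 - j) A ++ List.replicate j L) (Coh.structureModule X) by
    simpa using h (e + 1) le_rfl
  intro j hj
  induction j with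
  | zero =>
    simp only [Nat.sub_zero, List.replicate_zero, List.append_nil, D_replicate]
    exact alt_pos k (e + 1) _ (fun _ => hA) _ hO (dim_support_structure.trans hX)
  | succ j ih =>
    obtain ⟨a, ha⟩ : ∃ a, e + 1 - j = a + 1 := ⟨e - j, by omega⟩
    rw [show e + 1 - (j + 1) = a by omega]
    have ih' := ih (by omega)
    rw [ha, List.replicate_succ, List.cons_append] at ih'
    set l := List.replicate a A ++ List.replicate j L
    have hl : ∀ M ∈ l, PicF.IsInvertible M := mem_mix hA.1 hL a j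
    have hlen : e + 1 = l.length + 1 := by simp [l]; omega
    have hperm : (L :: l).Perm (List.replicate a A ++ List.replicate (j + 1) L) := by
      rw [List.replicate_succ]
      exact List.perm_middle.symm
    rw [← D_perm k hperm]
    have h1 := D_pow k hO hL hl hlen hOd m
    obtain ⟨eiso⟩ := iso_of_cl (show PicF.cl (CohB1.tensorPow L m) =
        PicF.cl (CohB1.tensorMod A (CohB1.tensorMod A' (CohB1.tensorPow L m))) by
      rw [cl_tensor A, cl_tensor A', ← mul_assoc, cl_inv hAA', one_mul])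
    have h2 : D k (CohB1.tensorPow L m :: l) (Coh.structureModule X) =
        D k (CohB1.tensorMod A (CohB1.tensorMod A' (CohB1.tensorPow L m)) :: l) (Coh.structureModule X) := by
      rw [D, D, D_iso k l (PicGrp.tensorModIso (Iso.refl (Coh.structureModule X)) eiso)]
    rw [h2, D_tensor k hO hA.1 hE hl hlen hOd] at h1
    have h3 := sign_alt_coker k hE s hl e
    have h4 : 0 ≤ (-1 : ℚ) ^ e * D k l (cokernel s) := by
      have h := mix_of_pure (i := a) (e := e) hA hL hn (isCoh_coker k hE s) (by omega) (pure_nonneg k (e - a)) hQd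
      rwa [show e - a = j by omega] at h
    have h5 : (m : ℚ) * ((-1 : ℚ) ^ (e + 1) * D k (L :: l) (Coh.structureModule X)) =
        (-1 : ℚ) ^ (e + 1) * D k (A :: l) (Coh.structureModule X) +
          (-1 : ℚ) ^ (e + 1) * D k (CohB1.tensorMod A' (CohB1.tensorPow L m) :: l) (Coh.structureModule X) := by
      rw [mul_left_comm, ← h1, mul_add]
    have hm' : (0 : ℚ) < m := by exact_mod_cast hm
    by_contra hc
    push Not at hc
    nlinarith [mul_nonpos_of_nonneg_of_nonpos hm'.le hc]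

theorem kod_of_intNum_pos_curve {L H : X.Modules} (hH : CohB1.IsAmple H) (hL : PicF.IsInvertible L)
    (hX : topologicalKrullDim X = ((1 : ℕ) : WithBot ℕ∞))
    (hpos : 0 < (-1 : ℚ) ^ 1 * D k (List.replicate 1 L) (Coh.structureModule X)) : Kod k L := by
  obtain ⟨M, hM, ⟨e⟩⟩ := W7Hull.exists_tensor_inverse hL
  obtain ⟨C, hC, hb⟩ := binSum_sub_top k M (Coh.structureModule X) 1
  have hd : topologicalKrullDim (CohB1.support (Coh.structureModule X)) ≤ ((1 : ℕ) : WithBot ℕ∞) :=
    (dim_support_structure.trans hX).le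
  have hi := alt_inverse k 1 (fun _ => L) (fun _ => M) (fun _ => hL) (fun _ => hM) (fun _ => ⟨e⟩)
    _ (isCoh_one k) hd
  rw [← D_replicate, ← D_replicate] at hi
  set c := (-1 : ℚ) ^ 1 * D k (List.replicate 1 L) (Coh.structureModule X) with hc
  refine kod_of_freq k hL hH 1 hX (c := c / 2) (by positivity) (Filter.Eventually.frequently
    (eventually_atTop.2 ?_))
  obtain ⟨N, hN⟩ := exists_nat_gt (2 * C / c)
  refine ⟨N, fun n hn => ?_⟩
  have h1 := (abs_le.1 (hb n)).1
  rw [← euler_pow_eq_binSum k hL hM e 1 n _ (isCoh_one k) (lt_succ_of_le' hd), ← D_replicate, hi,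
    euler_congr k (show PicF.cl (CohB1.tensorMod (CohB1.tensorPow L n) (Coh.structureModule X)) =
      PicF.cl (CohB1.tensorPow L n) by rw [cl_tensor, cl_one, mul_one]), CurveRR.euler_eq hX.le] at h1
  norm_num at h1
  have hn' : (N : ℚ) ≤ n := by exact_mod_cast hn
  rw [div_lt_iff₀ (hc ▸ hpos)] at hN
  have h2 : (0 : ℚ) ≤ CurveRR.h k (CohB1.tensorPow L n) 1 := Nat.cast_nonneg _
  simp only [pow_one] at hc ⊢
  nlinarith

theorem kod_of_intNum_pos {L H : X.Modules} (hH : CohB1.IsAmple H) (hL : PicF.IsInvertible L) (hn : Nef k L) (e : ℕ)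
    (hX : topologicalKrullDim X = ((e + 1 : ℕ) : WithBot ℕ∞))
    (hpos : 0 < (-1 : ℚ) ^ (e + 1) * D k (List.replicate (e + 1) L) (Coh.structureModule X)) : Kod k L := by
  rcases Nat.eq_zero_or_pos e with rfl | he
  · exact kod_of_intNum_pos_curve k hH hL hX hpos
  haveI := CurveRR.isNoetherian_of_proper k X
  obtain ⟨c₁, -, e₀, he₀⟩ := ample_growth k hH TMul.isInvertible_structureModule (e + 1) hX
  let B := CohB1.tensorPow H (e₀ + 1)
  have hB : CohB1.IsAmple B := TMul.isAmple_tensorPow hH (Nat.succ_pos e₀)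
  obtain ⟨B', hB', hBB'⟩ := W7Hull.exists_tensor_inverse hB.1
  obtain ⟨s, hs⟩ := exists_section_of_h0 k (G := B) ((he₀ (e₀ + 1) (Nat.le_succ e₀)).2.trans_eq
    (h_congr k (by simp only [B, cl_tensor, cl_one, mul_one]) 0))
  haveI : Mono s := CurveRR.mono_of_ne_zero TMul.isInvertible_structureModule hB.1 s hs
  have hQ := isCoh_coker k hB.1 s
  have hO := isCoh_one k (X := X)
  have hOd : topologicalKrullDim (CohB1.support (Coh.structureModule X)) ≤ ((e + 1 : ℕ) : WithBot ℕ∞) :=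
    (dim_support_structure.trans hX).le
  have hQd : topologicalKrullDim (CohB1.support (cokernel s)) ≤ (e : WithBot ℕ∞) := by
    refine le_of_lt_succ' (dim_proper_lt (ξ := genericPoint X) (n := e + 1) ?_ ?_ (fun x _ => ?_) ?_)
    · exact lt_succ_of_le' ((topologicalKrullDim_subspace_le X _).trans hX.le)
    · exact Groth.Agent.QC.isClosed_support hQ.2
    · rw [genericPoint_closure]
      trivial
    · exact CurveRR.notMem_support_coker s _ (CurveRR.surjective_stalk_generic hB.1 s hs)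
  let c : ℕ → ℚ := fun i => (-1 : ℚ) ^ (e + 1) *
    D k (List.replicate i B ++ List.replicate (e + 1 - i) L) (Coh.structureModule X)
  have hc0 : 0 < c 0 := by simpa [c] using hpos
  have hcn : ∀ i, i ≤ e + 1 → 0 ≤ c i := fun i hi =>
    mix_of_pure hB hL hn hO hi (pure_nonneg k _) hOd
  set Bd := ∑ i ∈ Finset.range (e + 2), |c i| with hBd
  obtain ⟨p, hp⟩ := exists_nat_gt (((e : ℚ) + 1) * 2 ^ e * Bd / c 0 + 1)
  have hp1 : (1 : ℚ) ≤ p := by
    linarith [div_nonneg (mul_nonneg (by positivity : (0 : ℚ) ≤ ((e : ℚ) + 1) * 2 ^ e)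
      (Finset.sum_nonneg fun i (_ : i ∈ Finset.range (e + 2)) => abs_nonneg (c i))) hc0.le]
  have hp0 : 0 < p := by exact_mod_cast lt_of_lt_of_le one_pos hp1
  let F := CohB1.tensorMod (CohB1.tensorPow L p) (CohB1.tensorPow B 1)
  have hFA : CohB1.IsAmple F := isAmple_nef_tensor k hB hL hn hp0 one_pos
  have hT := D_expand k hB.1 hL hp0 1 hO (e + 1) hOd (e + 1) 0 0 rfl
  simp only [List.replicate_zero, List.append_nil] at hT
  have hU := D_expand k hB.1 hL hp0 1 hO (e + 1) hOd e 1 0 rfl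
  have hperm : (List.replicate e F ++ (List.replicate 1 B ++ List.replicate 0 L)).Perm (B :: List.replicate e F) := by
    simp only [List.replicate_zero, List.append_nil, List.replicate_one]
    exact List.perm_append_comm
  rw [D_perm k hperm, sign_alt_coker k hB.1 s (fun M hM => by rw [List.eq_of_mem_replicate hM]; exact hFA.1)] at hU
  set t : ℚ := ((1 : ℕ) : ℚ) / p with ht
  have ht0 : 0 ≤ t := by positivity
  have ht1 : t ≤ 1 := by
    rw [ht, Nat.cast_one, div_le_one (by linarith)]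
    exact hp1
  have hg0 : c 0 ≤ g c t (e + 1) 0 := g_head ht0 fun i _ hi => hcn i hi
  have hg1 : g c t e 1 ≤ 2 ^ e * Bd := by
    refine (le_abs_self _).trans ((g_abs (c := c) (K := 1) (B := Bd) ht0 ht1 (e := e + 1) (fun i hi =>
      Finset.single_le_sum (f := fun i => |c i|) (fun _ _ => abs_nonneg _) (Finset.mem_range.2 (by omega)))
      (j := e) (a := 1) (by omega)).trans_eq (by norm_num))
  have hf : ((Nat.factorial (e + 1) : ℕ) : ℚ) = ((e : ℚ) + 1) * ((Nat.factorial e : ℕ) : ℚ) := by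
    rw [Nat.factorial_succ]; push_cast; ring
  have hf0 : (0 : ℚ) < ((Nat.factorial e : ℕ) : ℚ) := by exact_mod_cast Nat.factorial_pos e
  obtain ⟨C₁, hC₁, hQb⟩ := exists_uniform_bound_top k hQ e hQd hFA hB hBB'
  obtain ⟨C₂, hC₂⟩ := Intersect.exists_h0_bound k hFA (e + 1) hO hOd
  rw [← D_replicate, hT] at hC₂
  rw [hU] at hQb
  set a := (p : ℚ) ^ (e + 1) * g c t (e + 1) 0 / ((Nat.factorial (e + 1) : ℕ) : ℚ) with ha
  set b := (p : ℚ) ^ e * g c t e 1 / ((Nat.factorial e : ℕ) : ℚ) with hb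
  have hab : b < a := by
    rw [ha, hb, hf, div_lt_div_iff₀ hf0 (by positivity)]
    have h1 : ((e : ℚ) + 1) * g c t e 1 < (p : ℚ) * g c t (e + 1) 0 := by
      have h2 : ((e : ℚ) + 1) * 2 ^ e * Bd < (p : ℚ) * c 0 := by
        rw [← div_lt_iff₀ hc0]
        linarith
      have h3 : ((e : ℚ) + 1) * g c t e 1 ≤ ((e : ℚ) + 1) * 2 ^ e * Bd := by
        rw [mul_assoc]
        exact mul_le_mul_of_nonneg_left hg1 (by positivity)
      have h4 : (p : ℚ) * c 0 ≤ (p : ℚ) * g c t (e + 1) 0 := mul_le_mul_of_nonneg_left hg0 (by positivity)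
      linarith
    have h5 := mul_lt_mul_of_pos_left h1 (mul_pos (pow_pos (show (0 : ℚ) < p by linarith) e) hf0)
    have h6 : (p : ℚ) ^ (e + 1) = (p : ℚ) ^ e * p := pow_succ _ _
    rw [h6]
    linarith
  set δ := (a - b) / 2 with hδ
  have hδ0 : 0 < δ := by rw [hδ]; linarith
  refine kod_of_freq k hL hH (e + 1) hX (c := δ / (p : ℚ) ^ (e + 1)) (by positivity)
    (frequently_atTop.2 fun N => ?_)
  obtain ⟨j, hj⟩ := exists_nat_gt ((|C₂| + C₁) * 2 ^ e / δ + N + 1)
  have hj0 : ((N : ℚ) + 1) < j := by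
    have : 0 ≤ (|C₂| + C₁) * 2 ^ e / δ := by positivity
    linarith
  refine ⟨p * j, ?_, ?_⟩
  · have : N ≤ j := by exact_mod_cast (show (N : ℚ) ≤ j by linarith)
    exact this.trans (Nat.le_mul_of_pos_left j hp0)
  have hj1 : (1 : ℚ) ≤ j := by linarith [(Nat.cast_nonneg N : (0 : ℚ) ≤ N)]
  have h1 := h0_le_iter k hB.1 hBB' s (G := CohB1.tensorPow F j) (TMul.isInvertible_tensorPow hFA.1 j) _
    (fun w => hQb j w) j
  rw [h_congr k (show PicF.cl (CohB1.tensorMod (CohB1.tensorPow F j) (CohB1.tensorPow B' j)) =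
      PicF.cl (CohB1.tensorPow L (p * j)) by
    simp only [F, cl_tensor, cl_pow, pow_one, mul_pow, ← pow_mul]
    rw [mul_assoc, ← mul_pow, cl_inv hBB', one_pow, mul_one]) 0] at h1
  have h2 := (abs_le.1 (hC₂ j)).1
  rw [show (Module.finrank k (Coh.HH X (CohB1.tensorMod (CohB1.tensorPow F j) (Coh.structureModule X)) 0) : ℚ) =
    (CurveRR.h k (CohB1.tensorPow F j) 0 : ℚ) from congrArg Nat.cast (h_congr k (by
      rw [cl_tensor, cl_one, mul_one]) 0)] at h2
  change -(C₂ * ((j : ℚ) + 1) ^ (e + 1 - 1)) ≤ (CurveRR.h k (CohB1.tensorPow F j) 0 : ℚ) - a * (j : ℚ) ^ (e + 1) at h2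
  rw [Nat.add_sub_cancel] at h2
  have e1 : ((j : ℚ) + 1) ^ e ≤ 2 ^ e * (j : ℚ) ^ e := by
    rw [← mul_pow]
    exact pow_le_pow_left₀ (by positivity) (by linarith) e
  have e2 : (j : ℚ) * (C₁ * ((j : ℚ) + 1) ^ (e - 1)) ≤ C₁ * ((j : ℚ) + 1) ^ e := by
    conv_rhs => rw [show e = e - 1 + 1 by omega, pow_succ]
    nlinarith [mul_nonneg hC₁ (pow_nonneg (show (0 : ℚ) ≤ (j : ℚ) + 1 by linarith) (e - 1))]
  have e3 : (j : ℚ) * (b * (j : ℚ) ^ e) = b * (j : ℚ) ^ (e + 1) := by rw [pow_succ]; ring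
  have e4 : (|C₂| + C₁) * ((j : ℚ) + 1) ^ e ≤ δ * (j : ℚ) ^ (e + 1) := by
    have : (|C₂| + C₁) * 2 ^ e ≤ δ * j := by
      have h := hj
      have : (|C₂| + C₁) * 2 ^ e / δ < j := by linarith [(Nat.cast_nonneg N : (0 : ℚ) ≤ N)]
      rw [div_lt_iff₀ hδ0] at this
      linarith
    calc (|C₂| + C₁) * ((j : ℚ) + 1) ^ e ≤ (|C₂| + C₁) * 2 ^ e * (j : ℚ) ^ e := by
          rw [mul_assoc]; exact mul_le_mul_of_nonneg_left e1 (by positivity)
      _ ≤ δ * j * (j : ℚ) ^ e := mul_le_mul_of_nonneg_right this (by positivity)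
      _ = δ * (j : ℚ) ^ (e + 1) := by rw [pow_succ]; ring
  have e5 : C₂ * ((j : ℚ) + 1) ^ e ≤ |C₂| * ((j : ℚ) + 1) ^ e :=
    mul_le_mul_of_nonneg_right (le_abs_self _) (by positivity)
  have e6 : δ / (p : ℚ) ^ (e + 1) * (((p * j : ℕ) : ℚ)) ^ (e + 1) = δ * (j : ℚ) ^ (e + 1) := by
    push_cast
    rw [mul_pow]
    field_simp
  rw [e6]
  have e7 : a * (j : ℚ) ^ (e + 1) - b * (j : ℚ) ^ (e + 1) = 2 * δ * (j : ℚ) ^ (e + 1) := by rw [hδ]; ring
  have e8 : (j : ℚ) * (b * (j : ℚ) ^ e + C₁ * ((j : ℚ) + 1) ^ (e - 1)) =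
      (j : ℚ) * (b * (j : ℚ) ^ e) + (j : ℚ) * (C₁ * ((j : ℚ) + 1) ^ (e - 1)) := by ring
  linarith

theorem kod_iff_intNum_pos {L Linv H : X.Modules} (hH : CohB1.IsAmple H) (hL : PicF.IsInvertible L)
    (hLL : Nonempty (CohB1.tensorMod L Linv ≅ Coh.structureModule X)) (hn : Nef k L) (d : ℕ)
    (hX : topologicalKrullDim X = (d : WithBot ℕ∞)) :
    Kod k L ↔ 0 < FGA.intNum k X d (fun _ : Fin d => Linv) (Coh.structureModule X) := by
  have hM := Intersect.isInvertible_inverse hL hLL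
  have hOd : topologicalKrullDim (CohB1.support (Coh.structureModule X)) ≤ (d : WithBot ℕ∞) :=
    (dim_support_structure.trans hX).le
  have hi := alt_inverse k d (fun _ => L) (fun _ => Linv) (fun _ => hL) (fun _ => hM) (fun _ => hLL)
    _ (isCoh_one k) hOd
  rw [← intNum_eq_alt k d hX.le, ← D_replicate] at hi
  have key : (0 : ℤ) < FGA.intNum k X d (fun _ : Fin d => Linv) (Coh.structureModule X) ↔
      0 < (-1 : ℚ) ^ d * D k (List.replicate d L) (Coh.structureModule X) := by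
    rw [← hi]
    exact_mod_cast Iff.rfl
  rw [key]
  rcases Nat.eq_zero_or_pos d with rfl | hd
  · refine ⟨fun _ => ?_, fun _ => ?_⟩
    · rw [D_replicate]
      exact alt_pos k 0 _ (fun i => i.elim0) _ (isCoh_one k) (dim_support_structure.trans hX)
    · haveI := subsingleton_of_dim_zero k (X := X) hX
      obtain ⟨H', hH', hHH'⟩ := W7Hull.exists_tensor_inverse hH.1
      obtain ⟨e'⟩ := nonempty_iso_one_of_subsingleton (X := X)
        (TMul.isInvertible_tensorMod hH' (TMul.isInvertible_tensorPow hL 1))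
      exact ⟨H, H', 1, hH, hHH', one_pos, by rw [← CurveRR.h_eq_of_iso (k := k) e' 0]; exact h0_one_pos k⟩
  obtain ⟨e, rfl⟩ : ∃ e, d = e + 1 := ⟨d - 1, by omega⟩
  exact ⟨fun h => intNum_pos_of_kod k h hL hn e hX, kod_of_intNum_pos k hH hL hn e hX⟩

end Groth.Agent.Nakai
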