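import Groth.Agent.Intersect.Misc
import Groth.Agent.Intersect.Asymp
import Groth.Agent.Intersect.Apps
import Groth.Agent.W7Hull.AmpleSurj

/-!
Positivity of the top self-intersections of an invertible module on the integral closed subschemes.
-/

set_option autoImplicit false
set_option backward.isDefEq.respectTransparency false
set_option linter.style.haveILetI false
set_option linter.unusedSectionVars false

universe u

open CategoryTheory CategoryTheory.Limits AlgebraicGeometry TopologicalSpace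
open Groth.Agent.Intersect

noncomputable section

namespace Groth.Agent.Nakai

variable (k : Type u) [Field k] {X : Scheme.{u}} [X.Over (Spec (CommRingCat.of k))]

/-- `(L^n · Y) > 0` for every integral closed subscheme `Y` of dimension `n > 0`. -/
def PosSub (L : X.Modules) : Prop :=
  ∀ (Y : Scheme.{u}) (ι : Y ⟶ X) [IsClosedImmersion ι] [IsIntegral Y] (n : ℕ), 0 < n →
    topologicalKrullDim Y = (n : WithBot ℕ∞) →
    letI : Y.Over (Spec (CommRingCat.of k)) := ⟨ι ≫ (X ↘ Spec (CommRingCat.of k))⟩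
    0 < (-1 : ℚ) ^ n * alt (χt k (Coh.structureModule Y) fun _ : Fin n => (Scheme.Modules.pullback ι).obj L)

theorem χt_congr {Y : Scheme.{u}} [Y.Over (Spec (CommRingCat.of k))] (F : Y.Modules) {r : ℕ}
    {L L' : Fin r → Y.Modules} (h : ∀ i, Nonempty (L i ≅ L' i)) : χt k F L = χt k F L' := by
  funext n
  obtain ⟨e⟩ := W7Cech.tensorPows_iso (F := Coh.structureModule Y) (F' := Coh.structureModule Y)
    ⟨Iso.refl _⟩ h n
  exact congrArg (fun z : ℤ => (z : ℚ)) (CurveRR.euler_eq_of_iso (PicGrp.tensorModIso (Iso.refl F) e))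

theorem alt_congr_over {Y : Scheme.{u}} {q q' : Y ⟶ Spec (CommRingCat.of k)} (h : q = q') (F : Y.Modules) {r : ℕ}
    (L : Fin r → Y.Modules) :
    (letI : Y.Over (Spec (CommRingCat.of k)) := ⟨q⟩; alt (χt k F L)) =
      (letI : Y.Over (Spec (CommRingCat.of k)) := ⟨q'⟩; alt (χt k F L)) := by
  subst h; rfl

theorem PosSub.pullback {Z : Scheme.{u}} (j : Z ⟶ X) [IsClosedImmersion j] {L : X.Modules} (h : PosSub k L) :
    letI : Z.Over (Spec (CommRingCat.of k)) := ⟨j ≫ (X ↘ Spec (CommRingCat.of k))⟩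
    PosSub k ((Scheme.Modules.pullback j).obj L) := by
  letI : Z.Over (Spec (CommRingCat.of k)) := ⟨j ≫ (X ↘ Spec (CommRingCat.of k))⟩
  intro Y ι _ _ n hn hY
  letI : Y.Over (Spec (CommRingCat.of k)) := ⟨ι ≫ (Z ↘ Spec (CommRingCat.of k))⟩
  have h1 := h Y (ι ≫ j) n hn hY
  rw [alt_congr_over k (Category.assoc ι j (X ↘ Spec (CommRingCat.of k)))] at h1
  rw [χt_congr k (Coh.structureModule Y)
    (L := fun _ : Fin n => (Scheme.Modules.pullback ι).obj ((Scheme.Modules.pullback j).obj L))
    (L' := fun _ : Fin n => (Scheme.Modules.pullback (ι ≫ j)).obj L)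
    fun _ => ⟨(Scheme.Modules.pullbackComp ι j).app L⟩]
  exact h1

theorem PosSub.self [IsIntegral X] {L : X.Modules} (h : PosSub k L) {n : ℕ} (hn : 0 < n)
    (hX : topologicalKrullDim X = (n : WithBot ℕ∞)) :
    0 < (-1 : ℚ) ^ n * alt (χt k (Coh.structureModule X) fun _ : Fin n => L) := by
  have h1 := h X (𝟙 X) n hn hX
  rw [alt_congr_over k (Category.id_comp (X ↘ Spec (CommRingCat.of k)))] at h1
  rw [χt_congr k (Coh.structureModule X) (L := fun _ : Fin n => L)
    (L' := fun _ : Fin n => (Scheme.Modules.pullback (𝟙 X)).obj L)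
    fun _ => ⟨(Scheme.Modules.pullbackId X).symm.app L⟩]
  exact h1

end Groth.Agent.Nakai
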