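import Groth.Agent.Nakai.RealDiv
import Groth.Agent.Nakai.BigApps
import Groth.Agent.Nakai.RealCone
import Groth.Agent.Nakai.SectionDim
import Groth.Agent.PlaneBlow.BlowRank
import Groth.Agent.GenMember.Hodge
import Groth.Agent.GenMember.Apps
import Groth.Agent.S2329

/-!
The pseudo-effective cone contains no line.
-/

set_option autoImplicit false
set_option backward.isDefEq.respectTransparency false
set_option linter.style.haveILetI false
set_option linter.unusedSectionVars false

universe u

open CategoryTheory CategoryTheory.Limits AlgebraicGeometry TopologicalSpace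
open Groth.Agent.Intersect
open scoped TensorProduct

noncomputable section

namespace Groth.Agent.Nakai

attribute [local instance] clMonoid

variable {X : Scheme.{u}} (k : Type u) [Field k] [X.Over (Spec (CommRingCat.of k))] [IsProper (X ↘ Spec (CommRingCat.of k))]

theorem exists_int_D : ∀ (l : List X.Modules) (F : X.Modules), ∃ z : ℤ, D k l F = z
  | [], F => ⟨Curv2.euler k X F, rfl⟩
  | A :: l, F => by
    obtain ⟨a, ha⟩ := exists_int_D l F
    obtain ⟨b, hb⟩ := exists_int_D l (CohB1.tensorMod F A)
    exact ⟨a - b, by rw [D, ha, hb, Int.cast_sub]⟩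

theorem forall_inv_of_ample {l : List X.Modules} (hl : ∀ A ∈ l, CohB1.IsAmple A) : ∀ A ∈ l, PicF.IsInvertible A :=
  fun A hA => (hl A hA).1

/-- Intersection numbers of ample modules are non-negative. -/
theorem D_amples_nonneg {l : List X.Modules} (hl : ∀ A ∈ l, CohB1.IsAmple A) {F : X.Modules} (hF : Coh.IsCoh F)
    (hd : topologicalKrullDim (CohB1.support F) ≤ (l.length : WithBot ℕ∞)) :
    0 ≤ (-1 : ℚ) ^ l.length * D k l F := by
  rcases hd.lt_or_eq with h | h
  · rw [D_eq_zero k hF (forall_inv_of_ample hl) h, mul_zero]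
  · rw [D_get]
    exact (alt_pos k l.length l.get (fun i => hl _ (List.get_mem l i)) F hF h).le

/-- Cutting by ample modules preserves numerical triviality. -/
theorem D_numTriv_amples {L : X.Modules} (hL : PicF.IsInvertible L) (hn : Pic13.IsNumEquivZero k X L) :
    ∀ (l : List X.Modules), (∀ A ∈ l, CohB1.IsAmple A) → ∀ F : X.Modules, Coh.IsCoh F →
      topologicalKrullDim (CohB1.support F) ≤ ((l.length + 1 : ℕ) : WithBot ℕ∞) → D k (L :: l) F = 0
  | [], _, F, hF, hd => D_one_of_numTriv k hL hn hF hd
  | H :: l, hl, F, hF, hd => by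
    rw [D_perm k (List.Perm.swap H L _)]
    refine cons_ample_zero k (hl H List.mem_cons_self) (fun M hM => ?_) (r := l.length + 1) (by simp)
      (D_numTriv_amples hL hn l fun A hA => hl A (List.mem_cons_of_mem _ hA)) hF hd
    rcases List.mem_cons.1 hM with rfl | h
    · exact hL
    · exact (hl M (List.mem_cons_of_mem _ h)).1

theorem nonneg_of_section [IsIntegral X] {L : X.Modules} (hL : PicF.IsInvertible L)
    (s : Coh.structureModule X ⟶ L) (hs : s ≠ 0) {l : List X.Modules} (hl : ∀ A ∈ l, CohB1.IsAmple A)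
    (hX : topologicalKrullDim X = ((l.length + 1 : ℕ) : WithBot ℕ∞)) :
    0 ≤ (-1 : ℚ) ^ (l.length + 1) * D k (L :: l) (Coh.structureModule X) := by
  haveI := CurveRR.isNoetherian_of_proper k X
  haveI : Mono s := CurveRR.mono_of_ne_zero TMul.isInvertible_structureModule hL s hs
  rw [sign_alt_coker k hL s (forall_inv_of_ample hl)]
  refine D_amples_nonneg k hl (isCoh_coker k hL s) ?_
  rcases Set.eq_empty_or_nonempty (CohB1.support (cokernel s)) with h | h
  · rw [h, GenMember.dim_empty]; exact bot_le
  · exact (dim_support_coker_eq k hL s hs hX h).le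

section Class

variable [PicGrp.Law X]

/-- A representative of a Picard class. -/
def repCl (c : PicLoc.PicSet X) : {L : X.Modules // PicF.IsInvertible L} :=
  ⟨(PicGrp.exists_eq_cls c).choose, (PicGrp.exists_eq_cls c).choose_spec.choose⟩

theorem cls_repCl (c : PicLoc.PicSet X) : c = PicGrp.cls (repCl c).1 (repCl c).2 :=
  (PicGrp.exists_eq_cls c).choose_spec.choose_spec

variable (l : List X.Modules) (hl : ∀ A ∈ l, CohB1.IsAmple A)
  (hX : topologicalKrullDim X ≤ ((l.length + 1 : ℕ) : WithBot ℕ∞))

include hX in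
theorem dim_one_le : topologicalKrullDim (CohB1.support (Coh.structureModule X)) ≤ ((l.length + 1 : ℕ) : WithBot ℕ∞) :=
  dim_support_structure.trans_le hX

include hX in
theorem D_congr_left {A B : X.Modules} (e : A ≅ B) :
    D k (A :: l) (Coh.structureModule X) = D k (B :: l) (Coh.structureModule X) := by
  rw [D, D, D_iso k l (PicGrp.tensorModIso (Iso.refl _) e)]

/-- The intersection number with a fixed list of ample modules. -/
def degPic : Additive (PicLoc.PicSet X) →+ ℝ :=
  AddMonoidHom.mk' (fun c => (-1 : ℝ) ^ (l.length + 1) *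
    ((D k ((repCl (Additive.toMul c)).1 :: l) (Coh.structureModule X) : ℚ) : ℝ)) fun a b => by
    have hA := (repCl (Additive.toMul a)).2
    have hB := (repCl (Additive.toMul b)).2
    have e : PicGrp.cls _ (repCl (Additive.toMul (a + b))).2 =
        PicGrp.cls _ (TMul.isInvertible_tensorMod hA hB) := by
      rw [← cls_repCl, PlaneBlow.cls_tensor' hA hB, ← cls_repCl, ← cls_repCl]; rfl
    obtain ⟨i⟩ := (PicGrp.cls_eq_cls_iff _ _).1 e
    rw [D_congr_left k l hX i, D_tensor k (isCoh_one k) hA hB (forall_inv_of_ample hl) rfl (dim_one_le l hX),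
      Rat.cast_add, mul_add]

theorem degPic_cls {L : X.Modules} (hL : PicF.IsInvertible L) :
    degPic k l hl hX (Additive.ofMul (PicGrp.cls L hL)) =
      (-1 : ℝ) ^ (l.length + 1) * ((D k (L :: l) (Coh.structureModule X) : ℚ) : ℝ) := by
  obtain ⟨i⟩ := (PicGrp.cls_eq_cls_iff (repCl (PicGrp.cls L hL)).2 hL).1 (cls_repCl _).symm
  change (-1 : ℝ) ^ (l.length + 1) * ((D k ((repCl (PicGrp.cls L hL)).1 :: l) (Coh.structureModule X) : ℚ) : ℝ) = _
  rw [D_congr_left k l hX i]

theorem subCl_le_ker :
    PicGrp.subCl (Y := X) (Pic13.IsNumEquivZero k X) ≤ (AddMonoidHom.toMultiplicativeRight (degPic k l hl hX)).ker := by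
  refine (Subgroup.closure_le _).2 ?_
  rintro _ ⟨M, hM, hn, rfl⟩
  rw [SetLike.mem_coe, MonoidHom.mem_ker]
  change Multiplicative.ofAdd (degPic k l hl hX (Additive.ofMul (PicGrp.cls M hM))) = 1
  rw [degPic_cls, D_numTriv_amples k hM hn l hl _ (isCoh_one k) (dim_one_le l hX)]
  simp

/-- The intersection number with a list of ample modules on numerical classes. -/
def degN1 : NumR.N1 k X →+ ℝ :=
  MonoidHom.toAdditiveLeft (QuotientGroup.lift _ _ (subCl_le_ker k l hl hX))

/-- The intersection number with a list of ample modules on real classes. -/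
def degR : NumR.N1R k X →ₗ[ℝ] ℝ :=
  (LinearMap.liftBaseChange ℝ (degN1 k l hl hX).toIntLinearMap : ℝ ⊗[ℤ] NumR.N1 k X →ₗ[ℝ] ℝ)

theorem degR_clR {L : X.Modules} (hL : PicF.IsInvertible L) :
    degR k l hl hX (NumR.clR k X L hL) =
      (-1 : ℝ) ^ (l.length + 1) * ((D k (L :: l) (Coh.structureModule X) : ℚ) : ℝ) := by
  change LinearMap.liftBaseChange ℝ (degN1 k l hl hX).toIntLinearMap ((1 : ℝ) ⊗ₜ[ℤ] NumR.cl k X L hL) = _
  rw [LinearMap.liftBaseChange_tmul, one_smul]
  exact degPic_cls k l hl hX hL

theorem degR_psef [IsIntegral X] [Module.Finite ℝ (NumR.N1R k X)]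
    (hdim : topologicalKrullDim X = ((l.length + 1 : ℕ) : WithBot ℕ∞)) {x : NumR.N1R k X}
    (hx : x ∈ NumR.psefCone k X) : 0 ≤ degR k l hl hX x := by
  refine closure_minimal (fun y hy => ?_)
    (isClosed_le continuous_const (IsModuleTopology.continuous_of_linearMap (degR k l hl hX))) hx
  refine coneOf_induction k (P := NumR.HasSection) (p := fun z => 0 ≤ degR k l hl hX z) (fun L hL hs => ?_)
    (fun a b ha hb => ?_) (fun c a hc ha => ?_) hy
  · obtain ⟨s, hs⟩ := hs
    rw [degR_clR]
    have := nonneg_of_section k hL s hs hl hdim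
    exact_mod_cast this
  · rw [map_add]; exact add_nonneg ha hb
  · rw [map_smul, smul_eq_mul]; exact mul_nonneg hc.le ha

/-- A class on which enough integral functionals vanish is zero. -/
theorem eq_zero_of_functionals {ι : Type (u + 1)} (F : ι → NumR.N1R k X →ₗ[ℝ] ℝ)
    (hint : ∀ i (L : X.Modules) (hL : PicF.IsInvertible L), ∃ z : ℤ, F i (NumR.clR k X L hL) = z)
    (hker : ∀ (L : X.Modules) (hL : PicF.IsInvertible L), (∀ i, F i (NumR.clR k X L hL) = 0) →
      Pic13.IsNumEquivZero k X L)
    {y : NumR.N1R k X} (hy : ∀ i, F i y = 0) : y = 0 := by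
  classical
  let α := {M : X.Modules // PicF.IsInvertible M}
  let f : α → NumR.N1R k X := fun M => NumR.clR k X M.1 M.2
  have hr : Set.range f =
      {x : NumR.N1R k X | ∃ (L : X.Modules) (hL : PicF.IsInvertible L), x = NumR.clR k X L hL} :=
    Set.ext fun x => ⟨fun ⟨M, hM⟩ => ⟨M.1, M.2, hM.symm⟩, fun ⟨L, hL, hx⟩ => ⟨⟨L, hL⟩, hx.symm⟩⟩
  have hmem : y ∈ Submodule.span ℝ (Set.range f) := by rw [hr, NumR.span_clR]; trivial
  obtain ⟨c, rfl⟩ := Finsupp.mem_span_range_iff_exists_finsupp.1 hmem
  choose g hg using fun i (L : α) => hint i L.1 L.2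
  obtain ⟨S, ρ, M, hM, hdec⟩ := exists_int_decomp g c fun i => by
    have h := hy i
    simp only [Finsupp.sum, map_sum, map_smul, smul_eq_mul] at h
    rw [← h, Finsupp.sum]
    exact Finset.sum_congr rfl fun L _ => by rw [show F i (f L) = _ from hg i L]
  rw [hdec, ← Finsupp.linearCombination_apply ℝ, map_sum]
  refine Finset.sum_eq_zero fun e he => ?_
  rw [map_smul, Finsupp.linearCombination_apply, Finsupp.sum_mapRange_index (h := fun L a => a • f L) (fun _ => zero_smul ℝ _)]
  suffices h : ((M e).sum fun L n => (n : ℝ) • f L) = 0 by rw [h, smul_zero]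
  let c' : Additive (PicLoc.PicSet X) := (M e).sum fun L n => n • Additive.ofMul (PicGrp.cls L.1 L.2)
  have hc : clHom k c' = (M e).sum fun L n => (n : ℝ) • f L := by
    simp only [c', Finsupp.sum, map_sum, map_zsmul, ← clR_eq_clHom, f, Int.cast_smul_eq_zsmul]
  obtain ⟨N, hN, hNe⟩ := PicGrp.exists_eq_cls (Additive.toMul c')
  have hc' : c' = Additive.ofMul (PicGrp.cls N hN) := by rw [← hNe, ofMul_toMul]
  rw [hc', ← clR_eq_clHom] at hc
  rw [← hc]
  have hz : Pic13.IsNumEquivZero k X N := hker N hN fun i => by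
    have h1 := congrArg (fun z : ℤ => (z : ℝ)) (hM e he i)
    simp only [Finsupp.sum, Int.cast_sum, Int.cast_mul, Int.cast_zero] at h1
    rw [hc]
    simp only [Finsupp.sum, map_sum, map_smul, smul_eq_mul]
    refine (Finset.sum_congr rfl fun L _ => ?_).trans h1
    rw [show F i (f L) = _ from hg i L]
  rw [NumR.clR_def, NumR.cl_eq_zero hN hz, map_zero]

end Class

/-- The pseudo-effective cone of a projective variety contains no line. -/
theorem psef_pointed [IsIntegral X] [PicGrp.Law X] [Module.Finite ℝ (NumR.N1R k X)] {H : X.Modules}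
    (hH : CohB1.IsAmple H) {x : NumR.N1R k X} (hx : x ∈ NumR.psefCone k X) (hx' : -x ∈ NumR.psefCone k X) :
    x = 0 := by
  haveI := CurveRR.isNoetherian_of_proper k X
  obtain ⟨d, hd⟩ := exists_dim_eq k (X := X)
  rcases d with _ | d
  · refine eq_zero_of_functionals k (ι := PEmpty.{u + 2}) (fun i => i.elim) (fun i => i.elim)
      (fun L hL _ => isNumEquivZero_of_degFlat k hL (GenMember.degFlat_of_curves hL fun ξ hξ => ?_))
      fun i => i.elim
    have h1 := (topologicalKrullDim_subspace_le X (closure ({ξ} : Set X))).trans hd.le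
    rw [hξ] at h1
    exact absurd h1 (by decide)
  have hvan : ∀ (l : List X.Modules) (hl : ∀ A ∈ l, CohB1.IsAmple A) (hlen : l.length = d),
      degR k l hl (by rw [hd, hlen]) x = 0 := fun l hl hlen => by
    have hdim : topologicalKrullDim X = ((l.length + 1 : ℕ) : WithBot ℕ∞) := by rw [hd, hlen]
    refine le_antisymm ?_ (degR_psef k l hl _ hdim hx)
    have := degR_psef k l hl hdim.le hdim hx'
    rw [map_neg] at this
    linarith
  rcases d with _ | s
  · refine eq_zero_of_functionals k (ι := PUnit.{u + 2}) (fun _ => degR k ([] : List X.Modules) (by simp) hd.le)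
      (fun _ L hL => ?_) (fun L hL h => ?_) (fun _ => hvan [] (by simp) rfl)
    · obtain ⟨z, hz⟩ := exists_int_D k [L] (Coh.structureModule X)
      exact ⟨-z, by rw [degR_clR, hz]; simp⟩
    · have h0 : D k [L] (Coh.structureModule X) = 0 := by
        have := h PUnit.unit
        rw [degR_clR] at this
        simpa using this
      refine isNumEquivZero_of_degFlat k hL (GenMember.degFlat_of_curves hL fun ξ hξ => ?_)
      obtain rfl : ξ = genericPoint X := by
        have hη : topologicalKrullDim (closure ({genericPoint X} : Set X)) ≤ ((1 : ℕ) : WithBot ℕ∞) :=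
          (topologicalKrullDim_subspace_le X _).trans hd.le
        exact (eq_of_dim (genericPoint_specializes ξ) hη hξ).symm
      rw [show [L] = List.ofFn fun _ : Fin 1 => L by simp, D_ofFn] at h0 ⊢
      rw [alt_irreducible k hd (fun _ => hL) (isCoh_one k) (by rw [Intersect.support_structure]; trivial)] at h0
      exact (mul_eq_zero.1 h0).resolve_left (lenAt_structure_pos k).ne'
  · let A₀ := List.replicate s H
    have hA₀ : ∀ A ∈ A₀, CohB1.IsAmple A := fun A hA => (List.eq_of_mem_replicate hA).symm ▸ hH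
    have hcons : ∀ {B : X.Modules}, CohB1.IsAmple B → ∀ A ∈ B :: A₀, CohB1.IsAmple A := fun hB A hA => by
      rcases List.mem_cons.1 hA with rfl | h
      · exact hB
      · exact hA₀ A h
    have hlen : ∀ B : X.Modules, (B :: A₀).length = s + 1 := fun B => by simp [A₀]
    have hle : ∀ B : X.Modules, topologicalKrullDim X ≤ (((B :: A₀).length + 1 : ℕ) : WithBot ℕ∞) := fun B => by
      rw [hd, hlen]
    refine eq_zero_of_functionals k (ι := {M : X.Modules // CohB1.IsAmple M})
      (fun M => degR k (M.1 :: A₀) (hcons M.2) (hle M.1)) (fun M L hL => ?_) (fun L hL h => ?_)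
      fun M => hvan _ (hcons M.2) (hlen _)
    · obtain ⟨z, hz⟩ := exists_int_D k (L :: M.1 :: A₀) (Coh.structureModule X)
      exact ⟨(-1) ^ ((M.1 :: A₀).length + 1) * z, by rw [degR_clR, hz]; push_cast; rfl⟩
    · have hamp : ∀ M : X.Modules, CohB1.IsAmple M → D k (L :: M :: A₀) (Coh.structureModule X) = 0 :=
        fun M hM => by
          have := h ⟨M, hM⟩
          rw [degR_clR, mul_eq_zero, or_iff_right (pow_ne_zero _ (by norm_num))] at this
          exact_mod_cast this
      haveI : X.IsSeparated := ⟨by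
        rw [show terminal.from X = (X ↘ Spec (CommRingCat.of k)) ≫ terminal.from _ from terminal.hom_ext _ _]
        infer_instance⟩
      obtain ⟨m, hm, hLm⟩ := Groth.Agent.S2329.result X H L hH hL
      have hdle : topologicalKrullDim (CohB1.support (Coh.structureModule X)) ≤ ((s + 1 + 1 : ℕ) : WithBot ℕ∞) :=
        dim_support_structure.trans_le hd.le
      have hlist : ∀ A ∈ L :: A₀, PicF.IsInvertible A := fun A hA => by
        rcases List.mem_cons.1 hA with rfl | h
        · exact hL
        · exact (hA₀ A h).1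
      have hsq : D k (L :: L :: A₀) (Coh.structureModule X) = 0 := by
        have h1 := hamp _ (hLm m le_rfl).1
        rw [D_perm k (List.Perm.swap _ _ _), D_tensor k (isCoh_one k) (TMul.isInvertible_tensorPow hH.1 m) hL hlist
          (e := s + 1 + 1) (by simp [A₀]) hdle, D_pow k (isCoh_one k) hH.1 hlist (e := s + 1 + 1) (by simp [A₀]) hdle,
          D_perm k (List.Perm.swap L H _), hamp H hH, mul_zero, zero_add] at h1
        exact h1
      have hor : D k (L :: List.replicate (s + 1) H) (Coh.structureModule X) = 0 := by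
        rw [List.replicate_succ]; exact hamp H hH
      exact isNumEquivZero_of_degFlat k hL (GenMember.degFlat_of_curves hL fun ξ hξ =>
        GenMember.deg_eq_zero_of_irreducible hd hH hL hor (by rw [show D k (L :: L :: List.replicate s H) _ = 0 from hsq, mul_zero]) hξ)

/-- Intervals in the pseudo-effective cone are compact. -/
theorem isCompact_psef_interval [IsIntegral X] [PicGrp.Law X] [Module.Finite ℝ (NumR.N1R k X)] {H : X.Modules}
    (hH : CohB1.IsAmple H) (δ : NumR.N1R k X) :
    IsCompact {δ' : NumR.N1R k X | δ' ∈ NumR.psefCone k X ∧ δ - δ' ∈ NumR.psefCone k X} := by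
  haveI : IsTopologicalAddGroup (NumR.N1R k X) := { continuous_neg := IsModuleTopology.continuous_neg ℝ (NumR.N1R k X) }
  let b := Module.finBasis ℝ (NumR.N1R k X)
  let e : NumR.N1R k X ≃L[ℝ] (Fin (Module.finrank ℝ (NumR.N1R k X)) → ℝ) :=
    { b.equivFun with
      continuous_toFun := IsModuleTopology.continuous_of_linearMap b.equivFun.toLinearMap
      continuous_invFun := b.equivFun.symm.toLinearMap.continuous_of_finiteDimensional }
  set Q := NumR.psefCone k X with hQ
  set C := e '' {δ' : NumR.N1R k X | δ' ∈ Q ∧ δ - δ' ∈ Q} with hC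
  have hcl : IsClosed C := by
    rw [hC, e.image_eq_preimage_symm]
    exact ((isClosed_closure.inter (isClosed_closure.preimage (continuous_const.sub continuous_id)))).preimage
      e.symm.continuous
  have hsmul : ∀ (c : ℝ) (z : NumR.N1R k X), 0 < c → z ∈ Q → c • z ∈ Q := fun c z hc hz =>
    map_mem_closure (continuous_const_smul c) hz fun w hw => (NumR.effCone k X).smul_mem' hc hw
  suffices hb : Bornology.IsBounded C by
    have hK := Metric.isCompact_of_isClosed_isBounded hcl hb
    have := hK.image e.symm.continuous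
    rwa [hC, e.symm_image_image] at this
  by_contra hb
  rw [isBounded_iff_forall_norm_le] at hb
  push Not at hb
  choose v hv hvn using fun n : ℕ => hb (n + 1)
  have hpos : ∀ n, (0 : ℝ) < ‖v n‖ := fun n => lt_of_le_of_lt (by positivity) (hvn n)
  have hsph : ∀ n, ‖v n‖⁻¹ • v n ∈ Metric.sphere (0 : Fin (Module.finrank ℝ (NumR.N1R k X)) → ℝ) 1 := fun n => by
    rw [mem_sphere_zero_iff_norm, norm_smul, norm_inv, norm_norm, inv_mul_cancel₀ (hpos n).ne']
  obtain ⟨u, hu, φ, hφ, hlim⟩ := (isCompact_sphere _ _).tendsto_subseq hsph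
  have hlim' : Filter.Tendsto (fun n => e.symm (‖v (φ n)‖⁻¹ • v (φ n))) Filter.atTop (nhds (e.symm u)) :=
    (e.symm.continuous.tendsto u).comp hlim
  have h0 : Filter.Tendsto (fun n => ‖v (φ n)‖⁻¹) Filter.atTop (nhds 0) := by
    refine tendsto_inv_atTop_zero.comp (Filter.tendsto_atTop_mono (fun n => ?_)
      tendsto_natCast_atTop_atTop)
    have h1 : (φ n : ℝ) + 1 < ‖v (φ n)‖ := by exact_mod_cast hvn (φ n)
    have h2 : (n : ℝ) ≤ φ n := by exact_mod_cast hφ.le_apply
    linarith
  have h1 : e.symm u ∈ Q := isClosed_closure.mem_of_tendsto hlim' (Filter.Eventually.of_forall fun n => by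
    obtain ⟨w, ⟨hw, -⟩, hwe⟩ := hv (φ n)
    rw [map_smul, show e.symm (v (φ n)) = w by rw [← hwe, e.symm_apply_apply]]
    exact hsmul _ _ (inv_pos.2 (hpos _)) hw)
  have h2 : -e.symm u ∈ Q := by
    have hlim2 : Filter.Tendsto (fun n => ‖v (φ n)‖⁻¹ • δ - e.symm (‖v (φ n)‖⁻¹ • v (φ n))) Filter.atTop
        (nhds ((0 : ℝ) • δ - e.symm u)) := (h0.smul_const δ).sub hlim'
    rw [zero_smul, zero_sub] at hlim2
    refine isClosed_closure.mem_of_tendsto hlim2 (Filter.Eventually.of_forall fun n => ?_)
    obtain ⟨w, ⟨-, hw⟩, hwe⟩ := hv (φ n)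
    rw [map_smul, show e.symm (v (φ n)) = w by rw [← hwe, e.symm_apply_apply], ← smul_sub]
    exact hsmul _ _ (inv_pos.2 (hpos _)) hw
  have hu0 : u = 0 := by
    have := psef_pointed k hH h1 h2
    simpa using congrArg e this
  rw [hu0] at hu
  simp at hu

end Groth.Agent.Nakai
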