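import Groth.Agent.Nakai.RealClass
import Groth.Agent.Nakai.AmpleApps
import Mathlib.LinearAlgebra.FreeModule.Basic
import Mathlib.Data.Real.Basic

/-!
Ample real divisors up to numerical equivalence.
-/

set_option autoImplicit false
set_option backward.isDefEq.respectTransparency false
set_option linter.style.haveILetI false
set_option linter.unusedSectionVars false

universe u v

open CategoryTheory CategoryTheory.Limits AlgebraicGeometry TopologicalSpace
open Groth.Agent.Intersect

noncomputable section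

namespace Groth.Agent.Nakai

/-- A real kernel vector of integer equations is a real combination of integer kernel vectors. -/
theorem exists_int_decomp {α ι : Type v} (g : ι → α → ℤ) (N : α →₀ ℝ)
    (hN : ∀ i, N.sum (fun c x => x * (g i c : ℝ)) = 0) :
    ∃ (S : Finset ℝ) (r : ℝ → ℝ) (M : ℝ → α →₀ ℤ),
      (∀ e ∈ S, ∀ i, (M e).sum (fun c n => n * g i c) = 0) ∧
      N = ∑ e ∈ S, r e • (M e).mapRange (fun n : ℤ => (n : ℝ)) Int.cast_zero := by
  classical
  let bs := Module.Free.chooseBasis ℚ ℝ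
  let S : Finset ℝ := (N.support.biUnion fun c => (bs.repr (N c)).support).image bs
  let κ : ℝ → α → ℚ := fun e c => if h : ∃ j, bs j = e then bs.repr (N c) h.choose else 0
  let d : ℝ → ℕ := fun e => ∏ c ∈ N.support, (κ e c).den
  let M : ℝ → α →₀ ℤ := fun e => Finsupp.onFinset N.support
    (fun c => if c ∈ N.support then (κ e c).num * ∏ c' ∈ N.support.erase c, ((κ e c').den : ℤ) else 0)
    fun c hc => by
      by_contra h
      simp [h] at hc
  have hM : ∀ e, ∀ c ∈ N.support, (M e c : ℚ) = (d e : ℚ) * κ e c := fun e c hc => by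
    simp only [M, d, Finsupp.onFinset_apply, if_pos hc]
    push_cast
    rw [← Finset.mul_prod_erase _ _ hc, ← Rat.mul_den_eq_num (κ e c)]
    ring
  have hd : ∀ e, (d e : ℝ) ≠ 0 := fun e => by
    exact_mod_cast (Finset.prod_pos fun c _ => (κ e c).den_pos).ne'
  have hκ : ∀ j c, κ (bs j) c = bs.repr (N c) j := fun j c => by
    have h : ∃ j', bs j' = bs j := ⟨j, rfl⟩
    simp only [κ, dif_pos h]
    rw [bs.injective h.choose_spec]
  refine ⟨S, fun e => e / d e, M, fun e he i => ?_, ?_⟩
  · obtain ⟨j, -, rfl⟩ := Finset.mem_image.1 he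
    rw [Finsupp.sum_of_support_subset _ Finsupp.support_onFinset_subset _ (by simp)]
    have h1 : ∑ c ∈ N.support, (g i c : ℚ) * bs.repr (N c) j = 0 := by
      have h := congrArg (bs.coord j) (hN i)
      rw [Finsupp.sum, map_sum, map_zero] at h
      rw [← h]
      refine Finset.sum_congr rfl fun c _ => ?_
      rw [show N c * (g i c : ℝ) = (g i c : ℚ) • N c by rw [Rat.smul_def, mul_comm]; norm_num, map_smul,
        Module.Basis.coord_apply, smul_eq_mul]
    have h2 : ((∑ c ∈ N.support, M (bs j) c * g i c : ℤ) : ℚ) = 0 := by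
      push_cast
      rw [← mul_zero (d (bs j) : ℚ), ← h1, Finset.mul_sum]
      refine Finset.sum_congr rfl fun c hc => ?_
      rw [hM _ c hc, hκ]
      ring
    exact Int.cast_eq_zero.1 h2
  · refine Finsupp.ext fun c => ?_
    rw [Finsupp.finset_sum_apply]
    by_cases hc : c ∈ N.support
    · have e1 : ∀ e, (((e / d e) • (M e).mapRange (fun n : ℤ => (n : ℝ)) Int.cast_zero) c : ℝ) = e * (κ e c : ℝ) :=
        fun e => by
          rw [Finsupp.smul_apply, Finsupp.mapRange_apply, smul_eq_mul,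
            show ((M e c : ℤ) : ℝ) = ((d e : ℚ) * κ e c : ℚ) by rw [← hM e c hc]; norm_num]
          push_cast
          field_simp [hd e]
      rw [Finset.sum_congr rfl fun e _ => e1 e, Finset.sum_image fun a _ b _ h => bs.injective h]
      conv_lhs => rw [← bs.linearCombination_repr (N c), Finsupp.linearCombination_apply,
        Finsupp.sum_of_support_subset _ (s := N.support.biUnion fun c => (bs.repr (N c)).support)
          (Finset.subset_biUnion_of_mem (fun c => (bs.repr (N c)).support) hc) _ (by simp)]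
      refine Finset.sum_congr rfl fun j _ => ?_
      rw [hκ, Rat.smul_def, mul_comm]
    · rw [Finsupp.notMem_support_iff.1 hc]
      refine (Finset.sum_eq_zero fun e _ => ?_).symm
      rw [Finsupp.smul_apply, Finsupp.mapRange_apply,
        show M e c = 0 by simp only [M, Finsupp.onFinset_apply, if_neg hc]]
      simp

variable {X : Scheme.{u}} (k : Type u) [Field k] [X.Over (Spec (CommRingCat.of k))] [IsProper (X ↘ Spec (CommRingCat.of k))]
  [Smooth (X ↘ Spec (CommRingCat.of k))] [IsIntegral X]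
  (hdim : topologicalKrullDim X = 2) [PicGrp.Law X] (B : NumR.N1R k X →ₗ[ℝ] NumR.N1R k X →ₗ[ℝ] ℝ)
  (hB : NumR.IsIntForm₂ k X B)

include k hdim hB

theorem isAmple_of_orth_curves {L M : X.Modules} (hL : CohB1.IsAmple L) (hM : PicF.IsInvertible M)
    (h0 : ∀ C : NumR.Curve X, B (NumR.clR k X M hM) (NumR.curveCl k X C.1 C.2.2.2) = 0) :
    CohB1.IsAmple (CohB1.tensorMod L M) := by
  refine isAmple_of_numEq k (TMul.isInvertible_tensorMod hL.1 hM) (numEq_of_ideals k fun C hC h1 => ?_) hL
  haveI := hC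
  have hI := inv_of_curve k hdim C h1
  have h := h0 ⟨C, hC, h1, hI⟩
  rw [B_curve k hdim B hB C h1 hI hM] at h
  have h2 := degOn_tensor k C h1 hL.1 hM
  rw [show degOn k C M = 0 by exact_mod_cast h, add_zero] at h2
  simp only [degOn, sub_left_inj] at h2
  exact_mod_cast h2.symm

theorem exists_ample_add {E N : NumR.CDiv X}
    (hE : ∃ (L : X.Modules) (hL : PicF.IsInvertible L), CohB1.IsAmple L ∧
      Additive.ofMul (PicGrp.cls L hL) = NumR.divCl X E)
    (hN : ∀ C : NumR.Curve X, B (NumR.divClR k X (NumR.CDiv.toR X N)) (NumR.curveCl k X C.1 C.2.2.2) = 0) :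
    ∃ (L : X.Modules) (hL : PicF.IsInvertible L), CohB1.IsAmple L ∧
      Additive.ofMul (PicGrp.cls L hL) = NumR.divCl X (E + N) := by
  obtain ⟨L, hL, hA, he⟩ := hE
  obtain ⟨M, hM, hMe⟩ := PicGrp.exists_eq_cls (Additive.toMul (NumR.divCl X N))
  have hMe' : NumR.divCl X N = Additive.ofMul (PicGrp.cls M hM) := by rw [← hMe, ofMul_toMul]
  refine ⟨_, TMul.isInvertible_tensorMod hL hM,
    isAmple_of_orth_curves k hdim B hB hA hM (fun C => ?_), ?_⟩
  · have h := hN C
    rwa [NumR.divClR_toR, hMe'] at h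
  · rw [map_add, ← he, hMe', ← ofMul_mul]
    exact congrArg Additive.ofMul (Subtype.ext (PicGrp.cls_mul_cls_val hL hM).symm)

theorem isAmpleRDiv_add_smul {D : NumR.CDivR X} (hD : NumR.IsAmpleRDiv X D) {N : NumR.CDiv X}
    (hN : ∀ C : NumR.Curve X, B (NumR.divClR k X (NumR.CDiv.toR X N)) (NumR.curveCl k X C.1 C.2.2.2) = 0) (r : ℝ) :
    NumR.IsAmpleRDiv X (D + r • NumR.CDiv.toR X N) := by
  obtain ⟨n, E, t, hn, ht, hE, rfl⟩ := hD
  obtain ⟨p, rfl⟩ : ∃ p, n = p + 1 := ⟨n - 1, by omega⟩
  obtain ⟨m, hm⟩ := exists_nat_gt (|r| / t 0)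
  have ht0 := ht 0
  have hm0 : (0 : ℝ) < m := lt_of_le_of_lt (div_nonneg (abs_nonneg r) ht0.le) hm
  have hr : |r / m| < t 0 := by
    rw [abs_div, abs_of_pos hm0, div_lt_iff₀ hm0, mul_comm]
    exact (div_lt_iff₀ ht0).1 hm
  obtain ⟨h1, h2⟩ := abs_lt.1 hr
  have hsm : ∀ z : ℤ, ∀ C : NumR.Curve X,
      B (NumR.divClR k X (NumR.CDiv.toR X (z • N))) (NumR.curveCl k X C.1 C.2.2.2) = 0 := fun z C => by
    rw [map_zsmul, map_zsmul, map_zsmul, LinearMap.smul_apply, hN C, smul_zero]
  refine ⟨p + 2, Fin.cons (E 0 + (m : ℤ) • N) (Fin.cons (E 0 + (-(m : ℤ)) • N) fun i => E i.succ),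
    Fin.cons ((t 0 + r / m) / 2) (Fin.cons ((t 0 - r / m) / 2) fun i => t i.succ), by omega,
    fun i => ?_, fun i => ?_, ?_⟩
  · refine Fin.cases ?_ (fun j => Fin.cases ?_ (fun l => ?_) j) i
    · simp only [Fin.cons_zero]; linarith
    · simp only [Fin.cons_succ, Fin.cons_zero]; linarith
    · simp only [Fin.cons_succ]; exact ht _
  · refine Fin.cases ?_ (fun j => Fin.cases ?_ (fun l => ?_) j) i
    · simp only [Fin.cons_zero]; exact exists_ample_add k hdim B hB (hE 0) (hsm _)
    · simp only [Fin.cons_succ, Fin.cons_zero]; exact exists_ample_add k hdim B hB (hE 0) (hsm _)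
    · simp only [Fin.cons_succ]; exact hE _
  · rw [Fin.sum_univ_succ, Fin.sum_univ_succ, Fin.sum_univ_succ]
    simp only [Fin.cons_succ, Fin.cons_zero, map_add, map_zsmul, ← Int.cast_smul_eq_zsmul ℝ, Int.cast_neg,
      Int.cast_natCast, smul_add, smul_smul]
    have e : r = (t 0 + r / m) / 2 * m + (t 0 - r / m) / 2 * -(m : ℝ) := by
      field_simp
      ring
    conv_lhs => rw [e, add_smul]
    module

theorem isAmpleRDiv_of_sub {D D' : NumR.CDivR X} (hD : NumR.IsAmpleRDiv X D)
    (h : NumR.IsNumTrivialRDiv k X B (D' - D)) : NumR.IsAmpleRDiv X D' := by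
  classical
  have hint : ∀ C C' : NumR.Curve X, B (NumR.curveCl k X C'.1 C'.2.2.2) (NumR.curveCl k X C.1 C.2.2.2) =
      ((FGA.intNum k X 2 ![ClSub.idealMod C'.1, ClSub.idealMod C.1] (Coh.structureModule X) : ℤ) : ℝ) := fun C C' => by
    simp only [NumR.curveCl, map_neg, LinearMap.neg_apply, neg_neg]
    exact hB _ _ _ _
  have hpair : ∀ (V : NumR.CDivR X) (C : NumR.Curve X), B (NumR.divClR k X V) (NumR.curveCl k X C.1 C.2.2.2) =
      V.sum fun C' x => x * B (NumR.curveCl k X C'.1 C'.2.2.2) (NumR.curveCl k X C.1 C.2.2.2) := fun V C => by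
    simp only [NumR.divClR, Finsupp.linearCombination_apply, Finsupp.sum, map_sum, map_smul, LinearMap.sum_apply,
      LinearMap.smul_apply, smul_eq_mul]
  have hz : ∀ C : NumR.Curve X, (D' - D).sum (fun C' x => x *
      ((FGA.intNum k X 2 ![ClSub.idealMod C'.1, ClSub.idealMod C.1] (Coh.structureModule X) : ℤ) : ℝ)) = 0 := fun C => by
    have h1 := h (Finsupp.single C 1)
    rw [show NumR.divClR k X (NumR.CDiv.toR X (Finsupp.single C 1)) = NumR.curveCl k X C.1 C.2.2.2 by
      simp [NumR.CDiv.toR, NumR.divClR], hpair] at h1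
    rw [← h1]
    exact Finsupp.sum_congr fun C' _ => by rw [hint]
  obtain ⟨S, r, M, hM, hdec⟩ := exists_int_decomp
    (fun C C' : NumR.Curve X => FGA.intNum k X 2 ![ClSub.idealMod C'.1, ClSub.idealMod C.1] (Coh.structureModule X))
    (D' - D) hz
  rw [← add_sub_cancel D D', hdec]
  clear hdec
  induction S using Finset.induction_on with
  | empty => simpa using hD
  | insert e S he ih =>
    rw [Finset.sum_insert he, add_comm (r e • _), ← add_assoc]
    refine isAmpleRDiv_add_smul k hdim B hB (ih fun a ha => hM a (Finset.mem_insert_of_mem ha))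
      (N := M e) (fun C => ?_) (r e)
    rw [hpair, show NumR.CDiv.toR X (M e) = (M e).mapRange (fun n : ℤ => (n : ℝ)) Int.cast_zero from rfl,
      Finsupp.sum_mapRange_index (fun _ => zero_mul _)]
    have h1 := congrArg (fun z : ℤ => (z : ℝ)) (hM e (Finset.mem_insert_self e S) C)
    simp only [Finsupp.sum, Int.cast_sum, Int.cast_mul, Int.cast_zero] at h1
    rw [← h1, Finsupp.sum]
    exact Finset.sum_congr rfl fun C' _ => by rw [hint]

end Groth.Agent.Nakai
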