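import Groth.Agent.Nakai.RealWalls
import Groth.Agent.Nakai.RealDiv
import Mathlib.LinearAlgebra.LinearIndependent.Defs
import Mathlib.LinearAlgebra.Dimension.Finrank

/-!
The positive cone and nondegeneracy of the intersection form.
-/

set_option autoImplicit false
set_option backward.isDefEq.respectTransparency false
set_option linter.style.haveILetI false
set_option linter.unusedSectionVars false

universe u

open CategoryTheory CategoryTheory.Limits AlgebraicGeometry TopologicalSpace
open Groth.Agent.Intersect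

noncomputable section

namespace Groth.Agent.Nakai

variable {X : Scheme.{u}} (k : Type u) [Field k] [X.Over (Spec (CommRingCat.of k))] [IsProper (X ↘ Spec (CommRingCat.of k))]
  [Smooth (X ↘ Spec (CommRingCat.of k))] [IsIntegral X]
  (hdim : topologicalKrullDim X = 2) [PicGrp.Law X] (B : NumR.N1R k X →ₗ[ℝ] NumR.N1R k X →ₗ[ℝ] ℝ)
  (hB : NumR.IsIntForm₂ k X B)

include hdim hB

theorem isNumEquivZero_of_orth {M : X.Modules} (hM : PicF.IsInvertible M)
    (h0 : ∀ (N : X.Modules) (hN : PicF.IsInvertible N), B (NumR.clR k X M hM) (NumR.clR k X N hN) = 0) :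
    Pic13.IsNumEquivZero k X M := by
  haveI := CurveRR.isNoetherian_of_proper k X
  intro Y i hci hY hY1
  haveI := hci
  haveI := hY
  haveI : IsIntegral i.ker.subscheme := by
    haveI : IsIso i.toImage := inferInstance
    exact IsIntegral.of_isIso i.toImage
  have h1 : topologicalKrullDim (i.ker.support : Set X) = 1 := by
    rw [Scheme.Hom.support_ker, i.isClosedEmbedding.isClosed_range.closure_eq,
      ← IsHomeomorph.topologicalKrullDim_eq _ i.isClosedEmbedding.isEmbedding.toHomeomorph.isHomeomorph, hY1]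
  have hI := inv_of_curve k hdim i.ker h1
  have h : B (NumR.clR k X M hM) (NumR.curveCl k X i.ker hI) = 0 := by
    rw [NumR.curveCl, map_neg, h0 _ hI, neg_zero]
  rw [B_curve k hdim B hB i.ker h1 hI hM] at h
  have h2 : degOn k i.ker M = 0 := by exact_mod_cast h
  simp only [degOn] at h2
  rw [curveDeg_eq k i hY1.le hM]
  exact_mod_cast h2

/-- The intersection form is nondegenerate on real classes. -/
theorem eq_zero_of_orth {y : NumR.N1R k X} (hy : ∀ z, B y z = 0) : y = 0 := by
  classical
  let α := {M : X.Modules // PicF.IsInvertible M}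
  let f : α → NumR.N1R k X := fun M => NumR.clR k X M.1 M.2
  have hr : Set.range f =
      {x : NumR.N1R k X | ∃ (L : X.Modules) (hL : PicF.IsInvertible L), x = NumR.clR k X L hL} :=
    Set.ext fun x => ⟨fun ⟨M, hM⟩ => ⟨M.1, M.2, hM.symm⟩, fun ⟨L, hL, hx⟩ => ⟨⟨L, hL⟩, hx.symm⟩⟩
  have hmem : y ∈ Submodule.span ℝ (Set.range f) := by rw [hr, NumR.span_clR]; trivial
  obtain ⟨c, rfl⟩ := Finsupp.mem_span_range_iff_exists_finsupp.1 hmem
  obtain ⟨S, ρ, M, hM, hdec⟩ := exists_int_decomp
    (fun N L : α => FGA.intNum k X 2 ![L.1, N.1] (Coh.structureModule X)) c fun N => by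
    have h := hy (f N)
    simp only [Finsupp.sum, map_sum, map_smul, LinearMap.sum_apply, LinearMap.smul_apply, smul_eq_mul] at h
    rw [← h, Finsupp.sum]
    exact Finset.sum_congr rfl fun L _ => by rw [show B (f L) (f N) = _ from hB _ _ L.2 N.2]
  rw [hdec, ← Finsupp.linearCombination_apply ℝ, map_sum]
  refine Finset.sum_eq_zero fun e he => ?_
  rw [map_smul, Finsupp.linearCombination_apply, Finsupp.sum_mapRange_index (h := fun L a => a • f L) (fun _ => zero_smul ℝ _)]
  suffices h : ((M e).sum fun L n => (n : ℝ) • f L) = 0 by rw [h, smul_zero]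
  let c' : Additive (PicLoc.PicSet X) := (M e).sum fun L n => n • Additive.ofMul (PicGrp.cls L.1 L.2)
  have hc : clHom k c' = (M e).sum fun L n => (n : ℝ) • f L := by
    simp only [c', Finsupp.sum, map_sum, map_zsmul, ← clR_eq_clHom, f, Int.cast_smul_eq_zsmul]
  obtain ⟨N, hN, hNe⟩ := PicGrp.exists_eq_cls (Additive.toMul c')
  have hc' : c' = Additive.ofMul (PicGrp.cls N hN) := by rw [← hNe, ofMul_toMul]
  rw [hc', ← clR_eq_clHom] at hc
  rw [← hc]
  have hz : Pic13.IsNumEquivZero k X N := isNumEquivZero_of_orth k hdim B hB hN fun N' hN' => by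
    have h1 := congrArg (fun z : ℤ => (z : ℝ)) (hM e he ⟨N', hN'⟩)
    simp only [Finsupp.sum, Int.cast_sum, Int.cast_mul, Int.cast_zero] at h1
    rw [hc]
    simp only [Finsupp.sum, map_sum, map_smul, LinearMap.sum_apply, LinearMap.smul_apply, smul_eq_mul]
    refine (Finset.sum_congr rfl fun L _ => ?_).trans h1
    rw [show B (f L) (NumR.clR k X N' hN') = _ from hB _ _ L.2 hN']
  rw [NumR.clR_def, NumR.cl_eq_zero hN hz, map_zero]

variable [Module.Finite ℝ (NumR.N1R k X)] {H : X.Modules} (hH : CohB1.IsAmple H)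

include hH

theorem eq_zero_of_orth_pos {x y : NumR.N1R k X} (hx : 0 < B x x) (hy : 0 ≤ B y y) (hxy : B x y = 0) : y = 0 :=
  eq_zero_of_orth k hdim B hB fun z => B_eq_zero_of_orth k hdim B hB hH hx hxy
    (le_antisymm (B_nonpos_of_orth k hdim B hB hH hx hxy) hy) z

theorem B_pos_of_posCone {x y : NumR.N1R k X} (hx : x ∈ NumR.posCone k X B H hH.1) (hy : 0 ≤ B y y)
    (hyH : 0 < B y (NumR.clR k X H hH.1)) : 0 < B x y := by
  obtain ⟨hxx, hxh⟩ := hx
  have hs := B_symm k hdim B hB
  set h := NumR.clR k X H hH.1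
  set z := B y h • x - B x h • y with hz
  have hzh : B z h = 0 := by
    simp only [hz, map_sub, map_smul, LinearMap.sub_apply, LinearMap.smul_apply, smul_eq_mul]
    ring
  have hzz : B z z = B y h ^ 2 * B x x - 2 * (B y h * B x h) * B x y + B x h ^ 2 * B y y := by
    simp only [hz, map_sub, map_smul, LinearMap.sub_apply, LinearMap.smul_apply, smul_eq_mul, hs y x]
    ring
  have h1 := B_nonpos_of_orth k hdim B hB hH (B_hH_pos k hdim B hB hH) (y := z) (by rw [hs]; exact hzh)
  rw [hzz] at h1
  by_contra hc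
  push Not at hc
  nlinarith [mul_pos (pow_pos hyH 2) hxx, mul_nonneg (sq_nonneg (B x h)) hy,
    mul_nonpos_of_nonneg_of_nonpos (mul_pos hyH hxh).le hc]

theorem convex_posCone : Convex ℝ (NumR.posCone k X B H hH.1) := by
  refine convex_iff_add_mem.2 fun x hx y hy a b ha hb hab => ?_
  rcases ha.eq_or_lt with rfl | ha'
  · rw [zero_smul, zero_add, show b = 1 by linarith, one_smul]
    exact hy
  have hs := B_symm k hdim B hB
  have hxy := B_pos_of_posCone k hdim B hB hH hx hy.1.le hy.2
  constructor
  · simp only [map_add, map_smul, LinearMap.add_apply, LinearMap.smul_apply, smul_eq_mul, hs y x]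
    have := mul_pos (mul_pos ha' ha') hx.1
    have := mul_nonneg (mul_nonneg ha hb) hxy.le
    have := mul_nonneg (mul_nonneg hb hb) hy.1.le
    nlinarith
  · simp only [map_add, map_smul, LinearMap.add_apply, LinearMap.smul_apply, smul_eq_mul]
    have := mul_pos ha' hx.2
    have := mul_nonneg hb hy.2.le
    linarith

omit hdim hB in
theorem isOpen_posCone : IsOpen (NumR.posCone k X B H hH.1) :=
  (isOpen_lt continuous_const (continuous_B_self k B)).inter (isOpen_lt continuous_const (continuous_B_left k B _))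

theorem card_succ_le_finrank (r : ℕ) (C : Fin r → X.IdealSheafData) (hC : Function.Injective C)
    (hCi : ∀ i, IsIntegral (C i).subscheme) (hCd : ∀ i, topologicalKrullDim ((C i).support : Set X) = 1)
    (hCinv : ∀ i, PicF.IsInvertible (ClSub.idealMod (C i)))
    (hneg : ∀ a : Fin r → ℤ, a ≠ 0 →
      ∑ i, ∑ j, a i * a j * FGA.intNum k X 2 ![(ClSub.idealMod (C i)), (ClSub.idealMod (C j))] (Coh.structureModule X) < 0) :
    r + 1 ≤ Module.finrank ℝ (NumR.N1R k X) := by
  obtain ⟨x, -, ⟨hxx, -⟩, hxw⟩ := (walls_iff k hdim B hB hH r C hC hCi hCd hCinv).2 hneg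
  have hA := clR_mem_ampleCone k hH
  have hneg' := negDef_of_orth k hdim B hB hH hxx (fun i => NumR.curveCl k X (C i) (hCinv i)) hxw
    (fun i j hij => by
      haveI := hCi i
      haveI := hCi j
      exact B_curve_curve_nonneg k hdim B hB (hCd i) (hCd j) (fun h => hij (hC h)) _ _)
    (fun i => haveI := hCi i; B_pos_curve k hdim B hB hA (C i) (hCd i) _)
  have hli : LinearIndependent ℝ (Fin.cons x fun i => NumR.curveCl k X (C i) (hCinv i) : Fin (r + 1) → NumR.N1R k X) := by
    rw [Fintype.linearIndependent_iff]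
    intro g hg
    rw [Fin.sum_univ_succ] at hg
    simp only [Fin.cons_zero, Fin.cons_succ] at hg
    have h0 : g 0 = 0 := by
      have h := congrArg (B x) hg
      simp only [map_add, map_sum, map_smul, smul_eq_mul, map_zero] at h
      rw [Finset.sum_eq_zero fun i _ => by rw [hxw i, mul_zero], add_zero] at h
      exact (mul_eq_zero.1 h).resolve_right hxx.ne'
    rw [h0, zero_smul, zero_add] at hg
    intro i
    refine Fin.cases h0 (fun j => ?_) i
    by_contra hj
    have h := hneg' (fun i => g i.succ) fun h => hj (congrFun h j)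
    rw [hg] at h
    simp at h
  have h := hli.fintype_card_le_finrank
  rwa [Fintype.card_fin] at h

end Groth.Agent.Nakai
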