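import Groth.Agent.Nakai.RealBig
import Mathlib.LinearAlgebra.FiniteDimensional.Basic

/-!
Negative definite configurations of curves and walls of the ample cone.
-/

set_option autoImplicit false
set_option backward.isDefEq.respectTransparency false
set_option linter.style.haveILetI false
set_option linter.unusedSectionVars false

universe u

open CategoryTheory CategoryTheory.Limits AlgebraicGeometry TopologicalSpace
open Groth.Agent.Intersect

noncomputable section

namespace Groth.Agent.Nakai

/-- Negativity on integer vectors gives negativity on rational vectors. -/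
theorem rat_neg_of_int_neg {r : ℕ} (G : Fin r → Fin r → ℤ)
    (hG : ∀ a : Fin r → ℤ, a ≠ 0 → ∑ i, ∑ j, a i * a j * G i j < 0) (a : Fin r → ℚ) (ha : a ≠ 0) :
    ∑ i, ∑ j, a i * a j * (G i j : ℚ) < 0 := by
  classical
  let n : Fin r → ℤ := fun i => (a i).num * ∏ j ∈ Finset.univ.erase i, ((a j).den : ℤ)
  have hd : (0 : ℚ) < ∏ j, ((a j).den : ℚ) := Finset.prod_pos fun j _ => by exact_mod_cast (a j).den_pos
  have hn : ∀ i, (n i : ℚ) = (∏ j, ((a j).den : ℚ)) * a i := fun i => by
    rw [← Finset.mul_prod_erase _ _ (Finset.mem_univ i)]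
    simp only [n]
    push_cast
    rw [← Rat.mul_den_eq_num (a i)]
    ring
  have hne : n ≠ 0 := fun h => ha (funext fun i => by
    have := hn i
    rw [h] at this
    simpa [hd.ne'] using this.symm)
  have h : ∑ i, ∑ j, (n i : ℚ) * n j * (G i j : ℚ) < 0 := by exact_mod_cast hG n hne
  have e : ∑ i, ∑ j, (n i : ℚ) * n j * (G i j : ℚ) =
      (∏ j, ((a j).den : ℚ)) ^ 2 * ∑ i, ∑ j, a i * a j * (G i j : ℚ) := by
    simp only [hn, Finset.mul_sum]
    exact Finset.sum_congr rfl fun i _ => Finset.sum_congr rfl fun j _ => by ring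
  rw [e] at h
  by_contra hc
  push Not at hc
  nlinarith [mul_nonneg (sq_nonneg (∏ j, ((a j).den : ℚ))) hc]

/-- A negative definite matrix with non-negative off-diagonal entries inverts negative vectors to non-negative ones. -/
theorem exists_nonneg_solution {r : ℕ} (G : Fin r → Fin r → ℚ) (hoff : ∀ i j, i ≠ j → 0 ≤ G i j)
    (hneg : ∀ a : Fin r → ℚ, a ≠ 0 → ∑ i, ∑ j, a i * a j * G i j < 0) (b : Fin r → ℚ) (hb : ∀ i, 0 ≤ b i) :
    ∃ a : Fin r → ℚ, (∀ i, 0 ≤ a i) ∧ ∀ i, ∑ j, G i j * a j = -b i := by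
  let T : (Fin r → ℚ) →ₗ[ℚ] (Fin r → ℚ) := Matrix.mulVecLin (Matrix.of G)
  have hT : ∀ a i, T a i = ∑ j, G i j * a j := fun a i => rfl
  have hinj : Function.Injective T := (injective_iff_map_eq_zero T).2 fun a h0 => by
    by_contra hne
    have h1 := hneg a hne
    have e : ∑ i, ∑ j, a i * a j * G i j = ∑ i, a i * T a i := Finset.sum_congr rfl fun i _ => by
      rw [hT, Finset.mul_sum]
      exact Finset.sum_congr rfl fun j _ => by ring
    rw [e, h0] at h1
    simp at h1
  obtain ⟨a, ha⟩ := (LinearMap.injective_iff_surjective.1 hinj) (fun i => -b i)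
  refine ⟨a, fun i => ?_, fun i => by rw [← hT, ha]⟩
  by_contra hi
  push Not at hi
  let p : Fin r → ℚ := fun j => max (-a j) 0
  have hp : p ≠ 0 := fun h => by
    have h2 : max (-a i) 0 = 0 := congrFun h i
    linarith [le_max_left (-a i) 0]
  have h1 := hneg p hp
  have h2 : ∑ i, p i * ∑ j, G i j * a j ≤ 0 := Finset.sum_nonpos fun i _ => by
    rw [← hT, ha]
    exact mul_nonpos_of_nonneg_of_nonpos (le_max_right _ _) (neg_nonpos.2 (hb i))
  have e : ∀ i, p i * ∑ j, G i j * a j = (∑ j, p i * max (a j) 0 * G i j) - ∑ j, p i * p j * G i j := fun i => by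
    rw [Finset.mul_sum, ← Finset.sum_sub_distrib]
    refine Finset.sum_congr rfl fun j _ => ?_
    have hj : a j = max (a j) 0 - p j := by
      simp only [p]
      rcases le_total 0 (a j) with h | h
      · rw [max_eq_left h, max_eq_right (neg_nonpos.2 h), sub_zero]
      · rw [max_eq_right h, max_eq_left (neg_nonneg.2 h), zero_sub, neg_neg]
    conv_lhs => rw [hj]
    ring
  have h3 : 0 ≤ ∑ i, ∑ j, p i * max (a j) 0 * G i j := Finset.sum_nonneg fun i _ => Finset.sum_nonneg fun j _ => by
    by_cases hij : i = j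
    · subst hij
      simp only [p]
      rcases le_total 0 (a i) with h | h
      · rw [max_eq_right (neg_nonpos.2 h), zero_mul, zero_mul]
      · rw [max_eq_right h, mul_zero, zero_mul]
    · exact mul_nonneg (mul_nonneg (le_max_right _ _) (le_max_right _ _)) (hoff i j hij)
  simp only [e, Finset.sum_sub_distrib] at h2
  linarith

variable {X : Scheme.{u}} (k : Type u) [Field k] [X.Over (Spec (CommRingCat.of k))] [IsProper (X ↘ Spec (CommRingCat.of k))]
  [Smooth (X ↘ Spec (CommRingCat.of k))] [IsIntegral X]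
  (hdim : topologicalKrullDim X = 2) [PicGrp.Law X] (B : NumR.N1R k X →ₗ[ℝ] NumR.N1R k X →ₗ[ℝ] ℝ)
  (hB : NumR.IsIntForm₂ k X B) [Module.Finite ℝ (NumR.N1R k X)] {H : X.Modules} (hH : CohB1.IsAmple H)

include hdim hB hH

omit [IsProper (X ↘ Spec (CommRingCat.of k))] [Smooth (X ↘ Spec (CommRingCat.of k))] [IsIntegral X] hdim hH in
theorem B_curve_eq (I J : X.IdealSheafData) (hI : PicF.IsInvertible (ClSub.idealMod I))
    (hJ : PicF.IsInvertible (ClSub.idealMod J)) :
    B (NumR.curveCl k X I hI) (NumR.curveCl k X J hJ) =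
      ((FGA.intNum k X 2 ![ClSub.idealMod I, ClSub.idealMod J] (Coh.structureModule X) : ℤ) : ℝ) := by
  simp only [NumR.curveCl, map_neg, LinearMap.neg_apply, neg_neg]
  exact hB _ _ hI hJ

theorem negDef_of_orth {x : NumR.N1R k X} (hx : 0 < B x x) {r : ℕ} (c : Fin r → NumR.N1R k X)
    (horth : ∀ i, B x (c i) = 0) (hoff : ∀ i j, i ≠ j → 0 ≤ B (c i) (c j))
    (hpos : ∀ i, 0 < B (NumR.clR k X H hH.1) (c i)) (a : Fin r → ℝ) (ha : a ≠ 0) :
    B (∑ i, a i • c i) (∑ i, a i • c i) < 0 := by
  have hs := B_symm k hdim B hB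
  set h := NumR.clR k X H hH.1
  let P : Fin r → ℝ := fun i => max (a i) 0
  let N : Fin r → ℝ := fun i => max (-a i) 0
  set v := ∑ i, a i • c i with hv
  set p := ∑ i, P i • c i with hp
  set q := ∑ i, N i • c i with hq
  have hvpq : v = p - q := by
    rw [hv, hp, hq, ← Finset.sum_sub_distrib]
    refine Finset.sum_congr rfl fun i _ => ?_
    rw [← sub_smul]
    congr 1
    simp only [P, N]
    rcases le_total 0 (a i) with h | h
    · rw [max_eq_left h, max_eq_right (neg_nonpos.2 h), sub_zero]
    · rw [max_eq_right h, max_eq_left (neg_nonneg.2 h), zero_sub, neg_neg]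
  have hxs : ∀ w : Fin r → ℝ, B x (∑ i, w i • c i) = 0 := fun w => by
    simp [map_sum, horth]
  refine lt_of_le_of_ne (B_nonpos_of_orth k hdim B hB hH hx (hxs a)) fun h0 => ha ?_
  have hz : ∀ z, B v z = 0 := B_eq_zero_of_orth k hdim B hB hH hx (hxs a) h0
  have hpq : 0 ≤ B p q := by
    simp only [hp, hq, map_sum, map_smul, LinearMap.sum_apply, LinearMap.smul_apply, smul_eq_mul]
    simp only [Finset.mul_sum]
    refine Finset.sum_nonneg fun i _ => Finset.sum_nonneg fun j _ => ?_
    by_cases hij : j = i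
    · subst hij
      simp only [P, N]
      rcases le_total 0 (a j) with h | h
      · rw [max_eq_right (neg_nonpos.2 h), zero_mul]
      · rw [max_eq_right h, zero_mul, mul_zero]
    · exact mul_nonneg (le_max_right _ _) (mul_nonneg (le_max_right _ _) (hoff j i hij))
  have hpp : B p p = 0 := by
    refine le_antisymm (B_nonpos_of_orth k hdim B hB hH hx (hxs P)) ?_
    have h1 := hz p
    rw [hvpq, map_sub, LinearMap.sub_apply, hs q p] at h1
    linarith
  have hqq : B q q = 0 := by
    refine le_antisymm (B_nonpos_of_orth k hdim B hB hH hx (hxs N)) ?_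
    have h1 := hz q
    rw [hvpq, map_sub, LinearMap.sub_apply] at h1
    linarith
  have key : ∀ w : Fin r → ℝ, (∀ i, 0 ≤ w i) → B (∑ i, w i • c i) h = 0 → ∀ i, w i = 0 := fun w hw h0 i => by
    simp only [map_sum, map_smul, LinearMap.sum_apply, LinearMap.smul_apply, smul_eq_mul] at h0
    have h1 := (Finset.sum_eq_zero_iff_of_nonneg fun j _ => mul_nonneg (hw j) (by rw [hs]; exact (hpos j).le)).1 h0 i
      (Finset.mem_univ i)
    exact (mul_eq_zero.1 h1).resolve_right (by rw [hs]; exact (hpos i).ne')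
  funext i
  have h1 := key P (fun j => le_max_right _ _) (B_eq_zero_of_orth k hdim B hB hH hx (hxs P) hpp h) i
  have h2 := key N (fun j => le_max_right _ _) (B_eq_zero_of_orth k hdim B hB hH hx (hxs N) hqq h) i
  simp only [P] at h1
  simp only [N] at h2
  have := le_max_left (a i) 0
  have := le_max_left (-a i) 0
  simp only [Pi.zero_apply]
  linarith

theorem walls_iff (r : ℕ) (C : Fin r → X.IdealSheafData) (hC : Function.Injective C)
    (hCi : ∀ i, IsIntegral (C i).subscheme) (hCd : ∀ i, topologicalKrullDim ((C i).support : Set X) = 1)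
    (hCinv : ∀ i, PicF.IsInvertible (ClSub.idealMod (C i))) :
    (∃ x : NumR.N1R k X, x ∈ closure (NumR.ampleCone k X : Set (NumR.N1R k X)) ∧ x ∈ NumR.posCone k X B H hH.1 ∧
        ∀ i, x ∈ NumR.wall k X B (C i) (hCinv i)) ↔
      (∀ a : Fin r → ℤ, a ≠ 0 →
      ∑ i, ∑ j, a i * a j * FGA.intNum k X 2 ![(ClSub.idealMod (C i)), (ClSub.idealMod (C j))] (Coh.structureModule X) < 0) := by
  let c : Fin r → NumR.N1R k X := fun i => NumR.curveCl k X (C i) (hCinv i)
  let G : Fin r → Fin r → ℤ := fun i j =>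
    FGA.intNum k X 2 ![ClSub.idealMod (C i), ClSub.idealMod (C j)] (Coh.structureModule X)
  have hG : ∀ i j, B (c i) (c j) = (G i j : ℝ) := fun i j => B_curve_eq k B hB _ _ _ _
  have hA := clR_mem_ampleCone k hH
  have hoff : ∀ i j, i ≠ j → 0 ≤ B (c i) (c j) := fun i j hij => by
    haveI := hCi i
    haveI := hCi j
    exact B_curve_curve_nonneg k hdim B hB (hCd i) (hCd j) (fun h => hij (hC h)) _ _
  have hpos : ∀ i, 0 < B (NumR.clR k X H hH.1) (c i) := fun i => by
    haveI := hCi i
    exact B_pos_curve k hdim B hB hA (C i) (hCd i) _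
  constructor
  · rintro ⟨x, -, ⟨hxx, -⟩, hxw⟩ a ha
    have h := negDef_of_orth k hdim B hB hH hxx c hxw hoff hpos (fun i => (a i : ℝ))
      fun h => ha (funext fun i => Int.cast_eq_zero.1 (congrFun h i))
    simp only [map_sum, map_smul, LinearMap.sum_apply, LinearMap.smul_apply, smul_eq_mul, hG, Finset.mul_sum] at h
    rw [Finset.sum_comm] at h
    have h' : ((∑ i, ∑ j, a i * a j * G i j : ℤ) : ℝ) < 0 := by
      push_cast
      refine lt_of_eq_of_lt (Finset.sum_congr rfl fun i _ => Finset.sum_congr rfl fun j _ => ?_) h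
      ring
    exact_mod_cast h'
  · intro hneg
    have hb : ∀ i, ∃ b : ℚ, 0 ≤ b ∧ B (NumR.clR k X H hH.1) (c i) = (b : ℝ) := fun i => by
      haveI := hCi i
      have e := B_curve k hdim B hB (C i) (hCd i) (hCinv i) hH.1
      refine ⟨degOn k (C i) H, ?_, e⟩
      have h := hpos i
      rw [show B (NumR.clR k X H hH.1) (c i) = _ from e] at h
      exact_mod_cast h.le
    choose b hb0 hbe using hb
    obtain ⟨a, ha0, ha⟩ := exists_nonneg_solution (fun i j => (G i j : ℚ))
      (fun i j hij => by
        have h := hoff i j hij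
        rw [hG] at h
        exact_mod_cast h)
      (rat_neg_of_int_neg G hneg) b hb0
    set h := NumR.clR k X H hH.1
    let x : NumR.N1R k X := h + ∑ j, (a j : ℝ) • c j
    have hs := B_symm k hdim B hB
    have hxc : ∀ i, B x (c i) = 0 := fun i => by
      simp only [x, map_add, map_sum, map_smul, LinearMap.add_apply, LinearMap.sum_apply, LinearMap.smul_apply,
        smul_eq_mul, hbe]
      have e : ∑ j, (a j : ℝ) * B (c j) (c i) = ((-b i : ℚ) : ℝ) := by
        rw [← ha i]
        push_cast
        exact Finset.sum_congr rfl fun j _ => by rw [hs, hG]; ring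
      rw [e]
      push_cast
      ring
    have hxh : 0 < B x h := by
      simp only [x, map_add, map_sum, map_smul, LinearMap.add_apply, LinearMap.sum_apply, LinearMap.smul_apply,
        smul_eq_mul]
      refine add_pos_of_pos_of_nonneg (B_hH_pos k hdim B hB hH) (Finset.sum_nonneg fun j _ => ?_)
      rw [hs]
      exact mul_nonneg (by exact_mod_cast ha0 j) (hpos j).le
    have hxn : x ∈ NumR.nefCone₂ k X B := fun I hI h1 hinv => by
      haveI := hI
      by_cases hmem : ∃ i, C i = I
      · obtain ⟨i, rfl⟩ := hmem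
        exact (hxc i).ge
      · simp only [x, map_add, map_sum, map_smul, LinearMap.add_apply, LinearMap.sum_apply, LinearMap.smul_apply,
          smul_eq_mul]
        refine add_nonneg (B_pos_curve k hdim B hB hA I h1 hinv).le (Finset.sum_nonneg fun j _ => ?_)
        haveI := hCi j
        exact mul_nonneg (by exact_mod_cast ha0 j)
          (B_curve_curve_nonneg k hdim B hB (hCd j) h1 (fun e => hmem ⟨j, e⟩) _ _)
    refine ⟨x, by rw [closure_ampleCone k hdim B hB hH]; exact hxn, ⟨?_, hxh⟩, hxc⟩
    have e : B x x = B x h + ∑ j, (a j : ℝ) * B x (c j) := by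
      conv_lhs => arg 2; simp only [x]
      simp only [map_add, map_sum, map_smul, smul_eq_mul]
    rw [e]
    simp only [hxc, mul_zero, Finset.sum_const_zero, add_zero]
    exact hxh

end Groth.Agent.Nakai
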