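import Mathlib

/-!
A root bound: polynomials built from Pascal's rule with positive top coefficient.
-/

set_option autoImplicit false

noncomputable section

namespace Groth.Agent.Nakai

variable (c : ℕ → ℚ) (t : ℚ)

/-- `g j a = ∑ i, choose j i * c (a + i) * t ^ i`, through Pascal's rule. -/
def g : ℕ → ℕ → ℚ
  | 0, a => c a
  | j + 1, a => g j a + t * g j (a + 1)

theorem g_at_zero : ∀ j a, g c 0 j a = c a
  | 0, a => rfl
  | j + 1, a => by rw [g, g_at_zero j a, zero_mul, add_zero]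

variable {c t}

theorem g_lb (ht : 0 ≤ t) : ∀ {j a : ℕ}, (∀ i, a ≤ i → i ≤ a + j → 0 ≤ c i) → c (a + j) * t ^ j ≤ g c t j a
  | 0, a, _ => by simp [g]
  | j + 1, a, h => by
    have h1 := g_lb ht (j := j) (a := a) fun i hi hi' => h i hi (by omega)
    have h2 := g_lb ht (j := j) (a := a + 1) fun i hi hi' => h i (by omega) (by omega)
    have h3 : 0 ≤ c (a + j) * t ^ j := mul_nonneg (h _ (by omega) (by omega)) (pow_nonneg ht _)
    rw [g, pow_succ, show a + (j + 1) = a + 1 + j by omega]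
    have h4 := mul_le_mul_of_nonneg_left h2 ht
    linarith

theorem g_nonneg (ht : 0 ≤ t) {j a : ℕ} (h : ∀ i, a ≤ i → i ≤ a + j → 0 ≤ c i) : 0 ≤ g c t j a :=
  (mul_nonneg (h _ (by omega) le_rfl) (pow_nonneg ht _)).trans (g_lb ht h)

theorem g_head (ht : 0 ≤ t) : ∀ {j : ℕ}, (∀ i, 1 ≤ i → i ≤ j → 0 ≤ c i) → c 0 ≤ g c t j 0
  | 0, _ => le_rfl
  | j + 1, h => by
    have h1 := g_head ht (j := j) fun i hi hi' => h i hi (by omega)
    have h2 := g_nonneg (c := c) ht (j := j) (a := 1) fun i hi hi' => h i hi (by omega)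
    rw [g]
    nlinarith [mul_nonneg ht h2]

theorem g_abs {K B : ℚ} (ht : 0 ≤ t) (htK : t ≤ K) {e : ℕ} (hB : ∀ i, i ≤ e → |c i| ≤ B) :
    ∀ {j a : ℕ}, a + j ≤ e → |g c t j a| ≤ (1 + K) ^ j * B
  | 0, a, h => by simpa [g] using hB a (by omega)
  | j + 1, a, h => by
    have h1 := g_abs ht htK hB (j := j) (a := a) (by omega)
    have h2 := g_abs ht htK hB (j := j) (a := a + 1) (by omega)
    rw [g]
    refine (abs_add_le _ _).trans ?_
    rw [abs_mul, abs_of_nonneg ht, pow_succ]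
    nlinarith [abs_nonneg (g c t j (a + 1)), mul_le_mul htK h2 (abs_nonneg _) (ht.trans htK)]

theorem g_lip {s K B : ℚ} (hs : 0 ≤ s) (hst : s ≤ t) (htK : t ≤ K) {e : ℕ} (hB : ∀ i, i ≤ e → |c i| ≤ B) :
    ∀ {j a : ℕ}, a + j ≤ e → |g c t j a - g c s j a| ≤ (j : ℚ) * (1 + K) ^ j * B * (t - s)
  | 0, a, h => by simp [g]
  | j + 1, a, h => by
    have h1 := g_lip hs hst htK hB (j := j) (a := a) (by omega)
    have h2 := g_lip hs hst htK hB (j := j) (a := a + 1) (by omega)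
    have h3 := g_abs (c := c) hs (hst.trans htK) hB (j := j) (a := a + 1) (by omega)
    have e' : g c t (j + 1) a - g c s (j + 1) a = (g c t j a - g c s j a) +
        t * (g c t j (a + 1) - g c s j (a + 1)) + (t - s) * g c s j (a + 1) := by rw [g, g]; ring
    rw [e']
    refine (abs_add_le _ _).trans (le_trans (add_le_add ((abs_add_le _ _).trans (add_le_add h1 le_rfl)) le_rfl) ?_)
    have ht : 0 ≤ t := hs.trans hst
    have hK : 0 ≤ K := ht.trans htK
    have hB0 : 0 ≤ B := (abs_nonneg _).trans (hB 0 (Nat.zero_le _))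
    have hX : 0 ≤ (1 + K) ^ j * B := mul_nonneg (pow_nonneg (by linarith) _) hB0
    have hd : 0 ≤ t - s := by linarith
    rw [abs_mul, abs_of_nonneg ht, abs_mul, abs_of_nonneg hd]
    have h4 : t * |g c t j (a + 1) - g c s j (a + 1)| ≤ K * ((j : ℚ) * (1 + K) ^ j * B * (t - s)) :=
      mul_le_mul htK h2 (abs_nonneg _) hK
    have h5 : (t - s) * |g c s j (a + 1)| ≤ (t - s) * ((1 + K) ^ j * B) := mul_le_mul_of_nonneg_left h3 hd
    have h6 : 0 ≤ (t - s) * ((1 + K) ^ j * B) * K := mul_nonneg (mul_nonneg hd hX) hK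
    push_cast
    rw [pow_succ]
    nlinarith

/-- If the lower coefficient were negative there would be a root where the value cannot be small. -/
theorem coeff_zero_nonneg {e : ℕ} (hc : ∀ a, 1 ≤ a → a ≤ e + 1 → 0 ≤ c a) (htop : 0 < c (e + 1))
    (key : ∀ p q : ℕ, 0 < p → 0 < q → 0 < g c ((q : ℚ) / p) (e + 1) 0 → 0 ≤ g c ((q : ℚ) / p) e 0) :
    0 ≤ c 0 := by
  by_contra hneg
  push Not at hneg
  let f : ℚ → ℚ := fun t => g c t (e + 1) 0
  have hkey : ∀ p q : ℕ, 0 < p → 0 < q → 0 < f ((q : ℚ) / p) → c (e + 1) * ((q : ℚ) / p) ^ (e + 1) ≤ f ((q : ℚ) / p) := by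
    intro p q hp hq hf
    have h1 := key p q hp hq hf
    have ht : (0 : ℚ) ≤ (q : ℚ) / p := by positivity
    have h2 := g_lb (c := c) ht (j := e) (a := 1) fun i hi hi' => hc i hi (by omega)
    rw [add_comm 1 e] at h2
    change _ ≤ g c _ (e + 1) 0
    rw [g, pow_succ]
    have h4 := mul_le_mul_of_nonneg_left h2 ht
    linarith
  obtain ⟨T, hT⟩ := exists_nat_gt (-c 0 / c (e + 1) + 1)
  have hT1 : (1 : ℚ) ≤ T := le_trans (le_add_of_nonneg_left (div_nonneg (by linarith) htop.le)) hT.le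
  have hfT : 0 < f T := by
    have h1 := g_head (c := c) (by linarith : (0 : ℚ) ≤ T) (j := e) fun i hi hi' => hc i hi (by omega)
    have h2 := g_lb (c := c) (by linarith : (0 : ℚ) ≤ T) (j := e) (a := 1) fun i hi hi' => hc i hi (by omega)
    rw [add_comm 1 e] at h2
    have h3 : c (e + 1) ≤ c (e + 1) * (T : ℚ) ^ e := le_mul_of_one_le_right htop.le (one_le_pow₀ hT1)
    have h4 : -c 0 < c (e + 1) * T := by
      have h : -c 0 / c (e + 1) < T := by linarith
      rw [div_lt_iff₀ htop] at h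
      linarith
    change 0 < g c _ (e + 1) 0
    rw [g]
    nlinarith
  obtain ⟨B, hB⟩ : ∃ B, ∀ i, i ≤ e + 1 → |c i| ≤ B := ⟨∑ i ∈ Finset.range (e + 2), |c i|,
    fun i hi => Finset.single_le_sum (f := fun i => |c i|) (fun _ _ => abs_nonneg _) (Finset.mem_range.2 (by omega))⟩
  set M := ((e + 1 : ℕ) : ℚ) * (1 + T) ^ (e + 1) * B with hM
  have hlip : ∀ s t : ℚ, 0 ≤ s → s ≤ t → t ≤ T → f t - f s ≤ M * (t - s) := fun s t hs hst ht =>
    (le_abs_self _).trans (g_lip hs hst ht hB (j := e + 1) (a := 0) (by omega))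
  have hf0 : f 0 = c 0 := g_at_zero c (e + 1) 0
  have hMpos : 0 < M := by
    have := hlip 0 T le_rfl (by linarith) le_rfl
    rw [hf0] at this
    by_contra h
    push Not at h
    nlinarith
  set δ := -c 0 / M with hδ
  have hδ0 : 0 < δ := div_pos (by linarith) hMpos
  obtain ⟨p, hp⟩ := exists_nat_gt (M / (c (e + 1) * δ ^ (e + 1)))
  have hp0 : (0 : ℚ) < p := lt_trans (div_pos hMpos (by positivity)) hp
  have hp' : 0 < p := by exact_mod_cast hp0
  classical
  have hex : ∃ q : ℕ, 0 < f ((q : ℚ) / p) := ⟨T * p, by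
    rw [Nat.cast_mul, mul_div_cancel_right₀ _ hp0.ne']; exact hfT⟩
  set q := Nat.find hex with hq
  have hqf : 0 < f ((q : ℚ) / p) := Nat.find_spec hex
  have hq0 : 0 < q := by
    by_contra h
    rw [Nat.eq_zero_of_not_pos h] at hqf
    simp only [Nat.cast_zero, zero_div] at hqf
    rw [hf0] at hqf
    linarith
  obtain ⟨q', hq'⟩ : ∃ q', q = q' + 1 := ⟨q - 1, by omega⟩
  have hqT : (q : ℚ) / p ≤ T := by
    rw [div_le_iff₀ hp0]
    have : q ≤ T * p := Nat.find_min' hex (by rw [Nat.cast_mul, mul_div_cancel_right₀ _ hp0.ne']; exact hfT)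
    exact_mod_cast this
  have hprev : f ((q' : ℚ) / p) ≤ 0 := not_lt.1 (Nat.find_min hex (by omega))
  have hstep : (q' : ℚ) / p ≤ (q : ℚ) / p := by gcongr; omega
  have h1 := hlip _ _ (by positivity) hstep hqT
  have hdiff : (q : ℚ) / p - (q' : ℚ) / p = 1 / p := by rw [hq']; push_cast; ring
  rw [hdiff] at h1
  have h2 := hlip 0 _ le_rfl (by positivity : (0 : ℚ) ≤ (q : ℚ) / p) hqT
  rw [hf0, sub_zero] at h2
  have hδq : δ ≤ (q : ℚ) / p := by
    rw [hδ, div_le_iff₀ hMpos]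
    nlinarith
  have h3 := (mul_le_mul_of_nonneg_left (pow_le_pow_left₀ hδ0.le hδq (e + 1)) htop.le).trans (hkey p q hp' hq0 hqf)
  have h4 : M * (1 / p) < c (e + 1) * δ ^ (e + 1) := by
    rw [mul_one_div, div_lt_iff₀ hp0]
    rw [div_lt_iff₀ (by positivity)] at hp
    linarith
  linarith

end Groth.Agent.Nakai
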