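import Groth.Agent.Nakai.Vanish
import Groth.Agent.Intersect.Asymp
import Groth.Agent.Intersect.Misc

/-!
Some power of an invertible module with positive top self-intersection has a nonzero section, if high
powers kill the cohomology of the modules supported on proper closed subsets.
-/

set_option autoImplicit false
set_option backward.isDefEq.respectTransparency false
set_option linter.style.haveILetI false
set_option linter.unusedSectionVars false

universe u

open CategoryTheory CategoryTheory.Limits AlgebraicGeometry TopologicalSpace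
open Groth.Agent.Intersect
open scoped Nat

noncomputable section

namespace Groth.Agent.Nakai

variable {X : Scheme.{u}} (k : Type u) [Field k] [X.Over (Spec (CommRingCat.of k))] [IsProper (X ↘ Spec (CommRingCat.of k))]

theorem exists_euler_le_h0 [IsIntegral X] {L : X.Modules} (hL : PicF.IsInvertible L)
    (hv : ∀ B : Set X, IsClosed B → genericPoint X ∉ B → Vanishes L B) :
    ∃ (n₀ : ℕ) (K : ℤ), ∀ n, n₀ ≤ n →
      Curv2.euler k X (CohB1.tensorPow L n) ≤ CurveRR.h k (CohB1.tensorPow L n) 0 + K := by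
  obtain ⟨n₀, h₀⟩ := eventually_const k hL hv
  obtain ⟨N₀, -, hN⟩ := CurveRR.exists_bound k X
  have hstab : ∀ n, n₀ ≤ n → ∀ i, CurveRR.h k (CohB1.tensorPow L n) (i + 2) =
      CurveRR.h k (CohB1.tensorPow L n₀) (i + 2) := fun n hn => by
    induction n, hn using Nat.le_induction with
    | base => exact fun i => rfl
    | succ n hn ih => exact fun i => (h₀ n hn i).trans (ih i)
  refine ⟨n₀, ∑ i ∈ Finset.range N₀, (CurveRR.h k (CohB1.tensorPow L n₀) (i + 2) : ℤ), fun n hn => ?_⟩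
  rw [CurveRR.euler_eq_sum (CohB1.tensorPow L n) (N₀ + 2)
    fun i hi => hN _ (TMul.isQCoh_of_isInvertible (TMul.isInvertible_tensorPow hL n)) i (by omega),
    Finset.sum_range_succ', Finset.sum_range_succ']
  have h1 : ∑ i ∈ Finset.range N₀, (-1 : ℤ) ^ (i + 1 + 1) * (CurveRR.h k (CohB1.tensorPow L n) (i + 1 + 1) : ℤ) ≤
      ∑ i ∈ Finset.range N₀, (CurveRR.h k (CohB1.tensorPow L n₀) (i + 2) : ℤ) :=
    Finset.sum_le_sum fun i _ => by
      rw [← hstab n hn i, show i + 1 + 1 = i + 2 from rfl]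
      rcases neg_one_pow_eq_or ℤ (i + 2) with e | e <;> rw [e]
      · rw [one_mul]
      · linarith [Int.natCast_nonneg (CurveRR.h k (CohB1.tensorPow L n) (i + 2))]
  have h2 : (0 : ℤ) ≤ (CurveRR.h k (CohB1.tensorPow L n) (0 + 1) : ℤ) := Int.natCast_nonneg _
  simp only [pow_zero, one_mul, Nat.zero_add, pow_one, neg_mul] at h2 ⊢
  linarith

theorem exists_section [IsIntegral X] {L : X.Modules} (hL : PicF.IsInvertible L) (d : ℕ)
    (hdim : topologicalKrullDim X = ((d + 1 : ℕ) : WithBot ℕ∞))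
    (hv : ∀ B : Set X, IsClosed B → genericPoint X ∉ B → Vanishes L B)
    (hpos : 0 < (-1 : ℚ) ^ (d + 1) * alt (χt k (Coh.structureModule X) fun _ : Fin (d + 1) => L)) :
    ∃ m, 0 < m ∧ ∃ s : Coh.structureModule X ⟶ CohB1.tensorPow L m, s ≠ 0 := by
  haveI := CurveRR.isNoetherian_of_proper k X
  obtain ⟨M, hM, ⟨e⟩⟩ := W7Hull.exists_tensor_inverse hL
  have hO : Coh.IsCoh (Coh.structureModule X) := RefStalk.isCoh_structureModule
  have hd : topologicalKrullDim (CohB1.support (Coh.structureModule X)) ≤ ((d + 1 : ℕ) : WithBot ℕ∞) :=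
    (dim_support_structure.trans hdim).le
  obtain ⟨C, hC, hb⟩ := binSum_sub_top k M (Coh.structureModule X) (d + 1)
  obtain ⟨n₀, K, hK⟩ := exists_euler_le_h0 k hL hv
  rw [← alt_inverse k (d + 1) (fun _ => L) (fun _ => M) (fun _ => hL) (fun _ => hM) (fun _ => ⟨e⟩)
    _ hO hd] at hpos
  set c := alt (χt k (Coh.structureModule X) fun _ : Fin (d + 1) => M) with hc
  have hf : (0 : ℚ) < ((d + 1) ! : ℚ) := by exact_mod_cast Nat.factorial_pos (d + 1)
  set c' := c / ((d + 1) ! : ℚ) with hc'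
  have hc'0 : 0 < c' := div_pos hpos hf
  obtain ⟨n, hn⟩ := exists_nat_gt ((C * 2 ^ d + |(K : ℚ)|) / c' + n₀ + 1)
  have hnn : n₀ + 1 ≤ n := by
    have : ((n₀ : ℚ) + 1) < n := lt_of_le_of_lt (by
      have : 0 ≤ (C * 2 ^ d + |(K : ℚ)|) / c' := by positivity
      linarith) hn
    exact_mod_cast this.le
  refine ⟨n, by omega, ?_⟩
  have h1 := hb n
  rw [← euler_pow_eq_binSum k hL hM e (d + 1) n _ hO (lt_succ_of_le' hd),
    CurveRR.euler_eq_of_iso (TMul.commIso (CohB1.tensorPow L n) (Coh.structureModule X) ≪≫ TMul.leftUnitIso _)] at h1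
  have hpos0 : 0 < CurveRR.h k (CohB1.tensorPow L n) 0 := by
    by_contra h0
    have hk : (Curv2.euler k X (CohB1.tensorPow L n) : ℚ) ≤ (K : ℚ) := by
      have := hK n (by omega)
      rw [Nat.eq_zero_of_not_pos h0] at this
      exact_mod_cast this.trans (by simp)
    have hn1 : (1 : ℚ) ≤ n := by exact_mod_cast (show 1 ≤ n by omega)
    have h3 : C * ((n : ℚ) + 1) ^ (d + 1 - 1) ≤ C * 2 ^ d * (n : ℚ) ^ d := by
      rw [mul_assoc, ← mul_pow, add_tsub_cancel_right]
      exact mul_le_mul_of_nonneg_left (pow_le_pow_left₀ (by positivity) (by linarith) _) hC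
    have h4 : c' * (n : ℚ) ^ (d + 1) ≤ (C * 2 ^ d + |(K : ℚ)|) * (n : ℚ) ^ d := by
      have h5 := (abs_le.1 h1).1
      have h6 : |(K : ℚ)| ≤ |(K : ℚ)| * (n : ℚ) ^ d := le_mul_of_one_le_right (abs_nonneg _) (one_le_pow₀ hn1)
      nlinarith [le_abs_self (K : ℚ)]
    have h7 : C * 2 ^ d + |(K : ℚ)| < c' * n := by
      have h : (C * 2 ^ d + |(K : ℚ)|) / c' < n := by linarith [(Nat.cast_nonneg n₀ : (0 : ℚ) ≤ n₀)]
      have := (div_lt_iff₀ hc'0).1 h
      linarith
    have h8 : (0 : ℚ) < (n : ℚ) ^ d := by positivity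
    rw [pow_succ] at h4
    nlinarith
  haveI : Nontrivial (Coh.HH X (CohB1.tensorPow L n) 0) := Module.nontrivial_of_finrank_pos hpos0
  letI := CurveRR.secMod k (CohB1.tensorPow L n) ⊤
  haveI : Nontrivial Γ(CohB1.tensorPow L n, ⊤) := (CurveRR.secH0 (k := k) (CohB1.tensorPow L n)).toEquiv.nontrivial
  obtain ⟨t, ht⟩ := exists_ne (0 : Γ(CohB1.tensorPow L n, ⊤))
  refine ⟨TMul.homOf t, fun h => ht ?_⟩
  have h9 := congrArg (fun ψ => TMul.val ψ ⊤) h
  simp only [TMul.val_homOf, Groth.Agent.QC.res_self] at h9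
  exact h9

end Groth.Agent.Nakai
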