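import Groth.Agent.Nakai.FlatGrowth
import Groth.Agent.Nakai.Vanish
import Groth.Agent.Horrocks.Koszul
import Groth.Agent.NegTwist.Sections
import Groth.Agent.Nakai.AmpleApps

/-!
Uniform vanishing for numerically trivial twists, and numerical invariance of the Euler characteristic,
on proper schemes with an ample module.
-/

set_option autoImplicit false
set_option backward.isDefEq.respectTransparency false
set_option linter.style.haveILetI false
set_option linter.unusedSectionVars false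

universe u

open CategoryTheory CategoryTheory.Limits AlgebraicGeometry TopologicalSpace
open Groth.Agent.Intersect
open Groth.Agent.CohFinite (tmap shortExact_tmap hhMap)
open Groth.Agent.Horrocks (UnitAt mu tP)

noncomputable section

namespace Groth.Agent.Nakai

attribute [local instance] clMonoid

section General

variable {X : Scheme.{u}}

/-- A twist can be moved along an isomorphism. -/
theorem tmap_natural {A B T T' : X.Modules} (φ : A ⟶ B) (e : T ⟶ T') :
    tmap φ T ≫ ((DCoh.tensorBi (X := X)).obj B).map e =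
      ((DCoh.tensorBi (X := X)).obj A).map e ≫ tmap φ T' :=
  TMul.hom_ext fun D a t => by
    refine (congrArg ((((DCoh.tensorBi (X := X)).obj B).map e).app D) (CohFinite.tmap_tm φ T a t)).trans ?_
    refine (W7Hull.map_tm B e _ t).trans ?_
    refine Eq.trans ?_ (congrArg ((tmap φ T').app D) (W7Hull.map_tm A e a t)).symm
    exact (CohFinite.tmap_tm φ T' a _).symm

/-- Surjective on global sections after twisting by `T`. -/
def Good {A B : X.Modules} (φ : A ⟶ B) (T : X.Modules) : Prop :=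
  Function.Surjective ((tmap φ T).app ⊤)

theorem Good.congr {A B : X.Modules} (φ : A ⟶ B) {T T' : X.Modules} (e : T ≅ T') (h : Good φ T) : Good φ T' :=
  fun v => by
    obtain ⟨u, hu⟩ := h ((((DCoh.tensorBi (X := X)).obj B).map e.inv).app ⊤ v)
    refine ⟨(((DCoh.tensorBi (X := X)).obj A).map e.hom).app ⊤ u, ?_⟩
    have h1 : (tmap φ T').app ⊤ ((((DCoh.tensorBi (X := X)).obj A).map e.hom).app ⊤ u) =
        (((DCoh.tensorBi (X := X)).obj B).map e.hom).app ⊤ ((tmap φ T).app ⊤ u) :=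
      congrArg (fun f => f.app ⊤ u) (tmap_natural φ e.hom).symm
    rw [h1, hu]
    have h2 : ((DCoh.tensorBi (X := X)).obj B).map e.inv ≫ ((DCoh.tensorBi (X := X)).obj B).map e.hom = 𝟙 _ := by
      rw [← Functor.map_comp, e.inv_hom_id, CategoryTheory.Functor.map_id]
    exact congrArg (fun f => f.app ⊤ v) h2

variable {P : X.Modules}

theorem cl_tP : ∀ (a : ℕ) (M : X.Modules), PicF.cl (tP P a M) = PicF.cl M * PicF.cl P ^ a
  | 0, M => by rw [pow_zero, mul_one]; rfl
  | a + 1, M => by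
    rw [show tP P (a + 1) M = tP P a (CohB1.tensorMod M P) from rfl, cl_tP a, cl_tensor, pow_succ']
    ac_rfl

/-- Castelnuovo–Mumford propagation of surjectivity. -/
theorem Good.step {A B : X.Modules} (φ : A ⟶ B) (hP : PicF.IsInvertible P)
    {l : List (P ⟶ Coh.structureModule X)} (hl : ∀ x : X, ∃ τ ∈ l, UnitAt τ x) (T : X.Modules)
    (hvan : ∀ q, 1 ≤ q → q ≤ l.length → Subsingleton (Coh.HH X (tP P (q + 1) (CohB1.tensorMod B T)) q))
    (h : Good φ (CohB1.tensorMod T P)) : Good φ T := by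
  let g := (tmap φ T).app ⊤
  have hg : ∀ t, t ∈ AddMonoidHom.range (AddMonoidHom.mk' (fun u => g u) fun a b => map_add _ a b) := fun t => by
    refine Horrocks.exists_mem_of_vanishing (F := CohB1.tensorMod B T) hP l hl hvan _ (fun τ _ w => ?_) t
    obtain ⟨u, hu⟩ := h ((TMul.assocIso B T P).hom.app ⊤ w)
    refine ⟨(mu τ (CohB1.tensorMod A T)).app ⊤ ((TMul.assocIso A T P).inv.app ⊤ u), ?_⟩
    show (tmap φ T).app ⊤ ((mu τ (CohB1.tensorMod A T)).app ⊤ _) = _
    have h1 : tmap (tmap φ T) P ≫ mu τ (CohB1.tensorMod B T) = mu τ (CohB1.tensorMod A T) ≫ tmap φ T :=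
      Horrocks.mu_natural τ _
    have h2 : (TMul.assocIso A T P).inv ≫ tmap (tmap φ T) P =
        tmap φ (CohB1.tensorMod T P) ≫ (TMul.assocIso B T P).inv := by
      rw [Iso.inv_comp_eq, ← Category.assoc, Iso.eq_comp_inv, tmap_assoc]
    refine (congrArg (fun f => f.app ⊤ ((TMul.assocIso A T P).inv.app ⊤ u)) h1).symm.trans ?_
    show (mu τ (CohB1.tensorMod B T)).app ⊤ ((tmap (tmap φ T) P).app ⊤ _) = _
    refine congrArg ((mu τ (CohB1.tensorMod B T)).app ⊤) ((congrArg (fun f => f.app ⊤ u) h2).trans ?_)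
    show (TMul.assocIso B T P).inv.app ⊤ ((tmap φ (CohB1.tensorMod T P)).app ⊤ u) = w
    rw [hu]
    exact congrArg (fun f => f.app ⊤ w) (TMul.assocIso B T P).hom_inv_id
  exact fun t => hg t

variable (k : Type u) [Field k] [X.Over (Spec (CommRingCat.of k))] [IsProper (X ↘ Spec (CommRingCat.of k))]

theorem surjective_of_injective_h1 {S : ShortComplex X.Modules} (hS : S.ShortExact)
    (h : Function.Injective (hhMap k S.f 1)) : Function.Surjective (S.g.app ⊤) := fun t => by
  let e := fun M : X.Modules =>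
    ((Sheaf.H.equiv₀ (Coh.toAb M) (Limits.isTerminalTop (α := X.Opens))).symm : Γ(M, ⊤) ≃+ Coh.HH X M 0)
  have h0 : CohFinite.δH (CohFinite.shortExact_toAb hS) 0 (e S.X₃ t) = 0 := by
    refine h ?_
    rw [map_zero]
    have h1 : (CohFinite.hhδ k hS 0) (e S.X₃ t) ∈ LinearMap.ker (hhMap k S.f 1) := by
      rw [← CurveRR.range_δ_eq_ker_f hS 0]
      exact LinearMap.mem_range_self _ _
    exact h1
  obtain ⟨y, hy⟩ := (CohFinite.δH_eq_zero_iff (CohFinite.shortExact_toAb hS) 0 (e S.X₃ t)).1 h0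
  obtain ⟨w, rfl⟩ := (e S.X₂).surjective y
  refine ⟨w, (e S.X₃).injective (Eq.trans ?_ hy)⟩
  exact (Sheaf.H.equiv₀_symm_naturality (Limits.isTerminalTop (α := X.Opens))
    ((SheafOfModules.toSheaf X.ringCatSheaf).map S.g) _).symm

theorem injective_h1_of_surjective {S : ShortComplex X.Modules} (hS : S.ShortExact)
    (h : Function.Surjective (S.g.app ⊤)) : Function.Injective (hhMap k S.f 1) := by
  let e := fun M : X.Modules =>
    ((Sheaf.H.equiv₀ (Coh.toAb M) (Limits.isTerminalTop (α := X.Opens))).symm : Γ(M, ⊤) ≃+ Coh.HH X M 0)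
  refine LinearMap.ker_eq_bot.1 ?_
  rw [← CurveRR.range_δ_eq_ker_f hS 0]
  refine LinearMap.range_eq_bot.2 (LinearMap.ext fun y => ?_)
  obtain ⟨t, rfl⟩ := (e S.X₃).surjective y
  obtain ⟨w, rfl⟩ := h t
  refine (CohFinite.δH_eq_zero_iff (CohFinite.shortExact_toAb hS) 0 (e S.X₃ _)).2 ⟨e S.X₂ w, ?_⟩
  exact Sheaf.H.equiv₀_symm_naturality (Limits.isTerminalTop (α := X.Opens))
    ((SheafOfModules.toSheaf X.ringCatSheaf).map S.g) w

end General

variable {X : Scheme.{u}} (k : Type u) [Field k] [X.Over (Spec (CommRingCat.of k))] [IsProper (X ↘ Spec (CommRingCat.of k))]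

theorem DegFlat.tensor {N M : X.Modules} (hN : DegFlat k N) (hM : DegFlat k M) (hiN : PicF.IsInvertible N) :
    DegFlat k (CohB1.tensorMod N M) := fun F hF hd => by
  have h1 := hN F hF hd
  have h2 := hM _ (isCoh_twist k hF hiN) ((dim_support_twist hF _).trans hd)
  rw [D_one, sub_eq_zero] at h1 h2 ⊢
  rw [h1, h2]
  exact congrArg _ (euler_congr k (by rw [cl_tensor, cl_tensor, cl_tensor, cl_tensor, mul_assoc]))

theorem degFlat_one : DegFlat k (Coh.structureModule X) := fun F _ _ => D_one_cons k F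

theorem DegFlat.pow {N : X.Modules} (hN : DegFlat k N) (hiN : PicF.IsInvertible N) :
    ∀ n : ℕ, DegFlat k (CohB1.tensorPow N n)
  | 0 => degFlat_one k
  | n + 1 => DegFlat.tensor k (DegFlat.pow hN hiN n) hN (TMul.isInvertible_tensorPow hiN n)

theorem DegFlat.inverse {N N' : X.Modules} (hN : DegFlat k N) (hiN' : PicF.IsInvertible N')
    (h : Nonempty (CohB1.tensorMod N N' ≅ Coh.structureModule X)) : DegFlat k N' := fun F hF hd => by
  have h1 := hN _ (isCoh_twist k hF hiN') ((dim_support_twist hF _).trans hd)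
  rw [D_one, sub_eq_zero, euler_congr k (show PicF.cl (CohB1.tensorMod (CohB1.tensorMod F N') N) = PicF.cl F by
    rw [cl_tensor, cl_tensor, mul_assoc, mul_comm (PicF.cl N'), cl_inv h, mul_one])] at h1
  rw [D_one, sub_eq_zero]
  exact h1.symm

/-- The Euler characteristic is unchanged by numerically trivial twists. -/
def Inv (F : X.Modules) : Prop :=
  ∀ N : X.Modules, PicF.IsInvertible N → DegFlat k N → Curv2.euler k X (CohB1.tensorMod F N) = Curv2.euler k X F

/-- Higher cohomology vanishes uniformly in numerically trivial twists. -/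
def VanU (H F : X.Modules) : Prop :=
  ∃ n₀ : ℕ, ∀ n, n₀ ≤ n → ∀ N : X.Modules, PicF.IsInvertible N → DegFlat k N → ∀ q : ℕ,
    Subsingleton (Coh.HH X (CohB1.tensorMod F (CohB1.tensorMod N (CohB1.tensorPow H n))) (q + 1))

theorem hh_congr {A B : X.Modules} (h : PicF.cl A = PicF.cl B) (q : ℕ) (hs : Subsingleton (Coh.HH X A q)) :
    Subsingleton (Coh.HH X B q) :=
  (iso_of_cl h).elim fun e => W7Hull.hh_subsingleton_of_retract e.hom e.inv e.inv_hom_id q hs

include k in
theorem exists_tau_family {H : X.Modules} (hH : CohB1.IsAmple H) :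
    ∃ (r : ℕ) (P : X.Modules), 0 < r ∧ PicF.IsInvertible P ∧
      Nonempty (CohB1.tensorMod (CohB1.tensorPow H r) P ≅ Coh.structureModule X) ∧
      ∃ l : List (P ⟶ Coh.structureModule X), ∀ x : X, ∃ τ ∈ l, UnitAt τ x := by
  classical
  haveI := CurveRR.isNoetherian_of_proper k X
  have := hH.2.1
  choose d t hxt using fun x : X =>
    let ⟨d, t, h, _, _⟩ := TMul.exists_mem_le hH (x := x) (U := ⊤) trivial
    (⟨d, t, h⟩ : ∃ (d : ℕ) (t : Coh.structureModule X ⟶ CohB1.tensorPow H (d + 1)), x ∈ CohB1.genLocus _ t)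
  obtain ⟨T, hT⟩ := isCompact_univ.elim_finite_subcover
    (fun x : X => ((CohB1.genLocus _ (t x) : X.Opens) : Set X)) (fun x => (CohB1.genLocus _ (t x)).2)
    (fun x _ => Set.mem_iUnion.mpr ⟨x, hxt x⟩)
  obtain ⟨N, hN⟩ : ∃ N, N + 1 = ∏ x ∈ T, (d x + 1) :=
    ⟨∏ x ∈ T, (d x + 1) - 1, Nat.sub_add_cancel (Finset.prod_pos fun _ _ => Nat.succ_pos _)⟩
  choose t' ht' using fun x : T => TMul.exists_genLocus_pow hH.1 (hN ▸ Finset.dvd_prod_of_mem _ x.2) (t x)
  obtain ⟨P, hP, hHP⟩ := W7Hull.exists_tensor_inverse (TMul.isInvertible_tensorPow hH.1 (N + 1))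
  obtain ⟨e⟩ := hHP
  choose τ hτ using fun x : T => NegTwist.exists_locus_map (TMul.isInvertible_tensorPow hH.1 (N + 1))
    (TMul.commIso P _ ≪≫ e) (t' x)
  refine ⟨N + 1, P, Nat.succ_pos N, hP, ⟨e⟩, T.attach.toList.map τ, fun x => ?_⟩
  obtain ⟨y, hy, hxy⟩ := Set.mem_iUnion₂.mp (hT (Set.mem_univ x))
  refine ⟨τ ⟨y, hy⟩, List.mem_map.2 ⟨_, Finset.mem_toList.2 (Finset.mem_attach _ _), rfl⟩,
    fun D g hg hx => (hτ ⟨y, hy⟩ D g hg x hx).1 ?_⟩
  rw [ht']
  exact hxy

include k in
theorem exists_tau_at {H : X.Modules} (hH : CohB1.IsAmple H) {T : X.Modules} (hT : PicF.IsInvertible T) (ξ : X) :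
    ∃ (j : ℕ) (P : X.Modules), PicF.IsInvertible P ∧
      Nonempty (CohB1.tensorMod (CohB1.tensorMod T (CohB1.tensorPow H j)) P ≅ Coh.structureModule X) ∧
      (∃ τ : P ⟶ Coh.structureModule X, UnitAt τ ξ) ∧
      ∃ (P₁ : X.Modules), PicF.IsInvertible P₁ ∧
        Nonempty (CohB1.tensorMod (CohB1.tensorPow H j) P₁ ≅ Coh.structureModule X) ∧
        ∃ τ : P₁ ⟶ Coh.structureModule X, UnitAt τ ξ := by
  haveI := CurveRR.isNoetherian_of_proper k X
  haveI := hH.2.1
  obtain ⟨m, σ, k₀, hσ, hk⟩ := NegTwist.exists_section_gen_finite hH hT (Set.finite_singleton ξ)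
  obtain ⟨t, ht⟩ := hk (k₀ + 1) (Nat.le_succ k₀)
  obtain ⟨σ', hσ'⟩ := TMul.exists_genLocus_pow hH.1 (N := (m + 1) * (k₀ + 1) - 1) (n := m)
    (by rw [Nat.sub_add_cancel (Nat.mul_pos (Nat.succ_pos m) (Nat.succ_pos k₀))]; exact dvd_mul_right _ _) σ
  have hj : (m + 1) * (k₀ + 1) - 1 + 1 = (m + 1) * (k₀ + 1) :=
    Nat.sub_add_cancel (Nat.mul_pos (Nat.succ_pos m) (Nat.succ_pos k₀))
  have hM := TMul.isInvertible_tensorMod hT (TMul.isInvertible_tensorPow (TMul.isInvertible_tensorPow hH.1 (m + 1)) (k₀ + 1))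
  obtain ⟨P, hP, ⟨e⟩⟩ := W7Hull.exists_tensor_inverse hM
  obtain ⟨P₁, hP₁, ⟨e₁⟩⟩ := W7Hull.exists_tensor_inverse (TMul.isInvertible_tensorPow hH.1 ((m + 1) * (k₀ + 1) - 1 + 1))
  obtain ⟨τ, hτ⟩ := NegTwist.exists_locus_map hM (TMul.commIso P _ ≪≫ e) t
  obtain ⟨τ₁, hτ₁⟩ := NegTwist.exists_locus_map (TMul.isInvertible_tensorPow hH.1 _) (TMul.commIso P₁ _ ≪≫ e₁) σ'
  refine ⟨(m + 1) * (k₀ + 1) - 1 + 1, P, hP, iso_of_cl ?_, ⟨τ, fun D g hg hx => (hτ D g hg ξ hx).1 (ht rfl)⟩,
    P₁, hP₁, ⟨e₁⟩, τ₁, fun D g hg hx => (hτ₁ D g hg ξ hx).1 (by rw [hσ']; exact hσ rfl)⟩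
  rw [hj, cl_tensor, cl_tensor, cl_pow, pow_mul, ← cl_pow H, ← cl_pow, cl_one]
  exact cl_inv ⟨e⟩

include k in
/-- Multiplication by a map which is a unit at the generic point of a piece. -/
theorem piece_mu [IsNoetherian X] {ξ : X} {R : X.Modules} (hR : Devissage.IsPiece ξ R) {P : X.Modules}
    (hP : PicF.IsInvertible P) {τ : P ⟶ Coh.structureModule X} (hτ : UnitAt τ ξ) :
    Mono (mu τ R) ∧ Devissage.IsSmall ξ (cokernel (mu τ R)) := by
  obtain ⟨j, hj⟩ := hR.exists_mono
  obtain ⟨Q, hQ, ⟨e⟩⟩ := W7Hull.exists_tensor_inverse hP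
  haveI : (CohB1.tensorMod R P).IsQuasicoherent := (isCoh_twist k hR.coh hP).1
  haveI hm : Mono (mu τ R) := by
    let K := kernel (mu τ R)
    let c : CohB1.tensorMod (CohB1.tensorMod R P) Q ≅ R :=
      TMul.assocIso R P Q ≪≫ PicGrp.tensorModIso (Iso.refl R) e ≪≫ TMul.commIso _ _ ≪≫ TMul.leftUnitIso R
    haveI : Mono (tmap (kernel.ι (mu τ R)) Q) :=
      (shortExact_tmap hQ (Devissage.cokSeq_shortExact (kernel.ι (mu τ R)))).mono_f
    haveI : Mono j := hj
    let ψ : CohB1.tensorMod K Q ⟶ Devissage.A ξ := tmap (kernel.ι (mu τ R)) Q ≫ c.hom ≫ j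
    haveI : Mono ψ := mono_comp _ _
    have hK : ξ ∉ CohB1.support K := fun h => h (subsingleton_of_forall_eq 0 fun v =>
      Groth.Agent.WeakAssLib.stalkHom_injective (kernel.ι (mu τ R)) ξ (by
        rw [map_zero]
        refine (Horrocks.mu_bijective hP hτ R).1 ?_
        rw [map_zero]
        show Groth.Agent.WeakAssLib.stalkHom (mu τ R) ξ (Groth.Agent.WeakAssLib.stalkHom (kernel.ι (mu τ R)) ξ v) = 0
        rw [← Devissage.stalkHom_comp, kernel.condition, Devissage.stalkHom_zero]))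
    have hKc : IsClosed (CohB1.support K) := by
      haveI := hR.coh.1
      exact Groth.Agent.QC.isClosed_support (Groth.Agent.QC.isCoh_of_mono (kernel.ι (mu τ R))
        (isCoh_twist k hR.coh hP) (Groth.Agent.QC.isQCoh_kernel (isCoh_twist k hR.coh hP).1 hR.coh.1 _)).2
    have hψ : ψ = 0 := by
      refine Scheme.Modules.hom_ext _ _ fun W => ?_
      ext t
      refine Devissage.A_sep ξ _ fun hξW => ?_
      rw [← Groth.Agent.WeakAssLib.stalkHom_germ, Devissage.germ_eq_zero_of_notMem hξW t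
        (fun h => hK (Intersect.support_tensor_subset hKc le_rfl Q h)), map_zero]
    refine Preadditive.mono_of_kernel_zero ((IsZero.eq_of_src ?_ _ _))
    have hz : IsZero (CohB1.tensorMod K Q) := IsZero.of_mono_eq_zero ψ hψ
    have hz' : IsZero (CohB1.tensorMod (CohB1.tensorMod K Q) P) := (IsZero.iff_id_eq_zero _).2
      (by rw [← CohFinite.tmap_id, hz.eq_of_src (𝟙 _) 0, CohFinite.tmap_zero])
    exact hz'.of_iso (TMul.assocIso K Q P ≪≫ PicGrp.tensorModIso (Iso.refl K) (TMul.commIso Q P ≪≫ e) ≪≫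
      TMul.commIso _ _ ≪≫ TMul.leftUnitIso K).symm
  exact ⟨hm, Devissage.isSmall_cokernel (mu τ R) hR.support_subset (Horrocks.mu_bijective hP hτ R).2⟩

/-- A numerically trivial twist changes the Euler characteristic of a twisted piece by a constant. -/
theorem euler_twist_shift [IsNoetherian X] {H : X.Modules} (hH : CohB1.IsAmple H) {e : ℕ} {ξ : X}
    (hξ : topologicalKrullDim (closure ({ξ} : Set X)) ≤ ((e + 1 : ℕ) : WithBot ℕ∞))
    (ih : ∀ F : X.Modules, Coh.IsCoh F → topologicalKrullDim (CohB1.support F) ≤ (e : WithBot ℕ∞) → Inv k F)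
    {R : X.Modules} (hR : Devissage.IsPiece ξ R) {N : X.Modules} (hN : PicF.IsInvertible N) (hf : DegFlat k N)
    {T : X.Modules} (hT : PicF.IsInvertible T) :
    Curv2.euler k X (CohB1.tensorMod R T) - Curv2.euler k X (CohB1.tensorMod R (CohB1.tensorMod T N)) =
      Curv2.euler k X R - Curv2.euler k X (CohB1.tensorMod R N) := by
  let δ : X.Modules → ℤ := fun U =>
    Curv2.euler k X (CohB1.tensorMod R U) - Curv2.euler k X (CohB1.tensorMod R (CohB1.tensorMod U N))
  have hδc : ∀ {U U' : X.Modules}, PicF.cl U = PicF.cl U' → δ U = δ U' := fun {U U'} h => by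
    simp only [δ]
    rw [euler_congr k (show PicF.cl (CohB1.tensorMod R U) = PicF.cl (CohB1.tensorMod R U') by
        rw [cl_tensor, cl_tensor, h]),
      euler_congr k (show PicF.cl (CohB1.tensorMod R (CohB1.tensorMod U N)) =
        PicF.cl (CohB1.tensorMod R (CohB1.tensorMod U' N)) by rw [cl_tensor, cl_tensor, cl_tensor, cl_tensor, h])]
  have key : ∀ (P : X.Modules), PicF.IsInvertible P → ∀ τ : P ⟶ Coh.structureModule X, UnitAt τ ξ →
      ∀ U : X.Modules, PicF.IsInvertible U → δ (CohB1.tensorMod P U) = δ U := fun P hP τ hτ U hU => by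
    obtain ⟨hm, hs⟩ := piece_mu k hR hP hτ
    haveI := hm
    have hRP := isCoh_twist k hR.coh hP
    have hQ := Groth.Agent.QC.isCoh_cokernel hRP.1 hR.coh (mu τ R)
    have hQd : topologicalKrullDim (CohB1.support (cokernel (mu τ R))) ≤ (e : WithBot ℕ∞) :=
      le_of_lt_succ' (dim_proper_lt (lt_succ_of_le' hξ) (Groth.Agent.QC.isClosed_support hQ.2) hs.1 hs.2)
    have add : ∀ W : X.Modules, PicF.IsInvertible W → Curv2.euler k X (CohB1.tensorMod R W) =
        Curv2.euler k X (CohB1.tensorMod R (CohB1.tensorMod P W)) +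
          Curv2.euler k X (CohB1.tensorMod (cokernel (mu τ R)) W) := fun W hW => by
      refine (CurveRR.euler_add (shortExact_tmap hW (Devissage.cokSeq_shortExact (mu τ R)))
        (isCoh_twist k hRP hW) (isCoh_twist k hR.coh hW) (isCoh_twist k hQ hW)).trans ?_
      exact congrArg (· + _) (euler_congr k (by rw [cl_tensor, cl_tensor, cl_tensor, cl_tensor, mul_assoc]))
    have h2 := add (CohB1.tensorMod U N) (TMul.isInvertible_tensorMod hU hN)
    have h3 : Curv2.euler k X (CohB1.tensorMod (cokernel (mu τ R)) (CohB1.tensorMod U N)) =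
        Curv2.euler k X (CohB1.tensorMod (cokernel (mu τ R)) U) := by
      rw [euler_congr k (show _ = PicF.cl (CohB1.tensorMod (CohB1.tensorMod (cokernel (mu τ R)) U) N) by
        rw [cl_tensor, cl_tensor, cl_tensor, cl_tensor, mul_assoc])]
      exact ih _ (isCoh_twist k hQ hU) ((dim_support_twist hQ _).trans hQd) N hN hf
    have h4 : Curv2.euler k X (CohB1.tensorMod R (CohB1.tensorMod (CohB1.tensorMod P U) N)) =
        Curv2.euler k X (CohB1.tensorMod R (CohB1.tensorMod P (CohB1.tensorMod U N))) :=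
      euler_congr k (by simp only [cl_tensor, mul_assoc])
    simp only [δ]
    rw [h4, add U hU, h2, h3]
    ring
  obtain ⟨T', hT', hTT'⟩ := W7Hull.exists_tensor_inverse hT
  obtain ⟨j, P, hP, hj, ⟨τ, hτ⟩, P₁, hP₁, hj₁, τ₁, hτ₁⟩ := exists_tau_at k hH hT' ξ
  have hHj := TMul.isInvertible_tensorPow hH.1 j
  have h1 := key P hP τ hτ _ (TMul.isInvertible_structureModule (X := X))
  have h2 := key P₁ hP₁ τ₁ hτ₁ T hT
  have h3 : δ (CohB1.tensorMod P₁ T) = δ (CohB1.tensorMod P (Coh.structureModule X)) := hδc (by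
    rw [cl_tensor, cl_tensor, cl_one, mul_one]
    have e1 := cl_inv hj
    rw [cl_tensor, cl_pow] at e1
    have e2 := cl_inv hj₁
    rw [cl_pow] at e2
    calc PicF.cl P₁ * PicF.cl T = PicF.cl P₁ * PicF.cl T * (PicF.cl T' * PicF.cl H ^ j * PicF.cl P) := by
          rw [e1, mul_one]
      _ = PicF.cl H ^ j * PicF.cl P₁ * (PicF.cl T * PicF.cl T') * PicF.cl P := by ac_rfl
      _ = PicF.cl P := by rw [e2, cl_inv hTT', one_mul, one_mul])
  have h0 : δ T = δ (Coh.structureModule X) := by rw [← h2, h3, h1]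
  refine h0.trans ?_
  simp only [δ]
  rw [euler_congr k (show PicF.cl (CohB1.tensorMod R (Coh.structureModule X)) = PicF.cl R by
      rw [cl_tensor, cl_one, mul_one]),
    euler_congr k (show PicF.cl (CohB1.tensorMod R (CohB1.tensorMod (Coh.structureModule X) N)) =
      PicF.cl (CohB1.tensorMod R N) by rw [cl_tensor, cl_tensor, cl_tensor, cl_one, one_mul])]

/-- The twist `N ⊗ H^n`. -/
def tH (H N : X.Modules) (n : ℕ) : X.Modules := CohB1.tensorMod N (CohB1.tensorPow H n)

omit [X.Over (Spec (CommRingCat.of k))] [IsProper (X ↘ Spec (CommRingCat.of k))] in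
theorem cl_tH (H N : X.Modules) (n : ℕ) : PicF.cl (tH H N n) = PicF.cl N * PicF.cl H ^ n := by
  rw [tH, cl_tensor, cl_pow]

theorem isInvertible_tH {H N : X.Modules} (hH : CohB1.IsAmple H) (hN : PicF.IsInvertible N) (n : ℕ) :
    PicF.IsInvertible (tH H N n) := TMul.isInvertible_tensorMod hN (TMul.isInvertible_tensorPow hH.1 n)

section Step

variable {H : X.Modules} {r : ℕ} {P : X.Modules}

theorem tH_shift (hcr : PicF.cl H ^ r * PicF.cl P = 1) (N : X.Modules) (n : ℕ) :
    PicF.cl (tH H N (n + r)) * PicF.cl P = PicF.cl (tH H N n) := by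
  rw [cl_tH, cl_tH, pow_add, mul_assoc, mul_assoc, hcr, mul_one]

theorem tH_source (hcr : PicF.cl H ^ r * PicF.cl P = 1) (R N : X.Modules) (n : ℕ) :
    PicF.cl (CohB1.tensorMod (CohB1.tensorMod R P) (tH H N (n + r))) = PicF.cl (CohB1.tensorMod R (tH H N n)) := by
  rw [cl_tensor, cl_tensor, cl_tensor, ← tH_shift hcr N n, mul_assoc, mul_comm (PicF.cl P)]

include k in
/-- Degrees at least two. -/
theorem high_vanish (hH : CohB1.IsAmple H) (hr : 0 < r) (hcr : PicF.cl H ^ r * PicF.cl P = 1) {R : X.Modules}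
    (hR : Coh.IsCoh R) (φ : CohB1.tensorMod R P ⟶ R) [Mono φ] {nQ : ℕ} {N : X.Modules} (hN : PicF.IsInvertible N)
    (hnQ : ∀ n, nQ ≤ n → ∀ q, Subsingleton (Coh.HH X (CohB1.tensorMod (cokernel φ) (tH H N n)) (q + 1)))
    {n : ℕ} (hn : nQ ≤ n) (i : ℕ) : Subsingleton (Coh.HH X (CohB1.tensorMod R (tH H N n)) (i + 2)) := by
  haveI := CurveRR.isNoetherian_of_proper k X
  have hbij : ∀ m, nQ ≤ m → CurveRR.h k (CohB1.tensorMod R (tH H N m)) (i + 2) =
      CurveRR.h k (CohB1.tensorMod R (tH H N (m + r))) (i + 2) := fun m hm => by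
    rw [← h_congr k (tH_source hcr R N m) (i + 2)]
    exact LinearEquiv.finrank_eq (LinearEquiv.ofBijective _ (bijective_f_of_subsingleton k
      (shortExact_tmap (isInvertible_tH hH hN (m + r)) (Devissage.cokSeq_shortExact φ)) (i + 1) (hnQ _ (by omega) i) (hnQ _ (by omega) (i + 1))))
  have hj : ∀ j, CurveRR.h k (CohB1.tensorMod R (tH H N n)) (i + 2) =
      CurveRR.h k (CohB1.tensorMod R (tH H N (n + j * r))) (i + 2) := fun j => by
    induction j with
    | zero => simp
    | succ j ih => rw [ih, hbij _ (hn.trans (Nat.le_add_right _ _)), Nat.succ_mul, Nat.add_assoc]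
  obtain ⟨n₀, h₀⟩ := CohFinite.vanish_ample (X ↘ Spec (CommRingCat.of k)) hH (isCoh_twist k hR hN)
  have hz := h₀ (n + n₀ * r) ((Nat.le_mul_of_pos_right n₀ hr).trans (Nat.le_add_left _ _)) (i + 1)
  have h := hj n₀
  rw [CurveRR.h_eq_zero (hh_congr (B := CohB1.tensorMod R (tH H N (n + n₀ * r))) (by rw [cl_tensor, cl_tensor, cl_tensor, cl_tH, cl_pow, mul_assoc]) _ hz)] at h
  haveI := CohFinite.finite_proper k X _ (isCoh_twist k hR (isInvertible_tH hH hN n)) (i + 2)
  exact Module.finrank_zero_iff.1 h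

include k in
/-- The first cohomology drops strictly until it vanishes. -/
theorem h1_vanish (hH : CohB1.IsAmple H) (hr : 0 < r) (hcr : PicF.cl H ^ r * PicF.cl P = 1)
    (hP : PicF.IsInvertible P) {R : X.Modules}
    (hR : Coh.IsCoh R) (φ : CohB1.tensorMod R P ⟶ R) [Mono φ] {l : List (P ⟶ Coh.structureModule X)}
    (hl : ∀ x : X, ∃ τ ∈ l, UnitAt τ x) {nQ : ℕ} {N : X.Modules} (hN : PicF.IsInvertible N)
    (hnQ : ∀ n, nQ ≤ n → ∀ q, Subsingleton (Coh.HH X (CohB1.tensorMod (cokernel φ) (tH H N n)) (q + 1)))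
    {n : ℕ} (hn : nQ + l.length * r ≤ n) {j : ℕ}
    (hj : CurveRR.h k (CohB1.tensorMod R (tH H N n)) 1 ≤ j) :
    Subsingleton (Coh.HH X (CohB1.tensorMod R (tH H N (n + j * r))) 1) := by
  haveI := CurveRR.isNoetherian_of_proper k X
  let a : ℕ → ℕ := fun i => CurveRR.h k (CohB1.tensorMod R (tH H N (n + i * r))) 1
  have hfin : ∀ i, Module.Finite k (Coh.HH X (CohB1.tensorMod R (tH H N i)) 1) := fun i =>
    CohFinite.finite_proper k X _ (isCoh_twist k hR (isInvertible_tH hH hN i)) 1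
  have hfin' : ∀ i, Module.Finite k (Coh.HH X (CohB1.tensorMod (CohB1.tensorMod R P) (tH H N i)) 1) := fun i =>
    CohFinite.finite_proper k X _ (isCoh_twist k (isCoh_twist k hR hP) (isInvertible_tH hH hN i)) 1
  have hsurj : ∀ m, nQ ≤ m → Function.Surjective (hhMap k (tmap φ (tH H N m)) 1) := fun m hm =>
    surjective_f_of_subsingleton k (shortExact_tmap (isInvertible_tH hH hN m) (Devissage.cokSeq_shortExact φ)) 1 (hnQ m hm 0)
  have hi : ∀ i, n + (i + 1) * r = n + i * r + r := fun i => by rw [Nat.succ_mul, Nat.add_assoc]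
  have hmono : ∀ i, a (i + 1) ≤ a i := fun i => by
    simp only [a]
    rw [hi, ← h_congr k (tH_source hcr R N (n + i * r)) 1]
    haveI := hfin' (n + i * r + r)
    have h1 := LinearMap.finrank_range_le (hhMap k (tmap φ (tH H N (n + i * r + r))) 1)
    rw [LinearMap.range_eq_top.2 (hsurj _ (by omega)), finrank_top] at h1
    exact h1
  have hgood : ∀ i i', i ≤ i' → Good (cokernel.π φ) (tH H N (n + i * r + r)) →
      Good (cokernel.π φ) (tH H N (n + i' * r + r)) := fun i i' hii h => by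
    induction hii with
    | refl => exact h
    | @step i' hle ih =>
      rw [hi]
      refine Good.step (cokernel.π φ) hP hl _ (fun q hq hql => ?_) ?_
      · obtain ⟨q', rfl⟩ := Nat.exists_eq_add_of_le' hq
        have hqr : (q' + 1) * r ≤ l.length * r := Nat.mul_le_mul_right r hql
        refine hh_congr ?_ _ (hnQ (n + i' * r + r + r - (q' + 1 + 1) * r) ?_ q')
        · rw [cl_tP, cl_tensor, cl_tensor, mul_assoc]
          congr 1
          have e : n + i' * r + r + r = n + i' * r + r + r - (q' + 1 + 1) * r + r * (q' + 1 + 1) := by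
            have e1 : (q' + 1 + 1) * r = (q' + 1) * r + r := Nat.succ_mul _ _
            rw [Nat.mul_comm r]
            omega
          conv_rhs => rw [cl_tH, e, pow_add, pow_mul, mul_assoc (PicF.cl N), mul_assoc, ← mul_pow, hcr, one_pow, mul_one]
          rw [cl_tH]
        · have e1 : (q' + 1 + 1) * r = (q' + 1) * r + r := Nat.succ_mul _ _
          omega
      · exact Good.congr _ (iso_of_cl (by rw [cl_tensor, tH_shift hcr])).some ih
  have heq : ∀ i, a (i + 1) = a i → ∀ i', i ≤ i' → a (i' + 1) = a i' := fun i hai i' hii => by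
    simp only [a] at hai ⊢
    rw [hi, ← h_congr k (tH_source hcr R N (n + i * r)) 1] at hai
    rw [hi, ← h_congr k (tH_source hcr R N (n + i' * r)) 1]
    haveI := hfin' (n + i * r + r)
    haveI := hfin (n + i * r + r)
    have hinj := (LinearMap.injective_iff_surjective_of_finrank_eq_finrank hai.symm).2 (hsurj _ (by omega))
    have hg := hgood i i' hii (surjective_of_injective_h1 k (shortExact_tmap (isInvertible_tH hH hN (n + i * r + r)) (Devissage.cokSeq_shortExact φ)) hinj)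
    have hinj' := injective_h1_of_surjective k (shortExact_tmap (isInvertible_tH hH hN (n + i' * r + r)) (Devissage.cokSeq_shortExact φ)) hg
    exact (LinearEquiv.finrank_eq (LinearEquiv.ofBijective _ ⟨hinj', hsurj _ (by omega)⟩)).symm
  obtain ⟨n₀, h₀⟩ := CohFinite.vanish_ample (X ↘ Spec (CommRingCat.of k)) hH (isCoh_twist k hR hN)
  have hz : a n₀ = 0 := CurveRR.h_eq_zero (hh_congr
    (by rw [cl_tensor, cl_tensor, cl_tensor, cl_tH, cl_pow, mul_assoc]) _
    (h₀ (n + n₀ * r) ((Nat.le_mul_of_pos_right n₀ hr).trans (Nat.le_add_left _ _)) 0))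
  have hdrop : ∀ i, a (i + 1) = a i → a i = 0 := fun i hai => by
    rcases le_or_gt i n₀ with hle | hlt
    · obtain ⟨d, rfl⟩ := Nat.exists_eq_add_of_le hle
      have : ∀ d, a (i + d) = a i := fun d => by
        induction d with
        | zero => rfl
        | succ d ih => rw [← Nat.add_assoc, heq i hai _ (Nat.le_add_right _ _), ih]
      rw [← this d, hz]
    · obtain ⟨d, rfl⟩ := Nat.exists_eq_add_of_le hlt.le
      clear hai hlt
      induction d with
      | zero => exact hz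
      | succ d ih => exact Nat.le_zero.1 ((hmono _).trans ih.le)
  have hle : ∀ i, a i ≤ j - i := fun i => by
    induction i with
    | zero => simp only [a, Nat.zero_mul, Nat.add_zero, Nat.sub_zero]; exact hj
    | succ i ih =>
      rcases (hmono i).lt_or_eq with h | h
      · omega
      · rw [h, hdrop i h]
        exact Nat.zero_le _
  haveI := hfin (n + j * r)
  exact Module.finrank_zero_iff.1 (Nat.le_zero.1 ((hle j).trans_eq (Nat.sub_self j)))

end Step

theorem euler_eq_two {F : X.Modules} (h : ∀ i, Subsingleton (Coh.HH X F (i + 2))) :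
    Curv2.euler k X F = (CurveRR.h k F 0 : ℤ) - CurveRR.h k F 1 := by
  rw [CurveRR.euler_eq_sum F 2 fun i hi => by
    obtain ⟨j, rfl⟩ := Nat.exists_eq_add_of_le' hi
    exact h j]
  simp [Finset.sum_range_succ]
  ring

/-- The case of a piece. -/
theorem unif_piece [IsNoetherian X] {H : X.Modules} (hH : CohB1.IsAmple H) {e : ℕ} {ξ : X}
    (hξ : topologicalKrullDim (closure ({ξ} : Set X)) ≤ ((e + 1 : ℕ) : WithBot ℕ∞))
    (ih : ∀ F : X.Modules, Coh.IsCoh F → topologicalKrullDim (CohB1.support F) ≤ (e : WithBot ℕ∞) →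
      Inv k F ∧ VanU k H F)
    {R : X.Modules} (hR : Devissage.IsPiece ξ R) : Inv k R ∧ VanU k H R := by
  obtain ⟨r, P, hr, hP, hHP, l, hl⟩ := exists_tau_family k hH
  obtain ⟨τ, -, hτ⟩ := hl ξ
  obtain ⟨hm, hs⟩ := piece_mu k hR hP hτ
  haveI := hm
  have hQ := Groth.Agent.QC.isCoh_cokernel (isCoh_twist k hR.coh hP).1 hR.coh (mu τ R)
  obtain ⟨-, nQ, hnQ⟩ := ih _ hQ
    (le_of_lt_succ' (dim_proper_lt (lt_succ_of_le' hξ) (Groth.Agent.QC.isClosed_support hQ.2) hs.1 hs.2))
  have hcr : PicF.cl H ^ r * PicF.cl P = 1 := by rw [← cl_pow]; exact cl_inv hHP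
  have hhigh : ∀ N, PicF.IsInvertible N → DegFlat k N → ∀ n, nQ ≤ n → ∀ i,
      Subsingleton (Coh.HH X (CohB1.tensorMod R (tH H N n)) (i + 2)) := fun N hN hf n hn i =>
    high_vanish k hH hr hcr hR.coh (mu τ R) hN (fun m hm q => hnQ m hm N hN hf q) hn i
  obtain ⟨C, hC, hb⟩ := flatBound k hH (e + 1) R hR.coh ((dim_mono hR.support_subset).trans hξ)
  have hb' : ∀ N, PicF.IsInvertible N → DegFlat k N → ∀ n,
      (CurveRR.h k (CohB1.tensorMod R (tH H N n)) 0 : ℤ) ≤ ⌈C * ((n : ℚ) + 1) ^ (e + 1)⌉ := fun N hN hf n => by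
    have h1 := (hb N hN hf n).trans (Int.le_ceil _)
    exact_mod_cast h1
  have hone : ∀ n, PicF.cl (CohB1.tensorMod R (tH H (CohB1.tensorPow (Coh.structureModule X) 0) n)) =
      PicF.cl (CohB1.tensorMod R (CohB1.tensorPow H n)) := fun n => by
    rw [cl_tensor, cl_tensor, cl_tH, cl_pow, cl_pow, pow_zero, one_mul]
  have hle : ∀ N, PicF.IsInvertible N → DegFlat k N →
      Curv2.euler k X (CohB1.tensorMod R N) ≤ Curv2.euler k X R := fun N hN hf => by
    by_contra hlt
    push Not at hlt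
    set d := Curv2.euler k X (CohB1.tensorMod R N) - Curv2.euler k X R
    have hlin : ∀ m : ℕ, Curv2.euler k X (CohB1.tensorMod R (tH H (CohB1.tensorPow N m) nQ)) =
        Curv2.euler k X (CohB1.tensorMod R (tH H (CohB1.tensorPow N 0) nQ)) + (m : ℤ) * d := fun m => by
      induction m with
      | zero => simp
      | succ m ihm =>
        have h := euler_twist_shift k hH hξ (fun F hF hd => (ih F hF hd).1) hR hN hf
          (isInvertible_tH hH (TMul.isInvertible_tensorPow hN m) nQ)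
        rw [euler_congr k (show PicF.cl (CohB1.tensorMod R (CohB1.tensorMod (tH H (CohB1.tensorPow N m) nQ) N)) =
          PicF.cl (CohB1.tensorMod R (tH H (CohB1.tensorPow N (m + 1)) nQ)) by
            simp only [cl_tensor, cl_tH, cl_pow, pow_succ]; ac_rfl)] at h
        push_cast
        linarith
    set B := ⌈C * ((nQ : ℚ) + 1) ^ (e + 1)⌉ - Curv2.euler k X (CohB1.tensorMod R (tH H (CohB1.tensorPow N 0) nQ))
    have h := hlin (B.toNat + 1)
    have hp := TMul.isInvertible_tensorPow hN (B.toNat + 1)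
    have hfp := hf.pow k hN (B.toNat + 1)
    rw [euler_eq_two k (hhigh _ hp hfp nQ le_rfl)] at h
    have h2 := hb' _ hp hfp nQ
    have h3 : ((B.toNat + 1 : ℕ) : ℤ) ≤ ((B.toNat + 1 : ℕ) : ℤ) * d :=
      le_mul_of_one_le_right (Int.natCast_nonneg _) (by omega)
    omega
  have hinv : Inv k R := fun N hN hf => by
    obtain ⟨N', hN', hNN'⟩ := W7Hull.exists_tensor_inverse hN
    have h1 := hle N' hN' (hf.inverse k hN' hNN')
    have h := euler_twist_shift k hH hξ (fun F hF hd => (ih F hF hd).1) hR hN hf hN'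
    rw [euler_congr k (show PicF.cl (CohB1.tensorMod R (CohB1.tensorMod N' N)) = PicF.cl R by
      rw [cl_tensor, cl_tensor, mul_comm (PicF.cl N'), cl_inv hNN', mul_one])] at h
    exact le_antisymm (hle N hN hf) (by omega)
  refine ⟨hinv, ?_⟩
  set B : ℕ → ℕ := fun n => (⌈C * ((n : ℚ) + 1) ^ (e + 1)⌉ - Curv2.euler k X (CohB1.tensorMod R (CohB1.tensorPow H n))).toNat
  set n₁ := nQ + l.length * r
  set J := (Finset.range r).sup fun t => B (n₁ + t)
  refine ⟨n₁ + r + J * r, fun m hm N hN hf q => ?_⟩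
  cases q with
  | succ q => exact hhigh N hN hf m (by omega) q
  | zero =>
    set t := (m - n₁) % r
    set j := (m - n₁) / r
    have htj : t + r * j = m - n₁ := Nat.mod_add_div _ _
    have ht : t < r := Nat.mod_lt _ hr
    have hJj : J ≤ j := Nat.lt_succ_iff.1 (Nat.lt_of_mul_lt_mul_left (a := r) (by
      rw [Nat.mul_succ, Nat.mul_comm r J]; omega))
    have hm' : m = n₁ + t + j * r := by rw [Nat.mul_comm j r]; omega
    rw [hm']
    refine h1_vanish k hH hr hcr hP hR.coh (mu τ R) hl hN (fun i hi q => hnQ i hi N hN hf q) (by omega)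
      (le_trans ?_ ((Finset.le_sup (f := fun t => B (n₁ + t)) (Finset.mem_range.2 ht)).trans hJj))
    have h := euler_eq_two k (hhigh N hN hf (n₁ + t) (by omega))
    have h2 := hb' N hN hf (n₁ + t)
    have h' := euler_twist_shift k hH hξ (fun F hF hd => (ih F hF hd).1) hR hN hf
      (TMul.isInvertible_tensorPow hH.1 (n₁ + t))
    rw [hinv N hN hf, sub_self, sub_eq_zero, euler_congr k (show PicF.cl (CohB1.tensorMod R
      (CohB1.tensorMod (CohB1.tensorPow H (n₁ + t)) N)) = PicF.cl (CohB1.tensorMod R (tH H N (n₁ + t))) by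
        rw [cl_tensor, cl_tensor, cl_tensor, cl_tH, cl_pow, mul_comm (PicF.cl N)])] at h'
    simp only [B]
    omega

/-- Numerical invariance of the Euler characteristic and uniform vanishing. -/
theorem unif {H : X.Modules} (hH : CohB1.IsAmple H) :
    ∀ (e : ℕ) (F : X.Modules), Coh.IsCoh F → topologicalKrullDim (CohB1.support F) ≤ (e : WithBot ℕ∞) →
      Inv k F ∧ VanU k H F := by
  haveI := CurveRR.isNoetherian_of_proper k X
  intro e
  induction e with
  | zero =>
    intro F hF hd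
    refine ⟨fun N hN _ => ?_, 0, fun n _ N hN _ q => ?_⟩
    · have h := D_eq_zero k (l := [N]) hF (by simp [hN]) (lt_succ_of_le' hd)
      rw [D_one, sub_eq_zero] at h
      exact_mod_cast h.symm
    · have hG := isCoh_twist k hF (isInvertible_tH hH hN n)
      exact SuppZero.subsingleton_hh_of_supported (Groth.Agent.QC.isClosed_support hG.2)
        (by simpa using (dim_support_twist hF _).trans hd) _ (fun x hx hx' => hx hx') (q + 1) (Nat.succ_pos q)
  | succ e ih =>
    intro F hF hd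
    refine Devissage.dev_core (fun A => Inv k A ∧ VanU k H A) (fun A hA => ?_)
      ⟨CohB1.support F, Groth.Agent.QC.isClosed_support hF.2⟩ (fun S hS h₁ h₂ h₃ _ ha hc => ?_)
      (fun ξ hξ _ R hR => ?_) F hF le_rfl
    · have hz : ∀ T, IsZero (CohB1.tensorMod A T) := fun T => (IsZero.iff_id_eq_zero _).2
        (by rw [← Groth.Agent.CohFinite.tmap_id, hA.eq_of_src (𝟙 A) 0, Groth.Agent.CohFinite.tmap_zero])
      refine ⟨fun N _ _ => ?_, 0, fun n _ N _ _ q => W7Hull.hh_subsingleton_of_isZero (hz _) _⟩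
      exact CurveRR.euler_eq_of_iso ((hz N).iso hA)
    · obtain ⟨i₁, n₁, v₁⟩ := ha
      obtain ⟨i₃, n₃, v₃⟩ := hc
      refine ⟨fun N hN hf => ?_, max n₁ n₃, fun n hn N hN hf q => ?_⟩
      · have a := CurveRR.euler_add (k := k) (shortExact_tmap hN hS) (isCoh_twist k h₁ hN) (isCoh_twist k h₂ hN)
          (isCoh_twist k h₃ hN)
        exact a.trans (((congrArg₂ (· + ·) (i₁ N hN hf) (i₃ N hN hf))).trans (CurveRR.euler_add (k := k) hS h₁ h₂ h₃).symm)
      · exact W7Hull.hh_subsingleton_middle (shortExact_tmap (isInvertible_tH hH hN n) hS) _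
          (v₁ n ((le_max_left _ _).trans hn) N hN hf q) (v₃ n ((le_max_right _ _).trans hn) N hN hf q)
    · exact unif_piece k hH ((dim_mono (closure_minimal (Set.singleton_subset_iff.2 hξ)
        (Groth.Agent.QC.isClosed_support hF.2))).trans hd) ih hR

/-- Sections of large twists of an ample power by numerically trivial modules. -/
theorem exists_h0_twist_flat [IsIntegral X] {H : X.Modules} (hH : CohB1.IsAmple H) :
    ∃ m₀ : ℕ, ∀ m, m₀ ≤ m → ∀ N : X.Modules, PicF.IsInvertible N → DegFlat k N →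
      CurveRR.h k (CohB1.tensorMod (CohB1.tensorPow H m) N) 0 = CurveRR.h k (CohB1.tensorPow H m) 0 ∧
        0 < CurveRR.h k (CohB1.tensorPow H m) 0 := by
  obtain ⟨d, hd⟩ := exists_dim_closure k (genericPoint X)
  rw [genericPoint_spec X, (Homeomorph.Set.univ X).isHomeomorph.topologicalKrullDim_eq] at hd
  obtain ⟨hinv, n₀, hn₀⟩ := unif k hH d _ (isCoh_one k) (dim_support_structure.trans hd).le
  obtain ⟨c, hc, e₀, he₀⟩ := ample_growth k hH TMul.isInvertible_structureModule d hd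
  refine ⟨max n₀ e₀, fun m hm N hN hf => ?_⟩
  have hm' := (le_max_left _ _).trans hm
  have hp := TMul.isInvertible_tensorPow hH.1 m
  have h1 : Curv2.euler k X (CohB1.tensorMod (CohB1.tensorPow H m) N) = CurveRR.h k (CohB1.tensorMod (CohB1.tensorPow H m) N) 0 :=
    CurveRR.euler_eq_h0 fun i hi => by
      obtain ⟨q, rfl⟩ := Nat.exists_eq_add_of_le' hi
      exact hh_congr (by rw [cl_tensor, cl_tensor, cl_tensor, cl_one, one_mul, mul_comm]) _ (hn₀ m hm' N hN hf q)
  have h2 : Curv2.euler k X (CohB1.tensorPow H m) = CurveRR.h k (CohB1.tensorPow H m) 0 :=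
    CurveRR.euler_eq_h0 fun i hi => by
      obtain ⟨q, rfl⟩ := Nat.exists_eq_add_of_le' hi
      exact hh_congr (by rw [cl_tensor, cl_tensor, cl_one, one_mul, one_mul]) _
        (hn₀ m hm' _ TMul.isInvertible_structureModule (degFlat_one k) q)
  obtain ⟨hI, -⟩ := unif k hH d _ (isCoh_inv k hp) ((topologicalKrullDim_subspace_le X _).trans hd.le)
  refine ⟨?_, ?_⟩
  · exact_mod_cast h1.symm.trans ((hI N hN hf).trans h2)
  · have := (he₀ m ((le_max_right _ _).trans hm)).2
    rwa [h_congr k (show PicF.cl (CohB1.tensorMod (CohB1.tensorPow H m) (Coh.structureModule X)) =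
      PicF.cl (CohB1.tensorPow H m) by rw [cl_tensor, cl_one, mul_one]) 0] at this

/-- Bigness gives sections of all numerically trivial twists of the multiples of one power. -/
theorem exists_pow_flat_pos [IsIntegral X] {L : X.Modules} (hK : Kod k L) (hL : PicF.IsInvertible L) (d : ℕ)
    (hd : topologicalKrullDim X = (d : WithBot ℕ∞)) :
    ∃ a : ℕ, 0 < a ∧ ∀ j : ℕ, 0 < j → ∀ N : X.Modules, PicF.IsInvertible N → DegFlat k N →
      0 < CurveRR.h k (CohB1.tensorMod (CohB1.tensorPow L (a * j)) N) 0 := by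
  obtain ⟨A, A', m, hA, hAA', hm, hpos⟩ := id hK
  obtain ⟨m₀, hm₀⟩ := exists_h0_twist_flat k hA
  obtain ⟨B', hB', hBB'⟩ := W7Hull.exists_tensor_inverse (TMul.isInvertible_tensorPow hA.1 (m₀ + 1))
  obtain ⟨a, ha, hpa⟩ := hK.all k hL d hd (TMul.isInvertible_tensorPow hA.1 (m₀ + 1)) hBB'
  refine ⟨a, ha, fun j hj N hN hf => ?_⟩
  have hE := TMul.isInvertible_tensorMod hB' (TMul.isInvertible_tensorPow hL a)
  have hmj : m₀ ≤ (m₀ + 1) * j := (Nat.le_succ m₀).trans (Nat.le_mul_of_pos_right _ hj)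
  obtain ⟨h1, h2⟩ := hm₀ _ hmj N hN hf
  refine (h0_pos_tensor k (TMul.isInvertible_tensorPow hE j)
    (TMul.isInvertible_tensorMod (TMul.isInvertible_tensorPow hA.1 _) hN) (h0_pos_pow k hE hpa j) (h1 ▸ h2)).trans_eq
    (h_congr k ?_ 0)
  have e := cl_inv hBB'
  rw [cl_pow] at e
  rw [cl_tensor, cl_tensor, cl_tensor, cl_pow, cl_tensor, cl_pow, cl_pow, cl_pow, mul_pow, ← pow_mul, pow_mul (PicF.cl A)]
  calc PicF.cl B' ^ j * PicF.cl L ^ (a * j) * ((PicF.cl A ^ (m₀ + 1)) ^ j * PicF.cl N)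
      = (PicF.cl A ^ (m₀ + 1) * PicF.cl B') ^ j * (PicF.cl L ^ (a * j) * PicF.cl N) := by rw [mul_pow]; ac_rfl
    _ = PicF.cl L ^ (a * j) * PicF.cl N := by rw [e, one_pow, one_mul]

end Groth.Agent.Nakai
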