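import Groth.Agent.Nakai.BigApps
import Groth.Agent.Nakai.NefAmple
import Groth.Agent.Nakai.SectionDim
import Mathlib.Order.Filter.ENNReal
import Mathlib.Topology.Instances.ENNReal.Lemmas

/-!
The volume of an invertible module: homogeneity and numerical invariance.
-/

set_option autoImplicit false
set_option backward.isDefEq.respectTransparency false
set_option linter.style.haveILetI false
set_option linter.unusedSectionVars false

universe u

open CategoryTheory CategoryTheory.Limits AlgebraicGeometry TopologicalSpace Filter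
open Groth.Agent.Intersect
open Groth.Agent.CohFinite (tmap shortExact_tmap)
open scoped ENNReal

noncomputable section

namespace Groth.Agent.Nakai

attribute [local instance] clMonoid

variable {X : Scheme.{u}} (k : Type u) [Field k] [X.Over (Spec (CommRingCat.of k))] [IsProper (X ↘ Spec (CommRingCat.of k))]
  [IsIntegral X]

/-- Sections of twists by two powers. -/
theorem exists_h0_biPow_le {A L : X.Modules} (hA : CohB1.IsAmple A) (hL : PicF.IsInvertible L)
    {F : X.Modules} (hF : Coh.IsCoh F) (e : ℕ) (hd : topologicalKrullDim (CohB1.support F) ≤ (e : WithBot ℕ∞)) :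
    ∃ C : ℚ, 0 ≤ C ∧ ∀ n w : ℕ,
      (CurveRR.h k (CohB1.tensorMod F (CohB1.tensorMod (CohB1.tensorPow L n) (CohB1.tensorPow A w))) 0 : ℚ) ≤
        C * ((n : ℚ) + w + 1) ^ e := by
  classical
  haveI := CurveRR.isNoetherian_of_proper k X
  obtain ⟨L', hL', hLL'⟩ := W7Hull.exists_tensor_inverse hL
  have hfin : {x : X | x ∈ (⊤ : X.Opens) ∧ Curv2.IsAssPoint F x}.Finite :=
    Groth.Agent.S1576.result X F hF ⊤ isCompact_univ
  obtain ⟨m, -, k₀, -, hk⟩ := NegTwist.exists_section_gen_finite hA hL' hfin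
  obtain ⟨t, ht⟩ := hk k₀ le_rfl
  let B := CohB1.tensorPow (CohB1.tensorPow A (m + 1)) k₀
  have hB : PicF.IsInvertible B := TMul.isInvertible_tensorPow (TMul.isInvertible_tensorPow hA.1 _) _
  obtain ⟨B', hB', hBB'⟩ := W7Hull.exists_tensor_inverse hB
  have hP := TMul.isInvertible_tensorMod hL hB'
  obtain ⟨eP⟩ : Nonempty (CohB1.tensorMod (CohB1.tensorMod L B') (CohB1.tensorMod L' B) ≅ Coh.structureModule X) := by
    refine iso_of_cl ?_
    rw [cl_tensor, cl_tensor, cl_tensor, cl_one, show PicF.cl L * PicF.cl B' * (PicF.cl L' * PicF.cl B) =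
      PicF.cl L * PicF.cl L' * (PicF.cl B * PicF.cl B') from by ac_rfl, cl_inv hLL', cl_inv hBB', mul_one]
  obtain ⟨τ, hτ⟩ := NegTwist.exists_locus_map (TMul.isInvertible_tensorMod hL' hB) eP t
  let M := (m + 1) * k₀
  let f : ℕ → ℕ → ℕ := fun i j =>
    CurveRR.h k (CohB1.tensorMod F (CohB1.tensorMod (CohB1.tensorPow L i) (CohB1.tensorPow A j))) 0
  have hclB : PicF.cl B = PicF.cl A ^ M := by simp only [B, M, cl_pow, ← pow_mul]
  have hstep : ∀ i j, f (i + 1) j ≤ f i (j + M) := fun i j => by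
    refine le_trans (le_of_eq (h_congr k ?_ 0)) (h0_down_le k hF
      (R := CohB1.tensorMod (CohB1.tensorPow L i) (CohB1.tensorPow A (j + M)))
      (TMul.isInvertible_tensorMod (TMul.isInvertible_tensorPow hL i) (TMul.isInvertible_tensorPow hA.1 (j + M)))
      hP hτ fun y hy => ht ⟨trivial, hy⟩)
    simp only [cl_tensor, cl_pow, pow_succ, pow_add]
    rw [← hclB, show PicF.cl F * (PicF.cl L ^ i * (PicF.cl A ^ j * PicF.cl B) * (PicF.cl L * PicF.cl B')) =
      PicF.cl F * (PicF.cl L ^ i * PicF.cl L * PicF.cl A ^ j) * (PicF.cl B * PicF.cl B') from by ac_rfl,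
      cl_inv hBB', mul_one]
  have hiter : ∀ i j, f i j ≤ f 0 (M * i + j) := fun i => by
    induction i with
    | zero => exact fun j => by rw [Nat.mul_zero, Nat.zero_add]
    | succ i ih => exact fun j => (hstep i j).trans ((ih (j + M)).trans_eq (by rw [Nat.mul_succ]; ring_nf))
  obtain ⟨C, hC, hC'⟩ := exists_h0_pow_le k hA hA.1 hF e hd
  refine ⟨C * ((M : ℚ) + 1) ^ e, by positivity, fun n w => ?_⟩
  have h1 : (f n w : ℚ) ≤ C * (((M * n + w : ℕ) : ℚ) + 1) ^ e := by
    refine (Nat.cast_le.2 (hiter n w)).trans (le_of_eq_of_le ?_ (hC' (M * n + w)))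
    exact congrArg Nat.cast (h_congr k (by simp only [cl_tensor, cl_pow, pow_zero, one_mul]) 0)
  refine h1.trans ?_
  show C * (((M * n + w : ℕ) : ℚ) + 1) ^ e ≤ C * ((M : ℚ) + 1) ^ e * ((n : ℚ) + w + 1) ^ e
  rw [mul_assoc C, ← mul_pow]
  refine mul_le_mul_of_nonneg_left (pow_le_pow_left₀ (by positivity) ?_ e) hC
  push_cast
  nlinarith [(Nat.cast_nonneg M : (0 : ℚ) ≤ M), (Nat.cast_nonneg n : (0 : ℚ) ≤ n), (Nat.cast_nonneg w : (0 : ℚ) ≤ w),
    mul_nonneg (Nat.cast_nonneg M : (0 : ℚ) ≤ M) (Nat.cast_nonneg w : (0 : ℚ) ≤ w)]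

/-- Twisting by `b` copies of an ample divisor costs at most `b` times a bound of lower degree. -/
theorem exists_h0_twist_le {A L : X.Modules} (hA : CohB1.IsAmple A) (hL : PicF.IsInvertible L) {e : ℕ}
    (hX : topologicalKrullDim X = ((e + 1 : ℕ) : WithBot ℕ∞)) (s : Coh.structureModule X ⟶ A) (hs : s ≠ 0) :
    ∃ C : ℚ, 0 ≤ C ∧ ∀ n b : ℕ,
      (CurveRR.h k (CohB1.tensorMod (CohB1.tensorPow L n) (CohB1.tensorPow A b)) 0 : ℚ) ≤
        CurveRR.h k (CohB1.tensorPow L n) 0 + (b : ℚ) * C * ((n : ℚ) + b + 1) ^ e := by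
  haveI := CurveRR.isNoetherian_of_proper k X
  haveI : Mono s := CurveRR.mono_of_ne_zero TMul.isInvertible_structureModule hA.1 s hs
  have hc := isCoh_coker k hA.1 s
  have hcd : topologicalKrullDim (CohB1.support (cokernel s)) ≤ (e : WithBot ℕ∞) := by
    refine le_of_lt_succ' (dim_proper_lt (ξ := genericPoint X) (n := e + 1) ?_ ?_ (fun x _ => ?_) ?_)
    · exact lt_succ_of_le' ((topologicalKrullDim_subspace_le X _).trans hX.le)
    · exact Groth.Agent.QC.isClosed_support hc.2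
    · rw [genericPoint_closure]
      trivial
    · exact CurveRR.notMem_support_coker s _ (CurveRR.surjective_stalk_generic hA.1 s hs)
  obtain ⟨C, hC, hb⟩ := exists_h0_biPow_le k hA hL hc e hcd
  refine ⟨C, hC, fun n b => ?_⟩
  induction b with
  | zero =>
    rw [h_congr k (show PicF.cl (CohB1.tensorMod (CohB1.tensorPow L n) (CohB1.tensorPow A 0)) =
      PicF.cl (CohB1.tensorPow L n) by rw [cl_tensor, cl_pow A, pow_zero, mul_one]) 0]
    simp
  | succ b ih =>
    have hT := TMul.isInvertible_tensorMod (TMul.isInvertible_tensorPow hL n) (TMul.isInvertible_tensorPow hA.1 b)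
    have h1 := (seq_facts k hA.1 hT s).2
    rw [h_congr k (show PicF.cl (CohB1.tensorMod A (CohB1.tensorMod (CohB1.tensorPow L n) (CohB1.tensorPow A b))) =
      PicF.cl (CohB1.tensorMod (CohB1.tensorPow L n) (CohB1.tensorPow A (b + 1))) by
        simp only [cl_tensor, cl_pow, pow_succ]; ac_rfl) 0] at h1
    have h2 : (CurveRR.h k (CohB1.tensorMod (CohB1.tensorPow L n) (CohB1.tensorPow A (b + 1))) 0 : ℚ) ≤
        CurveRR.h k (CohB1.tensorMod (CohB1.tensorPow L n) (CohB1.tensorPow A b)) 0 +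
          CurveRR.h k (CohB1.tensorMod (cokernel s) (CohB1.tensorMod (CohB1.tensorPow L n) (CohB1.tensorPow A b))) 0 := by
      exact_mod_cast h1
    have h3 := hb n b
    have h4 : ((n : ℚ) + b + 1) ^ e ≤ ((n : ℚ) + ((b + 1 : ℕ) : ℚ) + 1) ^ e :=
      pow_le_pow_left₀ (by positivity) (by push_cast; linarith) e
    have h5 := mul_le_mul_of_nonneg_left h4 hC
    have h6 := mul_le_mul_of_nonneg_left h4 (mul_nonneg (Nat.cast_nonneg b : (0 : ℚ) ≤ b) hC)
    push_cast at *
    nlinarith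

/-- The upper limit `h⁰(L^m)/m^d`. -/
def vol' (d : ℕ) (L : X.Modules) : ℝ≥0∞ :=
  limsup (fun m : ℕ => (CurveRR.h k (CohB1.tensorPow L m) 0 : ℝ≥0∞) / (m : ℝ≥0∞) ^ d) atTop

theorem natCast_pow_eq (m d : ℕ) : (m : ℝ≥0∞) ^ d = ((m ^ d : ℕ) : ℝ≥0∞) := (Nat.cast_pow m d).symm

theorem vol_pow {L A : X.Modules} (hL : PicF.IsInvertible L) (hA : CohB1.IsAmple A) (d : ℕ)
    (hd : topologicalKrullDim X = (d : WithBot ℕ∞)) {a : ℕ} (ha : 0 < a) :
    vol' k d (CohB1.tensorPow L a) = (a : ℝ≥0∞) ^ d * vol' k d L := by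
  set g : ℕ → ℕ := fun m => CurveRR.h k (CohB1.tensorPow L m) 0
  set u : ℕ → ℝ≥0∞ := fun m => (g m : ℝ≥0∞) / (m : ℝ≥0∞) ^ d
  have hgrp : ∀ j, CurveRR.h k (CohB1.tensorPow (CohB1.tensorPow L a) j) 0 = g (a * j) := fun j =>
    h_congr k (by rw [cl_pow, cl_pow, cl_pow, pow_mul]) 0
  have hapos : (a : ℝ≥0∞) ^ d ≠ 0 := pow_ne_zero _ (Nat.cast_ne_zero.2 ha.ne')
  have hatop : (a : ℝ≥0∞) ^ d ≠ ⊤ := ENNReal.pow_ne_top (ENNReal.natCast_ne_top a)
  have hscale : ∀ j, (CurveRR.h k (CohB1.tensorPow (CohB1.tensorPow L a) j) 0 : ℝ≥0∞) / (j : ℝ≥0∞) ^ d =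
      (a : ℝ≥0∞) ^ d * u (a * j) := fun j => by
    simp only [hgrp, u]
    rw [← mul_div_assoc, Nat.cast_mul, mul_pow, ENNReal.mul_div_mul_left _ _ hapos hatop]
  rw [vol', vol', funext hscale, ENNReal.limsup_const_mul_of_ne_top hatop]
  congr 1
  have hmul : Tendsto (fun j => a * j) atTop atTop := tendsto_atTop_mono (fun j => Nat.le_mul_of_pos_left j ha) tendsto_id
  refine le_antisymm ((limsup_comp u (fun j => a * j) atTop).trans_le (limsup_le_limsup_of_le hmul)) ?_
  rcases eq_or_ne (limsup u atTop) 0 with h0 | h0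
  · exact h0.trans_le bot_le
  obtain ⟨n₀, hn₀⟩ := (kod_of_limsup_pos k hL hA d hd (pos_iff_ne_zero.2 h0)).eventually_pos k hL d hd
  set W := limsup (fun j => u (a * j)) atTop
  have hK : ∀ N : ℕ, 0 < N → limsup u atTop ≤ ENNReal.ofReal (((N : ℝ) + 1) / N) ^ d * W := fun N hN => by
    let φ : ℕ → ℕ := fun m => m / a + n₀ + 1
    have hφ : Tendsto φ atTop atTop :=
      tendsto_atTop_mono (fun m => (Nat.le_add_right _ _).trans (Nat.le_add_right _ _)) (Nat.tendsto_div_const_atTop ha.ne')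
    have key : ∀ᶠ m in atTop, u m ≤ ENNReal.ofReal (((N : ℝ) + 1) / N) ^ d * u (a * φ m) := by
      refine eventually_atTop.2 ⟨N * (a * (n₀ + 1)) + 1, fun m hm => ?_⟩
      have h1 := Nat.div_add_mod m a
      have h2 := Nat.mod_lt m ha
      have h4 : a * φ m = a * (m / a) + a * (n₀ + 1) := by simp only [φ]; ring
      have h2' : m % a < a * (n₀ + 1) := h2.trans_le (Nat.le_mul_of_pos_right a (Nat.succ_pos n₀))
      have h5 : n₀ ≤ a * (n₀ + 1) - m % a := by
        have := Nat.le_mul_of_pos_left n₀ ha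
        rw [Nat.mul_succ]
        omega
      have hle : g m ≤ g (a * φ m) := by
        refine (h0_le_tensor k (TMul.isInvertible_tensorPow hL (a * (n₀ + 1) - m % a)) (TMul.isInvertible_tensorPow hL m)
          (hn₀ _ h5)).trans_eq (h_congr k ?_ 0)
        simp only [cl_tensor, cl_pow, ← pow_add]
        congr 1
        omega
      have hm0 : (0 : ℝ) < m := by exact_mod_cast (show 0 < m by omega)
      have hN0 : (0 : ℝ) < N := by exact_mod_cast hN
      have hM0 : (0 : ℝ) < ((a * φ m : ℕ) : ℝ) := by exact_mod_cast Nat.mul_pos ha (Nat.succ_pos _)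
      have hNle : (N : ℝ) * ((a * φ m : ℕ) : ℝ) ≤ ((N : ℝ) + 1) * m := by
        have h6 : N * (a * φ m) ≤ (N + 1) * m := by
          have h7 : N * (a * (m / a)) ≤ N * m := Nat.mul_le_mul_left N (Nat.mul_div_le m a)
          rw [h4, Nat.mul_add, Nat.succ_mul]
          omega
        exact_mod_cast h6
      have hreal : (g m : ℝ) / (m : ℝ) ^ d ≤
          (((N : ℝ) + 1) / N) ^ d * ((g (a * φ m) : ℝ) / ((a * φ m : ℕ) : ℝ) ^ d) := by
        have h7 : ((a * φ m : ℕ) : ℝ) ^ d ≤ (((N : ℝ) + 1) / N) ^ d * (m : ℝ) ^ d := by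
          rw [← mul_pow]
          refine pow_le_pow_left₀ hM0.le ?_ d
          rw [div_mul_eq_mul_div, le_div_iff₀ hN0]
          linarith
        rw [← mul_div_assoc, div_le_div_iff₀ (pow_pos hm0 d) (pow_pos hM0 d)]
        calc (g m : ℝ) * ((a * φ m : ℕ) : ℝ) ^ d ≤ (g (a * φ m) : ℝ) * ((((N : ℝ) + 1) / N) ^ d * (m : ℝ) ^ d) :=
              mul_le_mul (by exact_mod_cast hle) h7 (by positivity) (by positivity)
          _ = _ := by ring
      have e : ∀ j : ℕ, 0 < (j : ℝ) → u j = ENNReal.ofReal ((g j : ℝ) / (j : ℝ) ^ d) := fun j hj => by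
        rw [ENNReal.ofReal_div_of_pos (pow_pos hj d), ENNReal.ofReal_natCast, ENNReal.ofReal_pow hj.le,
          ENNReal.ofReal_natCast]
      rw [e m hm0, e _ hM0, ← ENNReal.ofReal_pow (by positivity), ← ENNReal.ofReal_mul (by positivity)]
      exact ENNReal.ofReal_le_ofReal hreal
    refine (limsup_le_limsup key (by isBoundedDefault) (by isBoundedDefault)).trans ?_
    rw [ENNReal.limsup_const_mul_of_ne_top (ENNReal.pow_ne_top ENNReal.ofReal_ne_top)]
    exact mul_le_mul' le_rfl ((limsup_comp (fun j => u (a * j)) φ atTop).trans_le (limsup_le_limsup_of_le hφ))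
  have hlim : Tendsto (fun N : ℕ => ENNReal.ofReal (((N : ℝ) + 1) / N) ^ d * W) atTop (nhds (1 * W)) := by
    refine ENNReal.Tendsto.mul_const ?_ (Or.inl one_ne_zero)
    have h1 : Tendsto (fun N : ℕ => ((N : ℝ) + 1) / N) atTop (nhds 1) := by
      have := (tendsto_const_nhds (x := (1 : ℝ))).add (tendsto_one_div_atTop_nhds_zero_nat (𝕜 := ℝ))
      rw [add_zero] at this
      refine this.congr' (eventually_atTop.2 ⟨1, fun N hN => ?_⟩)
      have : (N : ℝ) ≠ 0 := by exact_mod_cast (show N ≠ 0 by omega)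
      field_simp
    have h2 := ((ENNReal.continuous_ofReal.tendsto 1).comp h1)
    rw [ENNReal.ofReal_one] at h2
    have h3 := ENNReal.Tendsto.pow (n := d) h2
    rwa [one_pow] at h3
  rw [one_mul] at hlim
  exact ge_of_tendsto hlim (eventually_atTop.2 ⟨1, fun N hN => hK N hN⟩)

theorem vol_le_of_flat {L N : X.Modules} (hL : PicF.IsInvertible L) (hN : PicF.IsInvertible N)
    (hflat : ∀ F : X.Modules, Coh.IsCoh F → topologicalKrullDim (CohB1.support F) ≤ ((1 : ℕ) : WithBot ℕ∞) →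
      D k [N] F = 0)
    {A₀ : X.Modules} (hA₀ : CohB1.IsAmple A₀) {e : ℕ} (hd : topologicalKrullDim X = ((e + 1 : ℕ) : WithBot ℕ∞)) :
    vol' k (e + 1) L ≤ vol' k (e + 1) (CohB1.tensorMod L N) := by
  haveI := CurveRR.isNoetherian_of_proper k X
  have hnef : Nef k N := fun F hF hFd => by
    have h := hflat F hF hFd
    rw [D_one, sub_eq_zero] at h
    exact (Int.cast_inj.1 h).le
  -- an ample module with a section
  obtain ⟨c₁, -, e₀, he₀⟩ := ample_growth k hA₀ TMul.isInvertible_structureModule (e + 1) hd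
  let A := CohB1.tensorPow A₀ (e₀ + 1)
  have hA : CohB1.IsAmple A := TMul.isAmple_tensorPow hA₀ (Nat.succ_pos e₀)
  obtain ⟨s, hs⟩ := exists_section_of_h0 k (G := A) ((he₀ (e₀ + 1) (Nat.le_succ e₀)).2.trans_eq
    (h_congr k (by simp only [A, cl_tensor, cl_one, mul_one]) 0))
  have hM := TMul.isInvertible_tensorMod hL hN
  obtain ⟨C, hC, hbound⟩ := exists_h0_twist_le k hA hM hd s hs
  set u := fun m : ℕ => (CurveRR.h k (CohB1.tensorPow L m) 0 : ℝ≥0∞) / (m : ℝ≥0∞) ^ (e + 1)
  set W := vol' k (e + 1) (CohB1.tensorMod L N)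
  have hp : ∀ p : ℕ, 0 < p → limsup u atTop ≤ W + ENNReal.ofReal (2 * ((C : ℝ) * 3 ^ e) / p) := fun p hp => by
    have hQ := isAmple_nef_tensor k hA hN hnef hp one_pos
    obtain ⟨c₂, -, j₀, hj₀⟩ := ample_growth k hQ TMul.isInvertible_structureModule (e + 1) hd
    choose c₃ hc₃ r₀ hr₀ using fun r : ℕ => ample_growth k hA (TMul.isInvertible_tensorPow hN r) (e + 1) hd
    set c := ∑ r ∈ Finset.range p, r₀ r
    have key : ∀ᶠ m in atTop, u m ≤ (CurveRR.h k (CohB1.tensorPow (CohB1.tensorMod L N) m) 0 : ℝ≥0∞) /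
        (m : ℝ≥0∞) ^ (e + 1) + ENNReal.ofReal (2 * ((C : ℝ) * 3 ^ e) / p) := by
      refine eventually_atTop.2 ⟨p * (j₀ + c + 1), fun m hm => ?_⟩
      set j := m / p
      set r := m % p
      have hr : r < p := Nat.mod_lt m hp
      have hj : j₀ + c + 1 ≤ j := (Nat.le_div_iff_mul_le hp).2 (by rw [Nat.mul_comm]; exact hm)
      have hrc : r₀ r ≤ c := Finset.single_le_sum (f := r₀) (fun _ _ => Nat.zero_le _) (Finset.mem_range.2 hr)
      have hm' : m = p * j + r := (Nat.div_add_mod m p).symm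
      have heff : 0 < CurveRR.h k (CohB1.tensorMod (CohB1.tensorPow N m) (CohB1.tensorPow A (j + c))) 0 := by
        refine (h0_pos_tensor k (TMul.isInvertible_tensorMod (TMul.isInvertible_tensorPow hQ.1 j) TMul.isInvertible_structureModule)
          (TMul.isInvertible_tensorMod (TMul.isInvertible_tensorPow hA.1 c) (TMul.isInvertible_tensorPow hN r))
          (hj₀ j (by omega)).2 (hr₀ r c hrc).2).trans_eq (h_congr k ?_ 0)
        simp only [cl_tensor, cl_pow, cl_one, mul_one, mul_pow, ← pow_mul, one_mul, hm', pow_add]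
        ac_rfl
      have h1 : CurveRR.h k (CohB1.tensorPow L m) 0 ≤
          CurveRR.h k (CohB1.tensorMod (CohB1.tensorPow (CohB1.tensorMod L N) m) (CohB1.tensorPow A (j + c))) 0 := by
        refine (h0_le_tensor k (TMul.isInvertible_tensorMod (TMul.isInvertible_tensorPow hN m)
          (TMul.isInvertible_tensorPow hA.1 (j + c))) (TMul.isInvertible_tensorPow hL m) heff).trans_eq (h_congr k ?_ 0)
        simp only [cl_tensor, cl_pow, mul_pow]
        ac_rfl
      set g := CurveRR.h k (CohB1.tensorPow L m) 0 with hg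
      set g' := CurveRR.h k (CohB1.tensorPow (CohB1.tensorMod L N) m) 0 with hg'
      have hpj : p * j ≤ m := Nat.mul_div_le m p
      have hjm : j ≤ m := Nat.div_le_self m p
      have h2 : (g : ℚ) ≤ g' + ((j + c : ℕ) : ℚ) * C * ((m : ℚ) + ((j + c : ℕ) : ℚ) + 1) ^ e :=
        (Nat.cast_le.2 h1).trans (hbound m (j + c))
      have h3 : ((j + c : ℕ) : ℚ) * p ≤ 2 * m := by
        have : (j + c) * p ≤ 2 * m := by
          have h4 : (j + c) * p ≤ (2 * j) * p := Nat.mul_le_mul_right p (by omega)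
          have h5 : 2 * j * p = 2 * (p * j) := by ring
          omega
        exact_mod_cast this
      have h4 : (m : ℚ) + ((j + c : ℕ) : ℚ) + 1 ≤ 3 * m := by
        have : m + (j + c) + 1 ≤ 3 * m := by omega
        exact_mod_cast this
      have hp0 : (0 : ℚ) < p := by exact_mod_cast hp
      have hm0 : (0 : ℚ) < m := by exact_mod_cast (show 0 < m by omega)
      have h5 : (g : ℚ) ≤ g' + 2 * (C * 3 ^ e) / p * (m : ℚ) ^ (e + 1) := by
        refine h2.trans (add_le_add le_rfl ?_)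
        have h6 : ((j + c : ℕ) : ℚ) ≤ 2 * m / p := (le_div_iff₀ hp0).2 h3
        calc ((j + c : ℕ) : ℚ) * C * ((m : ℚ) + ((j + c : ℕ) : ℚ) + 1) ^ e
            ≤ (2 * m / p) * C * (3 * (m : ℚ)) ^ e := by gcongr
          _ = _ := by rw [mul_pow]; ring
      have h6 : (g : ℝ) ≤ g' + 2 * ((C : ℝ) * 3 ^ e) / p * (m : ℝ) ^ (e + 1) := by
        have := (Rat.cast_le (K := ℝ)).2 h5
        push_cast at this
        exact this
      have hmR : (0 : ℝ) < (m : ℝ) ^ (e + 1) := pow_pos (by exact_mod_cast (show 0 < m by omega)) _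
      have hC' : (0 : ℝ) ≤ 2 * ((C : ℝ) * 3 ^ e) / p := by positivity
      have hconv : ∀ t : ℕ, (t : ℝ≥0∞) / (m : ℝ≥0∞) ^ (e + 1) = ENNReal.ofReal ((t : ℝ) / (m : ℝ) ^ (e + 1)) := fun t => by
        rw [ENNReal.ofReal_div_of_pos hmR, ENNReal.ofReal_natCast, ENNReal.ofReal_pow (Nat.cast_nonneg m),
          ENNReal.ofReal_natCast]
      show (g : ℝ≥0∞) / (m : ℝ≥0∞) ^ (e + 1) ≤ (g' : ℝ≥0∞) / (m : ℝ≥0∞) ^ (e + 1) + _
      rw [hconv, hconv, ← ENNReal.ofReal_add (by positivity) hC']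
      refine ENNReal.ofReal_le_ofReal ?_
      rw [div_le_iff₀ hmR, add_mul, div_mul_cancel₀ _ hmR.ne']
      exact h6
    refine (limsup_le_limsup key (by isBoundedDefault) (by isBoundedDefault)).trans ?_
    exact (Monotone.map_limsup_of_continuousAt (f := fun x : ℝ≥0∞ => x + _) (fun _ _ h => add_le_add h le_rfl)
      (fun m : ℕ => (CurveRR.h k (CohB1.tensorPow (CohB1.tensorMod L N) m) 0 : ℝ≥0∞) / (m : ℝ≥0∞) ^ (e + 1))
      (continuous_id.add continuous_const).continuousAt).ge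
  have hlim : Tendsto (fun p : ℕ => W + ENNReal.ofReal (2 * ((C : ℝ) * 3 ^ e) / p)) atTop (nhds (W + 0)) := by
    refine tendsto_const_nhds.add ?_
    have h := (ENNReal.continuous_ofReal.tendsto 0).comp
      (tendsto_const_div_atTop_nhds_zero_nat (2 * ((C : ℝ) * 3 ^ e)))
    rw [ENNReal.ofReal_zero] at h
    exact h
  rw [add_zero] at hlim
  exact ge_of_tendsto hlim (eventually_atTop.2 ⟨1, fun p hp' => hp p hp'⟩)

/-- The volume depends only on the numerical class. -/
theorem vol_eq_of_numTriv {L N A : X.Modules} (hL : PicF.IsInvertible L) (hN : PicF.IsInvertible N)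
    (hn : Pic13.IsNumEquivZero k X N) (hA : CohB1.IsAmple A) (d : ℕ) (hd : topologicalKrullDim X = (d : WithBot ℕ∞)) :
    vol' k d (CohB1.tensorMod L N) = vol' k d L := by
  haveI := CurveRR.isNoetherian_of_proper k X
  have hM := TMul.isInvertible_tensorMod hL hN
  cases d with
  | zero =>
    haveI := subsingleton_of_dim_zero k (X := X) hd
    obtain ⟨e₁⟩ := nonempty_iso_one_of_subsingleton hN
    have h : PicF.cl N = 1 := by rw [← cl_one (X := X)]; exact (PicGrp.cl_eq_cl_iff _ _).2 ⟨e₁.symm⟩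
    simp only [vol']
    congr 1
    funext m
    rw [h_congr k (show PicF.cl (CohB1.tensorPow (CohB1.tensorMod L N) m) = PicF.cl (CohB1.tensorPow L m) by
      rw [cl_pow, cl_pow, cl_tensor, h, mul_one]) 0]
  | succ e =>
    obtain ⟨N', hN', hNN'⟩ := W7Hull.exists_tensor_inverse hN
    have hflat := fun F hF hFd => D_one_of_numTriv k hN hn (F := F) hF hFd
    refine le_antisymm ?_ (vol_le_of_flat k hL hN hflat hA hd)
    refine (vol_le_of_flat k hM hN' (fun F hF hFd => ?_) hA hd).trans_eq ?_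
    · have h := hflat _ (isCoh_twist k hF hN') ((dim_support_twist hF _).trans hFd)
      rw [D_one, sub_eq_zero, euler_congr k (show PicF.cl (CohB1.tensorMod (CohB1.tensorMod F N') N) = PicF.cl F by
        rw [cl_tensor, cl_tensor, mul_assoc, mul_comm (PicF.cl N'), cl_inv hNN', mul_one])] at h
      rw [D_one, sub_eq_zero]
      exact h.symm
    · simp only [vol']
      congr 1
      funext m
      rw [h_congr k (show PicF.cl (CohB1.tensorPow (CohB1.tensorMod (CohB1.tensorMod L N) N') m) =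
        PicF.cl (CohB1.tensorPow L m) by rw [cl_pow, cl_pow, cl_tensor, cl_tensor, mul_assoc, cl_inv hNN', mul_one]) 0]

end Groth.Agent.Nakai
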